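import Mathlib
import Cfsg.Agent.H907.Schur
import Cfsg.Agent.H914.Uni

set_option autoImplicit false
set_option linter.unusedSectionVars false

/-!
Subfields `K` of the algebra of `n × n` matrices over a finite field `F`, of degree `n` over `F`: cardinality, the
group of units, the determinant as a power.
-/

namespace Cfsg.Agent.H907

open Cfsg Cfsg.Geo Matrix
open scoped MatrixGroups

variable {ι : Type} [Fintype ι] [DecidableEq ι] {F : Type*} [Field F]

/-- In a finite cyclic group, `x ^ orderOf y = 1` makes `x` a power of `y`. -/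
theorem mem_zpowers_of_pow_eq_one {G : Type*} [Group G] [Finite G] [IsCyclic G] {x y : G} (h : x ^ orderOf y = 1) :
    x ∈ Subgroup.zpowers y := by
  classical
  have := Fintype.ofFinite G
  have h1 : (Finset.univ.filter fun z : G => z ^ orderOf y = 1).card ≤ orderOf y :=
    IsCyclic.card_pow_eq_one_le (orderOf_pos y)
  have h2 : (Finset.univ.filter fun z : G => z ∈ Subgroup.zpowers y) ⊆
      (Finset.univ.filter fun z : G => z ^ orderOf y = 1) := by
    intro z hz
    rw [Finset.mem_filter] at hz ⊢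
    refine ⟨Finset.mem_univ _, ?_⟩
    obtain ⟨k, rfl⟩ := hz.2
    show (y ^ k) ^ orderOf y = 1
    rw [← zpow_natCast, zpow_comm, zpow_natCast, pow_orderOf_eq_one, _root_.one_zpow]
  have h3 : (Finset.univ.filter fun z : G => z ∈ Subgroup.zpowers y).card = orderOf y := by
    rw [← Nat.card_zpowers y, Nat.card_eq_fintype_card, Fintype.card_subtype]
  have h4 := Finset.eq_of_subset_of_card_le h2 (by rw [h3]; exact h1)
  have h5 : x ∈ (Finset.univ.filter fun z : G => z ^ orderOf y = 1) := by simp [h]
  rw [← h4, Finset.mem_filter] at h5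
  exact h5.2

theorem isField_of {r : ℕ} {K : Subalgebra F (Matrix ι ι F)} [Nonempty ι] (hK : IsFieldSubalgebra r K) :
    IsField K where
  exists_pair_ne := ⟨0, 1, fun h => zero_ne_one (congrArg Subtype.val h)⟩
  mul_comm := fun a b => Subtype.ext (hK.comm a a.2 b b.2)
  mul_inv_cancel := by
    intro a ha
    obtain ⟨b, hb, hab⟩ := hK.inv a a.2 (fun h => ha (Subtype.ext h))
    exact ⟨⟨b, hb⟩, Subtype.ext hab⟩

/-- The invertible matrices in `K`. -/
def KU {r : ℕ} {K : Subalgebra F (Matrix ι ι F)} (hK : IsFieldSubalgebra r K) : Subgroup (GL ι F) where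
  carrier := {g | (g : Matrix ι ι F) ∈ K}
  mul_mem' := by
    intro a b ha hb
    show ((a * b : GL ι F) : Matrix ι ι F) ∈ K
    rw [Units.val_mul]
    exact K.mul_mem ha hb
  one_mem' := by
    show ((1 : GL ι F) : Matrix ι ι F) ∈ K
    rw [Units.val_one]; exact K.one_mem
  inv_mem' := by
    intro a ha
    show ((a⁻¹ : GL ι F) : Matrix ι ι F) ∈ K
    rcases isEmpty_or_nonempty ι with h | h
    · have : ((a⁻¹ : GL ι F) : Matrix ι ι F) = 1 := Subsingleton.elim _ _
      rw [this]; exact K.one_mem
    obtain ⟨b, hb, hab⟩ := hK.inv a ha a.ne_zero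
    have : ((a⁻¹ : GL ι F) : Matrix ι ι F) = b := by
      calc ((a⁻¹ : GL ι F) : Matrix ι ι F) = ((a⁻¹ : GL ι F) : Matrix ι ι F) * ((a : Matrix ι ι F) * b) := by
            rw [hab, mul_one]
        _ = b := by rw [← mul_assoc, ← Units.val_mul, inv_mul_cancel, Units.val_one, one_mul]
    rw [this]; exact hb

theorem mem_KU {r : ℕ} {K : Subalgebra F (Matrix ι ι F)} {hK : IsFieldSubalgebra r K} {g : GL ι F} :
    g ∈ KU hK ↔ (g : Matrix ι ι F) ∈ K := Iff.rfl

section finite

variable [Fintype F] [Nonempty ι] {r : ℕ} {K : Subalgebra F (Matrix ι ι F)} (hK : IsFieldSubalgebra r K)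
include hK

theorem card_K : Nat.card K = Fintype.card F ^ r := by
  rw [Module.natCard_eq_pow_finrank (K := F), hK.finrank_eq, Nat.card_eq_fintype_card]

theorem isCyclic_KU : IsCyclic (KU hK) := by
  let _ := (isField_of hK).toField
  let f : KU hK →* K :=
    { toFun := fun g => ⟨(g : GL ι F), g.2⟩
      map_one' := rfl
      map_mul' := fun _ _ => rfl }
  apply isCyclic_of_injective_ringHom f
  intro a b h
  exact Subtype.ext (Units.ext (congrArg Subtype.val h))

theorem card_KU : Nat.card (KU hK) = Fintype.card F ^ r - 1 := by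
  classical
  let e : KU hK ≃ {x : K // x ≠ 0} :=
    { toFun := fun g => ⟨⟨((g : GL ι F) : Matrix ι ι F), g.2⟩, fun h =>
        (g : GL ι F).ne_zero (congrArg Subtype.val h)⟩
      invFun := fun x =>
        ⟨⟨(x.1 : Matrix ι ι F), Classical.choose (hK.inv x.1 x.1.2 (fun h => x.2 (Subtype.ext h))),
          (Classical.choose_spec (hK.inv x.1 x.1.2 (fun h => x.2 (Subtype.ext h)))).2,
          by
            rw [hK.comm _ (Classical.choose_spec (hK.inv x.1 x.1.2 (fun h => x.2 (Subtype.ext h)))).1 _ x.1.2]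
            exact (Classical.choose_spec (hK.inv x.1 x.1.2 (fun h => x.2 (Subtype.ext h)))).2⟩, x.1.2⟩
      left_inv := fun g => Subtype.ext (Units.ext rfl)
      right_inv := fun x => Subtype.ext (Subtype.ext rfl) }
  have hfin : Finite K := inferInstance
  have h1 := card_K hK
  rw [Nat.card_congr e, ← h1]
  have : Fintype K := Fintype.ofFinite K
  rw [Nat.card_eq_fintype_card, Nat.card_eq_fintype_card, Fintype.card_subtype_compl, Fintype.card_subtype_eq]

theorem pow_card_sub_one {x : Matrix ι ι F} (hx : x ∈ K) (h0 : x ≠ 0) : x ^ (Fintype.card F ^ r - 1) = 1 := by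
  obtain ⟨y, hy, hxy⟩ := hK.inv x hx h0
  let g : GL ι F := ⟨x, y, hxy, by rw [hK.comm _ hy _ hx]; exact hxy⟩
  have h1 : (⟨g, hx⟩ : KU hK) ^ Nat.card (KU hK) = 1 := pow_card_eq_one'
  rw [card_KU hK] at h1
  have h2 := congrArg (fun z : KU hK => ((z : GL ι F) : Matrix ι ι F)) h1
  simpa [g] using h2

/-- Elements of `K` killed by the power `m` are powers of an element of order `m`. -/
theorem mem_zpowers_of_pow {x y : GL ι F} (hx : (x : Matrix ι ι F) ∈ K) (hy : (y : Matrix ι ι F) ∈ K)
    (h : x ^ orderOf y = 1) : x ∈ Subgroup.zpowers y := by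
  have := isCyclic_KU hK
  have hfin : Finite (KU hK) := inferInstance
  let X : KU hK := ⟨x, hx⟩
  let Y : KU hK := ⟨y, hy⟩
  have hY : orderOf Y = orderOf y := by
    rw [← orderOf_injective (KU hK).subtype (Subgroup.subtype_injective _) Y]
    rfl
  have h1 : X ∈ Subgroup.zpowers Y := by
    apply mem_zpowers_of_pow_eq_one
    rw [hY]
    exact Subtype.ext h
  obtain ⟨k, hk⟩ := h1
  exact ⟨k, congrArg Subtype.val hk⟩

end finite

section full

variable [Fintype F] [Nonempty ι] {K : Subalgebra F (Matrix ι ι F)} (hK : IsFieldSubalgebra (Fintype.card ι) K)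
include hK

omit [Fintype F] in
theorem det_eq_norm (x : K) : (x : Matrix ι ι F).det = Algebra.norm F x := by
  classical
  obtain ⟨i⟩ : Nonempty ι := inferInstance
  let v : ι → F := Pi.single i 1
  have hv : v ≠ 0 := fun h => by
    have := congrFun h i
    simp [v] at this
  let f : K →ₗ[F] (ι → F) :=
    { toFun := fun y => (y : Matrix ι ι F) *ᵥ v
      map_add' := fun a b => by simp [Matrix.add_mulVec]
      map_smul' := fun c a => by simp [Matrix.smul_mulVec] }
  have hinj : Function.Injective f := by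
    rw [injective_iff_map_eq_zero]
    intro a ha
    by_contra h0
    obtain ⟨y, hy, hay⟩ := hK.inv a a.2 (fun h => h0 (Subtype.ext h))
    apply hv
    have h2 : (a : Matrix ι ι F) *ᵥ v = 0 := ha
    have h3 : y *ᵥ ((a : Matrix ι ι F) *ᵥ v) = 0 := by rw [h2, Matrix.mulVec_zero]
    rwa [Matrix.mulVec_mulVec, hK.comm _ hy _ a.2, hay, Matrix.one_mulVec] at h3
  let e : K ≃ₗ[F] (ι → F) := LinearEquiv.ofBijective f ⟨hinj, by
    have h1 : Module.finrank F K = Module.finrank F (ι → F) := by
      rw [hK.finrank_eq, Module.finrank_fintype_fun_eq_card]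
    exact (LinearMap.injective_iff_surjective_of_finrank_eq_finrank h1).1 hinj⟩
  rw [← LinearMap.det_toLin', Algebra.norm_apply, ← LinearMap.det_conj _ e]
  congr 1
  apply LinearMap.ext
  intro w
  obtain ⟨k, rfl⟩ := e.surjective w
  simp only [LinearMap.coe_comp, LinearEquiv.coe_coe, Function.comp_apply, LinearEquiv.symm_apply_apply,
    Matrix.toLin'_apply]
  show (x : Matrix ι ι F) *ᵥ ((k : Matrix ι ι F) *ᵥ v) = ((x * k : K) : Matrix ι ι F) *ᵥ v
  rw [Matrix.mulVec_mulVec]
  rfl

/-- the determinant of an element of `K` is its norm -/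
theorem pow_eq_det {x : Matrix ι ι F} (hx : x ∈ K) :
    x ^ ((Fintype.card F ^ Fintype.card ι - 1) / (Fintype.card F - 1)) = x.det • (1 : Matrix ι ι F) := by
  have h1 := det_eq_norm hK ⟨x, hx⟩
  let _ := (isField_of hK).toField
  have h2 := FiniteField.algebraMap_norm_eq_pow (K := F) (K' := K) (x := (⟨x, hx⟩ : K))
  rw [card_K hK, Nat.card_eq_fintype_card] at h2
  have h3 := congrArg Subtype.val h2
  have h4 : ((algebraMap F K (Algebra.norm F (⟨x, hx⟩ : K)) : K) : Matrix ι ι F) =
      x.det • (1 : Matrix ι ι F) := by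
    rw [show x.det = _ from h1]
    rw [← Algebra.algebraMap_eq_smul_one]
    rfl
  rw [← h4, h3]
  rfl

end full

end Cfsg.Agent.H907
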