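import Mathlib
import Cfsg.Prelude.Def_GeometricClasses

set_option autoImplicit false

/-!
Basic vocabulary for subgroups of GL(ι, F) acting on column vectors: images of subspaces, invariant subspaces,
Schur type lemmas, a divisibility lemma.
-/

namespace Cfsg.Agent.H907

open Cfsg Cfsg.Geo Matrix
open scoped MatrixGroups

set_option linter.unusedSectionVars false

variable {ι : Type} [Fintype ι] [DecidableEq ι] {F : Type*} [Field F]

/-- image of a subspace under an invertible matrix -/
def act (g : GL ι F) (W : Submodule F (ι → F)) : Submodule F (ι → F) :=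
  W.map (Matrix.toLin' (g : Matrix ι ι F))

theorem mem_act {g : GL ι F} {W : Submodule F (ι → F)} {v : ι → F} :
    v ∈ act g W ↔ ∃ w ∈ W, (g : Matrix ι ι F) *ᵥ w = v := by
  simp [act, Submodule.mem_map]

theorem mulVec_mem_act {g : GL ι F} {W : Submodule F (ι → F)} {v : ι → F} (hv : v ∈ W) :
    (g : Matrix ι ι F) *ᵥ v ∈ act g W := mem_act.2 ⟨v, hv, rfl⟩

theorem inv_mulVec_mulVec (g : GL ι F) (v : ι → F) :
    ((g⁻¹ : GL ι F) : Matrix ι ι F) *ᵥ ((g : Matrix ι ι F) *ᵥ v) = v := by
  rw [Matrix.mulVec_mulVec, ← Units.val_mul, inv_mul_cancel, Units.val_one, Matrix.one_mulVec]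

theorem mulVec_inv_mulVec (g : GL ι F) (v : ι → F) :
    (g : Matrix ι ι F) *ᵥ (((g⁻¹ : GL ι F) : Matrix ι ι F) *ᵥ v) = v := by
  rw [Matrix.mulVec_mulVec, ← Units.val_mul, mul_inv_cancel, Units.val_one, Matrix.one_mulVec]

theorem mulVec_injective (g : GL ι F) : Function.Injective (fun v : ι → F => (g : Matrix ι ι F) *ᵥ v) := by
  intro v w h
  have := congrArg (fun u => ((g⁻¹ : GL ι F) : Matrix ι ι F) *ᵥ u) h
  simpa [inv_mulVec_mulVec] using this

theorem mem_act_iff {g : GL ι F} {W : Submodule F (ι → F)} {v : ι → F} :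
    v ∈ act g W ↔ ((g⁻¹ : GL ι F) : Matrix ι ι F) *ᵥ v ∈ W := by
  rw [mem_act]
  constructor
  · rintro ⟨w, hw, rfl⟩
    rwa [inv_mulVec_mulVec]
  · intro h
    exact ⟨_, h, mulVec_inv_mulVec g v⟩

@[simp] theorem act_one (W : Submodule F (ι → F)) : act 1 W = W := by
  ext v; simp [mem_act]

theorem act_mul (g h : GL ι F) (W : Submodule F (ι → F)) : act (g * h) W = act g (act h W) := by
  ext v
  simp only [mem_act]
  constructor
  · rintro ⟨w, hw, rfl⟩
    exact ⟨_, ⟨w, hw, rfl⟩, by rw [Units.val_mul, Matrix.mulVec_mulVec]⟩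
  · rintro ⟨_, ⟨w, hw, rfl⟩, rfl⟩
    exact ⟨w, hw, by rw [Units.val_mul, Matrix.mulVec_mulVec]⟩

theorem act_mono (g : GL ι F) {W U : Submodule F (ι → F)} (h : W ≤ U) : act g W ≤ act g U :=
  Submodule.map_mono h

theorem act_inv_act (g : GL ι F) (W : Submodule F (ι → F)) : act g⁻¹ (act g W) = W := by
  rw [← act_mul, inv_mul_cancel, act_one]

theorem act_act_inv (g : GL ι F) (W : Submodule F (ι → F)) : act g (act g⁻¹ W) = W := by
  rw [← act_mul, mul_inv_cancel, act_one]

theorem act_injective (g : GL ι F) : Function.Injective (act (ι := ι) (F := F) g) := by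
  intro U W h
  have := congrArg (act g⁻¹) h
  simpa [act_inv_act] using this

@[simp] theorem act_bot (g : GL ι F) : act g (⊥ : Submodule F (ι → F)) = ⊥ := Submodule.map_bot _

@[simp] theorem act_top (g : GL ι F) : act g (⊤ : Submodule F (ι → F)) = ⊤ := by
  rw [eq_top_iff]
  intro v _
  exact mem_act_iff.2 trivial

theorem act_le_act_iff (g : GL ι F) {W U : Submodule F (ι → F)} : act g W ≤ act g U ↔ W ≤ U := by
  refine ⟨fun h => ?_, act_mono g⟩
  have := act_mono g⁻¹ h
  simpa [act_inv_act] using this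

theorem act_inf (g : GL ι F) (W U : Submodule F (ι → F)) : act g (W ⊓ U) = act g W ⊓ act g U := by
  ext v; simp [mem_act_iff]

theorem act_sup (g : GL ι F) (W U : Submodule F (ι → F)) : act g (W ⊔ U) = act g W ⊔ act g U :=
  Submodule.map_sup _ _ _

theorem act_iSup {κ : Sort*} (g : GL ι F) (W : κ → Submodule F (ι → F)) :
    act g (⨆ i, W i) = ⨆ i, act g (W i) := Submodule.map_iSup _ _

theorem finrank_act (g : GL ι F) (W : Submodule F (ι → F)) :
    Module.finrank F (act g W) = Module.finrank F W := by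
  have h : Function.Injective (Matrix.toLin' (g : Matrix ι ι F)) := by
    intro v w h
    exact mulVec_injective g (by simpa [Matrix.toLin'_apply] using h)
  exact (LinearEquiv.finrank_eq (Submodule.equivMapOfInjective _ h W)).symm

theorem finrank_whole : Module.finrank F (ι → F) = Fintype.card ι := Module.finrank_fintype_fun_eq_card F

/-- `W` is mapped into itself by every element of `N`. -/
def Inv (N : Subgroup (GL ι F)) (W : Submodule F (ι → F)) : Prop :=
  ∀ g ∈ N, ∀ v ∈ W, (g : Matrix ι ι F) *ᵥ v ∈ W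

theorem Inv.act_eq {N : Subgroup (GL ι F)} {W : Submodule F (ι → F)} (h : Inv N W) {g : GL ι F} (hg : g ∈ N) :
    act g W = W := by
  apply le_antisymm
  · intro v hv
    obtain ⟨w, hw, rfl⟩ := mem_act.1 hv
    exact h g hg w hw
  · intro v hv
    rw [mem_act_iff]
    exact h g⁻¹ (N.inv_mem hg) v hv

theorem inv_iff_act {N : Subgroup (GL ι F)} {W : Submodule F (ι → F)} :
    Inv N W ↔ ∀ g ∈ N, act g W = W :=
  ⟨fun h _ hg => h.act_eq hg, fun h g hg v hv => by
    have := h g hg
    rw [← this]; exact mulVec_mem_act hv⟩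

theorem Inv.mono {N M : Subgroup (GL ι F)} {W : Submodule F (ι → F)} (h : Inv M W) (hN : N ≤ M) : Inv N W :=
  fun g hg => h g (hN hg)

theorem Inv.inf {N : Subgroup (GL ι F)} {W U : Submodule F (ι → F)} (hW : Inv N W) (hU : Inv N U) :
    Inv N (W ⊓ U) := fun g hg v hv => ⟨hW g hg v hv.1, hU g hg v hv.2⟩

theorem Inv.sup {N : Subgroup (GL ι F)} {W U : Submodule F (ι → F)} (hW : Inv N W) (hU : Inv N U) :
    Inv N (W ⊔ U) := by
  rw [inv_iff_act] at *
  intro g hg
  rw [act_sup, hW g hg, hU g hg]

theorem Inv.iSup {κ : Sort*} {N : Subgroup (GL ι F)} {W : κ → Submodule F (ι → F)} (hW : ∀ i, Inv N (W i)) :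
    Inv N (⨆ i, W i) := by
  simp only [inv_iff_act] at *
  intro g hg
  rw [act_iSup]
  exact iSup_congr fun i => hW i g hg

theorem Inv.conj {H N : Subgroup (GL ι F)} (hnorm : ∀ h ∈ H, ∀ n ∈ N, h⁻¹ * n * h ∈ N)
    {W : Submodule F (ι → F)} (hW : Inv N W) {h : GL ι F} (hh : h ∈ H) : Inv N (act h W) := by
  rw [inv_iff_act] at *
  intro g hg
  have h1 := hW _ (hnorm h hh g hg)
  calc act g (act h W) = act (h * (h⁻¹ * g * h)) W := by rw [← act_mul]; congr 1; group
    _ = act h W := by rw [act_mul, h1]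

theorem mem_matrixSet {R : Subgroup (GL ι F)} {g : GL ι F} (hg : g ∈ R) : (g : Matrix ι ι F) ∈ matrixSet R :=
  ⟨g, hg, rfl⟩

theorem irr_iff {N : Subgroup (GL ι F)} :
    ActsIrreducibly (matrixSet N) ↔ ∀ W : Submodule F (ι → F), Inv N W → W = ⊥ ∨ W = ⊤ := by
  constructor
  · intro h W hW
    apply h W
    rintro _ ⟨g, hg, rfl⟩
    intro v hv
    obtain ⟨w, hw, rfl⟩ := hv
    simpa [Matrix.toLin'_apply] using hW g hg w hw
  · intro h W hW
    apply h W
    intro g hg v hv
    have := hW _ (mem_matrixSet hg) (Submodule.mem_map_of_mem (f := Matrix.toLin' (g : Matrix ι ι F)) hv)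
    simpa [Matrix.toLin'_apply] using this

theorem irr_mono {N M : Subgroup (GL ι F)} (hNM : N ≤ M) (h : ActsIrreducibly (matrixSet N)) :
    ActsIrreducibly (matrixSet M) := by
  rw [irr_iff] at *
  exact fun W hW => h W (hW.mono hNM)

/-- Divisibility lemma: if every proper subspace `U` with a certain property `p` can be enlarged by an independent
subspace of dimension `m` (keeping the property) then `m` divides the dimension. -/
theorem dvd_card_of_extend (m : ℕ) (p : Submodule F (ι → F) → Prop) (hbot : p ⊥)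
    (hext : ∀ U, p U → U ≠ ⊤ → ∃ W, p (U ⊔ W) ∧ U ⊓ W = ⊥ ∧ Module.finrank F W = m ∧ W ≠ ⊥) :
    m ∣ Fintype.card ι := by
  classical
  -- choose p-subspace with m ∣ finrank of maximal finrank
  have key : ∀ k : ℕ, ∀ U : Submodule F (ι → F), p U → m ∣ Module.finrank F U →
      Fintype.card ι - Module.finrank F U ≤ k → m ∣ Fintype.card ι := by
    intro k
    induction k with
    | zero =>
      intro U hU hm hk
      have h1 : Module.finrank F U ≤ Fintype.card ι := by
        rw [← finrank_whole (ι := ι) (F := F)]; exact Submodule.finrank_le U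
      have h2 : Module.finrank F U = Fintype.card ι := by omega
      rwa [← h2]
    | succ k ih =>
      intro U hU hm hk
      by_cases hT : U = ⊤
      · subst hT
        rwa [finrank_top, finrank_whole] at hm
      · obtain ⟨W, h1, h2, h3, h4⟩ := hext U hU hT
        have h5 : Module.finrank F (U ⊔ W : Submodule F (ι → F)) = Module.finrank F U + m := by
          have := Submodule.finrank_sup_add_finrank_inf_eq U W
          rw [h2, finrank_bot, h3] at this
          omega
        have h6 : 0 < m := by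
          rw [← h3]
          exact Nat.pos_of_ne_zero (fun h => h4 (Submodule.finrank_eq_zero.1 h))
        apply ih (U ⊔ W) h1
        · rw [h5]; exact Dvd.dvd.add hm (dvd_refl m)
        · rw [h5]; omega
  exact key (Fintype.card ι) ⊥ hbot (by simp) (by simp)

end Cfsg.Agent.H907
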