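import Mathlib
import Cfsg.Agent.H907.Basic
import Cfsg.Agent.H918.UBase

set_option autoImplicit false
set_option linter.unusedSectionVars false

/-!
A computable model of the field with `p²` elements (pairs of natural numbers `(a, b)` standing for `a + bθ`,
`θ² = sθ + t`), of vectors and matrices of size three over it, and its semantics in a field `F`.
-/

namespace Cfsg.Agent.H907.Mdl

open Cfsg Cfsg.Geo Matrix Cfsg.Agent.H907
open scoped MatrixGroups

/-- parameters: characteristic `p`, relation `θ² = sθ + t` -/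
structure Par where
  p : ℕ
  s : ℕ
  t : ℕ

abbrev K := ℕ × ℕ
abbrev V := K × K × K
abbrev M := V × V × V

def kadd (c : Par) (x y : K) : K := ((x.1 + y.1) % c.p, (x.2 + y.2) % c.p)
def kmul (c : Par) (x y : K) : K :=
  ((x.1 * y.1 + c.t * (x.2 * y.2)) % c.p, (x.1 * y.2 + x.2 * y.1 + c.s * (x.2 * y.2)) % c.p)
def kneg (c : Par) (x : K) : K := (((c.p - 1) * x.1) % c.p, ((c.p - 1) * x.2) % c.p)
def kpow (c : Par) (x : K) : ℕ → K
  | 0 => (1, 0)
  | n + 1 => kmul c (kpow c x n) x
def keq (x y : K) : Bool := Nat.beq x.1 y.1 && Nat.beq x.2 y.2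
def kz (x : K) : Bool := Nat.beq x.1 0 && Nat.beq x.2 0
/-- reduced -/
def kred (c : Par) (x : K) : Bool := Nat.blt x.1 c.p && Nat.blt x.2 c.p

def dot (c : Par) (u v : V) : K :=
  kadd c (kadd c (kmul c u.1 v.1) (kmul c u.2.1 v.2.1)) (kmul c u.2.2 v.2.2)
def mv (c : Par) (m : M) (v : V) : V := (dot c m.1 v, dot c m.2.1 v, dot c m.2.2 v)
def tp (m : M) : M :=
  ((m.1.1, m.2.1.1, m.2.2.1), (m.1.2.1, m.2.1.2.1, m.2.2.2.1), (m.1.2.2, m.2.1.2.2, m.2.2.2.2))
def mm (c : Par) (a b : M) : M := tp (mv c a (tp b).1, mv c a (tp b).2.1, mv c a (tp b).2.2)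
def vcj (c : Par) (v : V) : V := (kpow c v.1 c.p, kpow c v.2.1 c.p, kpow c v.2.2 c.p)
def star (c : Par) (m : M) : M := tp (vcj c m.1, vcj c m.2.1, vcj c m.2.2)
def vsmul (c : Par) (k : K) (v : V) : V := (kmul c k v.1, kmul c k v.2.1, kmul c k v.2.2)
def msmul (c : Par) (k : K) (m : M) : M := (vsmul c k m.1, vsmul c k m.2.1, vsmul c k m.2.2)
def cross (c : Par) (u v : V) : V :=
  (kadd c (kmul c u.2.1 v.2.2) (kneg c (kmul c u.2.2 v.2.1)),
   kadd c (kmul c u.2.2 v.1) (kneg c (kmul c u.1 v.2.2)),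
   kadd c (kmul c u.1 v.2.1) (kneg c (kmul c u.2.1 v.1)))
def mdet (c : Par) (m : M) : K := dot c m.1 (cross c m.2.1 m.2.2)
def mtrace (c : Par) (m : M) : K := kadd c (kadd c m.1.1 m.2.1.2.1) m.2.2.2.2
def I3 : M := (((1, 0), (0, 0), (0, 0)), ((0, 0), (1, 0), (0, 0)), ((0, 0), (0, 0), (1, 0)))
def mpow (c : Par) (m : M) : ℕ → M
  | 0 => I3
  | n + 1 => mm c (mpow c m n) m

def vz (v : V) : Bool := kz v.1 && kz v.2.1 && kz v.2.2
def veq (u v : V) : Bool := keq u.1 v.1 && keq u.2.1 v.2.1 && keq u.2.2 v.2.2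
def vred (c : Par) (u : V) : Bool := kred c u.1 && kred c u.2.1 && kred c u.2.2
/-- normalising factor -/
def lead (v : V) : K := if kz v.1 then (if kz v.2.1 then v.2.2 else v.2.1) else v.1
def nrm (c : Par) (v : V) : V := vsmul c (kpow c (lead v) (c.p ^ 2 - 2)) v

/-- the matrix `m` maps the lines spanned by the members of `S` to lines spanned by members of `S` -/
def chk (c : Par) (S : List V) (m : M) : Bool :=
  S.all fun v => (fun w => S.any fun u => veq w u) (nrm c (mv c m v))

/-- the line spanned by `v` is not spanned by a member of `S` -/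
def chkNot (c : Par) (S : List V) (v : V) : Bool :=
  S.all fun u => !(vz (cross c v u))

def okS (c : Par) (S : List V) : Bool := S.all fun v => vred c v && !(vz v)

section sem

variable {F : Type*} [Field F] (c : Par) (θ : F)

def ev (x : K) : F := (x.1 : F) + (x.2 : F) * θ

/-- `θ` satisfies the relation in characteristic `p` and is not in the prime field. -/
structure Good (c : Par) (θ : F) : Prop where
  pos : 0 < c.p
  char : CharP F c.p
  root : θ ^ 2 = (c.s : F) * θ + (c.t : F)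
  indep : ∀ a b : ℕ, a < c.p → b < c.p → (a : F) + (b : F) * θ = 0 → a = 0 ∧ b = 0

variable {c θ} (hg : Good c θ)

section ev
include hg

theorem cast_mod (n : ℕ) : ((n % c.p : ℕ) : F) = (n : F) := by
  have := hg.char
  exact (CharP.cast_eq_mod F c.p n).symm

theorem cast_p : (c.p : F) = 0 := by
  have := hg.char
  exact CharP.cast_eq_zero F c.p

theorem ev_kadd (x y : K) : ev θ (kadd c x y) = ev θ x + ev θ y := by
  simp only [ev, kadd, cast_mod hg]
  push_cast
  ring

theorem ev_kmul (x y : K) : ev θ (kmul c x y) = ev θ x * ev θ y := by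
  simp only [ev, kmul, cast_mod hg]
  push_cast
  have h := hg.root
  linear_combination (-(x.2 : F) * y.2) * h

theorem ev_kneg (x : K) : ev θ (kneg c x) = - ev θ x := by
  simp only [ev, kneg, cast_mod hg]
  have h1 : ((c.p - 1 : ℕ) : F) = -1 := by
    rw [Nat.cast_sub hg.pos, cast_p hg, Nat.cast_one, zero_sub]
  push_cast
  rw [h1]
  ring

theorem ev_one : ev θ ((1, 0) : K) = 1 := by simp [ev]

theorem ev_zero : ev θ ((0, 0) : K) = 0 := by simp [ev]

theorem ev_kpow (x : K) (n : ℕ) : ev θ (kpow c x n) = ev θ x ^ n := by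
  induction n with
  | zero => simp [kpow, ev]
  | succ n ih => rw [kpow, ev_kmul hg, ih, pow_succ]

theorem ev_eq_zero {x : K} (hx : kred c x = true) (h : ev θ x = 0) : kz x = true := by
  simp only [kred, Bool.and_eq_true] at hx
  have h1 := hg.indep x.1 x.2 (Nat.blt_eq.mp hx.1) (Nat.blt_eq.mp hx.2) h
  simp [kz, h1.1, h1.2]

end ev

def toV (θ : F) (v : V) : Fin 3 → F := ![ev θ v.1, ev θ v.2.1, ev θ v.2.2]

def toM (θ : F) (m : M) : Matrix (Fin 3) (Fin 3) F := Matrix.of ![toV θ m.1, toV θ m.2.1, toV θ m.2.2]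

section mat
include hg

theorem toV_mv (m : M) (v : V) : toV θ (mv c m v) = toM θ m *ᵥ toV θ v := by
  ext i
  fin_cases i <;>
    simp [toV, toM, mv, dot, Matrix.mulVec, dotProduct, Fin.sum_univ_three, ev_kadd hg, ev_kmul hg]

theorem toM_tp (m : M) : toM θ (tp m) = (toM θ m)ᵀ := by
  ext i j
  fin_cases i <;> fin_cases j <;> simp [toV, toM, tp]

theorem toM_mm (a b : M) : toM θ (mm c a b) = toM θ a * toM θ b := by
  ext i j
  fin_cases i <;> fin_cases j <;>
    simp [toV, toM, mm, mv, tp, dot, Matrix.mul_apply, Fin.sum_univ_three, ev_kadd hg, ev_kmul hg]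

theorem toV_vsmul (k : K) (v : V) : toV θ (vsmul c k v) = ev θ k • toV θ v := by
  ext i
  fin_cases i <;> simp [toV, vsmul, ev_kmul hg]

theorem toM_msmul (k : K) (m : M) : toM θ (msmul c k m) = ev θ k • toM θ m := by
  ext i j
  fin_cases i <;> fin_cases j <;> simp [toV, toM, vsmul, msmul, ev_kmul hg]

theorem toM_I3 : toM θ I3 = 1 := by
  ext i j
  fin_cases i <;> fin_cases j <;> simp [toV, toM, I3, ev]

theorem toM_mpow (m : M) (n : ℕ) : toM θ (mpow c m n) = toM θ m ^ n := by
  induction n with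
  | zero => rw [mpow, toM_I3 hg, pow_zero]
  | succ n ih => rw [mpow, toM_mm hg, ih, pow_succ]

theorem toM_star (m : M) (i j : Fin 3) : toM θ (star c m) i j = (toM θ m j i) ^ c.p := by
  fin_cases i <;> fin_cases j <;> simp [toV, toM, tp, star, vcj, ev_kpow hg]

theorem ev_mdet (m : M) : ev θ (mdet c m) = (toM θ m).det := by
  rw [Matrix.det_fin_three]
  simp only [toV, toM, mdet, dot, cross, ev_kadd hg, ev_kmul hg, ev_kneg hg]
  simp
  ring

theorem ev_mtrace (m : M) : ev θ (mtrace c m) = (toM θ m).trace := by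
  rw [Matrix.trace, Fin.sum_univ_three]
  simp [toV, toM, mtrace, ev_kadd hg]

theorem toV_eq_zero {v : V} (hv : vred c v = true) (h : toV θ v = 0) : vz v = true := by
  simp only [vred, Bool.and_eq_true] at hv
  simp only [vz, Bool.and_eq_true]
  have h0 := congrFun h 0
  have h1 := congrFun h 1
  have h2 := congrFun h 2
  refine ⟨⟨ev_eq_zero hg hv.1.1 (by simpa [toV] using h0), ev_eq_zero hg hv.1.2 (by simpa [toV] using h1)⟩,
    ev_eq_zero hg hv.2 (by simpa [toV] using h2)⟩

theorem kred_kadd (x y : K) : kred c (kadd c x y) = true := by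
  simp only [kred, kadd, Bool.and_eq_true]
  exact ⟨Nat.blt_eq.mpr (Nat.mod_lt _ hg.pos), Nat.blt_eq.mpr (Nat.mod_lt _ hg.pos)⟩

theorem vred_cross (u v : V) : vred c (cross c u v) = true := by
  simp only [vred, cross, Bool.and_eq_true]
  exact ⟨⟨kred_kadd hg _ _, kred_kadd hg _ _⟩, kred_kadd hg _ _⟩

theorem toV_cross (u v : V) : toV θ (cross c u v) = crossProduct (toV θ u) (toV θ v) := by
  ext i
  fin_cases i <;> simp [toV, cross, ev_kadd hg, ev_kmul hg, ev_kneg hg, cross_apply] <;> ring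

end mat

/-- the line spanned by the vector with model `v` -/
def line (θ : F) (v : V) : Submodule F (Fin 3 → F) := F ∙ toV θ v

/-- the set of lines given by a list -/
def lineSet (θ : F) (S : List V) : Set (Submodule F (Fin 3 → F)) := {W | ∃ v ∈ S, W = line θ v}

theorem act_span (g : GL (Fin 3) F) (v : Fin 3 → F) :
    act g (F ∙ v) = F ∙ ((g : Matrix (Fin 3) (Fin 3) F) *ᵥ v) := by
  rw [act, Submodule.map_span, Set.image_singleton, Matrix.toLin'_apply]

/-- stabiliser of a set of subspaces -/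
def stab (S : Set (Submodule F (Fin 3 → F))) : Subgroup (GL (Fin 3) F) where
  carrier := {g | ∀ W, act g W ∈ S ↔ W ∈ S}
  mul_mem' := by
    intro a b ha hb W
    rw [act_mul, ha, hb]
  one_mem' := by intro W; rw [act_one]
  inv_mem' := by
    intro a ha W
    rw [← ha, act_act_inv]

theorem mem_stab {S : Set (Submodule F (Fin 3 → F))} {g : GL (Fin 3) F} :
    g ∈ stab S ↔ ∀ W, act g W ∈ S ↔ W ∈ S := Iff.rfl

theorem mem_stab_of_mapsTo {S : Set (Submodule F (Fin 3 → F))} (hS : S.Finite) {g : GL (Fin 3) F}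
    (h : ∀ W ∈ S, act g W ∈ S) : g ∈ stab S := by
  have hinj : Set.InjOn (act g) S := (act_injective g).injOn
  have hsub : act g '' S ⊆ S := by
    rintro _ ⟨W, hW, rfl⟩
    exact h W hW
  have heq : act g '' S = S :=
    Set.eq_of_subset_of_ncard_le hsub (by rw [hinj.ncard_image]) hS
  intro W
  constructor
  · intro hW
    rw [← heq] at hW
    obtain ⟨U, hU, hUW⟩ := hW
    rwa [← act_injective g hUW]
  · exact h W

theorem lineSet_finite (θ : F) (S : List V) : (lineSet θ S).Finite := by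
  have : lineSet θ S = (line θ) '' {v | v ∈ S} := by
    ext W
    constructor
    · rintro ⟨v, hv, rfl⟩; exact ⟨v, hv, rfl⟩
    · rintro ⟨v, hv, rfl⟩; exact ⟨v, hv, rfl⟩
  rw [this]
  exact (List.finite_toSet S).image _

theorem keq_eq {x y : K} (h : keq x y = true) : x = y := by
  simp only [keq, Bool.and_eq_true] at h
  exact Prod.ext (Nat.eq_of_beq_eq_true h.1) (Nat.eq_of_beq_eq_true h.2)

theorem veq_eq {x y : V} (h : veq x y = true) : x = y := by
  simp only [veq, Bool.and_eq_true] at h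
  exact Prod.ext (keq_eq h.1.1) (Prod.ext (keq_eq h.1.2) (keq_eq h.2))

include hg in
theorem mem_stab_of_chk {S : List V} (hS : okS c S = true) {m : M} (hm : chk c S m = true) {g : GL (Fin 3) F}
    (hgm : (g : Matrix (Fin 3) (Fin 3) F) = toM θ m) : g ∈ stab (lineSet θ S) := by
  apply mem_stab_of_mapsTo (lineSet_finite θ S)
  rintro _ ⟨v, hv, rfl⟩
  rw [line, act_span, hgm, ← toV_mv hg]
  rw [chk, List.all_eq_true] at hm
  have h1 := hm v hv
  simp only [List.any_eq_true] at h1
  obtain ⟨u, hu, huv⟩ := h1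
  have h2 := veq_eq huv
  refine ⟨u, hu, ?_⟩
  rw [line, ← h2, nrm, toV_vsmul hg]
  have h3 : ev θ (kpow c (lead (mv c m v)) (c.p ^ 2 - 2)) ≠ 0 := by
    intro h0
    rw [okS, List.all_eq_true] at hS
    have h4 := hS u hu
    simp only [Bool.and_eq_true] at h4
    have h5 : toV θ u = 0 := by
      rw [← h2, nrm, toV_vsmul hg, h0, zero_smul]
    have h6 := toV_eq_zero hg h4.1 h5
    rw [h6] at h4
    simp at h4
  exact (Submodule.span_singleton_smul_eq (IsUnit.mk0 _ h3) _).symm

include hg in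
theorem not_mem_stab_of_chk {S : List V} {m : M} {v : V} (hv : v ∈ S)
    (hm : chkNot c S (mv c m v) = true) {g : GL (Fin 3) F}
    (hgm : (g : Matrix (Fin 3) (Fin 3) F) = toM θ m) : g ∉ stab (lineSet θ S) := by
  intro h
  have h1 := (mem_stab.1 h (line θ v)).2 ⟨v, hv, rfl⟩
  rw [line, act_span, hgm, ← toV_mv hg] at h1
  obtain ⟨u, hu, huv⟩ := h1
  rw [chkNot, List.all_eq_true] at hm
  have h2 := hm u hu
  have h3 : toV θ (mv c m v) ∈ line θ u := by
    rw [← huv]
    exact Submodule.mem_span_singleton_self _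
  rw [line, Submodule.mem_span_singleton] at h3
  obtain ⟨a, ha⟩ := h3
  have h4 : toV θ (cross c (mv c m v) u) = 0 := by
    rw [toV_cross hg, ← ha, map_smul, LinearMap.smul_apply, cross_self, smul_zero]
  have h5 := toV_eq_zero hg (vred_cross hg _ _) h4
  rw [h5] at h2
  simp at h2

end sem

/-! ### unitary matrices -/

section unitary

open Cfsg.Agent.H918 Cfsg.Agent.LieClassical.HermBasic

/-- determinant one and unitary -/
def isSU (c : Par) (m : M) : Bool := (fun w : M => veq w.1 I3.1 && veq w.2.1 I3.2.1 && veq w.2.2 I3.2.2)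
  (mm c (star c m) m) && keq (mdet c m) (1, 0)

def meq (x y : M) : Bool := veq x.1 y.1 && veq x.2.1 y.2.1 && veq x.2.2 y.2.2

theorem meq_eq {x y : M} (h : meq x y = true) : x = y := by
  simp only [meq, Bool.and_eq_true] at h
  exact Prod.ext (veq_eq h.1.1) (Prod.ext (veq_eq h.1.2) (veq_eq h.2))

variable {F : Type*} [Field F] [Fintype F] {n q : ℕ} (hF : Fintype.card F = q ^ 2)
include hF

theorem herm_mulVec {A : Matrix (Fin n) (Fin n) F}
    (hA : ∀ i j, ∑ k, A k i * (A k j) ^ q = (1 : Matrix (Fin n) (Fin n) F) i j) (u v : Fin n → F) :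
    hermForm n F q (A *ᵥ u) (A *ᵥ v) = hermForm n F q u v := by
  have h1 : ∀ w : Fin n → F, A *ᵥ w = ∑ i, w i • (fun k => A k i) := by
    intro w
    ext k
    simp [Matrix.mulVec, dotProduct, Finset.sum_apply, mul_comm]
  rw [h1 u, h1 v, herm_sum_left]
  simp_rw [herm_smul_left, herm_sum_right hF, herm_smul_right]
  have h2 : ∀ i j, hermForm n F q (fun k => A k i) (fun k => A k j) = (1 : Matrix (Fin n) (Fin n) F) i j := by
    intro i j
    rw [herm_def]
    exact hA i j
  simp_rw [h2, Matrix.one_apply]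
  rw [herm_def]
  apply Finset.sum_congr rfl
  intro i _
  rw [Finset.sum_eq_single i]
  · simp
  · intro j _ hj
    simp [Ne.symm hj]
  · intro h
    exact absurd (Finset.mem_univ i) h

theorem mem_GU_of_cols {g : GL (Fin n) F}
    (h : ∀ i j, ∑ k, (g : Matrix (Fin n) (Fin n) F) k i * ((g : Matrix (Fin n) (Fin n) F) k j) ^ q =
      (1 : Matrix (Fin n) (Fin n) F) i j) : g ∈ Cfsg.GU n F q := by
  rw [mem_GU]
  exact herm_mulVec hF h

theorem cols_of_mem_GU {g : GL (Fin n) F} (hg : g ∈ Cfsg.GU n F q) (i j : Fin n) :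
    ∑ k, (g : Matrix (Fin n) (Fin n) F) k i * ((g : Matrix (Fin n) (Fin n) F) k j) ^ q =
      (1 : Matrix (Fin n) (Fin n) F) i j := by
  rw [mem_GU] at hg
  have h := hg (Pi.single i 1) (Pi.single j 1)
  rw [Matrix.mulVec_single_one, Matrix.mulVec_single_one, herm_def] at h
  rw [show ∑ k, (g : Matrix (Fin n) (Fin n) F) k i * ((g : Matrix (Fin n) (Fin n) F) k j) ^ q = _ from h,
    herm_single_right hF, Matrix.one_apply]
  rcases eq_or_ne i j with rfl | hij
  · simp
  · rw [Pi.single_eq_of_ne (Ne.symm hij), if_neg hij, zero_mul]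

omit hF in
theorem exists_SU {c : Par} {θ : F} (hg : Good c θ) (hF : Fintype.card F = c.p ^ 2) {m : M}
    (hm : isSU c m = true) : ∃ g : GL (Fin 3) F, g ∈ SUg 3 F c.p ∧ (g : Matrix (Fin 3) (Fin 3) F) = toM θ m := by
  simp only [isSU, Bool.and_eq_true] at hm
  have h1 : mm c (star c m) m = I3 := meq_eq (by simpa [meq] using hm.1)
  have h2 : (toM θ m).det = 1 := by
    rw [← ev_mdet hg, keq_eq hm.2, ev_one hg]
  have h3 : ∀ i j, ∑ k, (toM θ m) k j * ((toM θ m) k i) ^ c.p = (1 : Matrix (Fin 3) (Fin 3) F) i j := by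
    intro i j
    rw [← toM_I3 hg, ← h1, toM_mm hg, Matrix.mul_apply]
    apply Finset.sum_congr rfl
    intro k _
    rw [toM_star hg, mul_comm]
  refine ⟨Matrix.GeneralLinearGroup.mkOfDetNeZero (toM θ m) (by rw [h2]; exact one_ne_zero), ?_, rfl⟩
  rw [mem_SUg]
  refine ⟨herm_mulVec hF ?_, h2⟩
  intro i j
  rw [show (1 : Matrix (Fin 3) (Fin 3) F) i j = (1 : Matrix (Fin 3) (Fin 3) F) j i by
    rw [Matrix.one_apply, Matrix.one_apply]; simp [eq_comm]]
  exact h3 j i

end unitary

end Cfsg.Agent.H907.Mdl
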