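import Mathlib
import Cfsg.Agent.H907.Model
import Cfsg.Agent.H914.Uni
import Cfsg.Agent.H918.UProperTwo

set_option autoImplicit false
set_option linter.unusedSectionVars false

/-!
Tools for subgroups of `SU_3(q)`: transport by an element of the unitary group, orthonormal frames, monomial
matrices.
-/

namespace Cfsg.Agent.H907.SU3

open Cfsg Cfsg.Geo Matrix Cfsg.Agent.H907 Cfsg.Agent.H907.Mdl Cfsg.Agent.H918 Cfsg.Agent.LieClassical.HermBasic
open scoped MatrixGroups

variable {F : Type*} [Field F] [Fintype F] {q : ℕ}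

/-- Exclusion of a maximal subgroup by an overgroup, after conjugation by `P`. -/
theorem excl (hF : Fintype.card F = q ^ 2) {H L : Subgroup (GL (Fin 3) F)} (hH : IsMaximalIn (SUg 3 F q) H)
    {P : GL (Fin 3) F} (hP : P ∈ Cfsg.GU 3 F q) (h1 : ∀ h ∈ H, P⁻¹ * h * P ∈ L)
    (h2 : ∃ g ∈ SUg 3 F q, g ∉ L) (h3 : ∃ g ∈ SUg 3 F q, g ∈ L ∧ P * g * P⁻¹ ∉ H) : False := by
  have hc : ∀ g ∈ SUg 3 F q, P * g * P⁻¹ ∈ SUg 3 F q := fun g hg =>
    conj_mem_SUg hF (GU_le_similarityGroup hF hP) hg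
  rcases hH.2 (L.map (MulAut.conj P).toMonoidHom ⊓ SUg 3 F q) (by
      intro h hh
      refine ⟨⟨P⁻¹ * h * P, h1 h hh, ?_⟩, hH.1.le hh⟩
      simp [MulAut.conj_apply, mul_assoc]) inf_le_right with hM | hM
  · obtain ⟨g, hg, hgL, hgH⟩ := h3
    apply hgH
    rw [← hM]
    exact ⟨⟨g, hgL, rfl⟩, hc g hg⟩
  · obtain ⟨g, hg, hgL⟩ := h2
    apply hgL
    have h4 : P * g * P⁻¹ ∈ L.map (MulAut.conj P).toMonoidHom ⊓ SUg 3 F q := by
      rw [hM]; exact hc g hg
    obtain ⟨⟨l, hl, hlg⟩, -⟩ := h4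
    have h5 : P * l * P⁻¹ = P * g * P⁻¹ := hlg
    have h6 : l = g := by
      have := congrArg (fun x => P⁻¹ * x * P) h5
      simpa [mul_assoc] using this
    rw [← h6]; exact hl

/-- An orthonormal family of vectors is the family of columns of a unitary matrix. -/
theorem exists_GU_of_orthonormal (hF : Fintype.card F = q ^ 2) {n : ℕ} (w : Fin n → Fin n → F)
    (hw : ∀ i j, hermForm n F q (w i) (w j) = if i = j then 1 else 0) :
    ∃ P ∈ Cfsg.GU n F q, ∀ i, (P : Matrix (Fin n) (Fin n) F) *ᵥ Pi.single i 1 = w i := by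
  let A : Matrix (Fin n) (Fin n) F := (Matrix.of w)ᵀ
  have hA : ∀ i j, ∑ k, A k i * (A k j) ^ q = (1 : Matrix (Fin n) (Fin n) F) i j := by
    intro i j
    have := hw i j
    rw [herm_def] at this
    rw [Matrix.one_apply, ← this]
    rfl
  have h1 : Aᵀ * (Matrix.of fun i j => (A i j) ^ q) = 1 := by
    ext i j
    rw [Matrix.mul_apply, ← hA i j]
    rfl
  have hdet : A.det ≠ 0 := by
    intro h0
    have h2 := congrArg Matrix.det h1
    rw [Matrix.det_mul, Matrix.det_transpose, h0, zero_mul, Matrix.det_one] at h2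
    exact zero_ne_one h2
  refine ⟨Matrix.GeneralLinearGroup.mkOfDetNeZero A hdet, ?_, ?_⟩
  · rw [mem_GU]
    exact herm_mulVec hF hA
  · intro i
    rw [Matrix.mulVec_single_one]
    rfl

/-- scaling a vector of non-zero norm to norm one -/
theorem exists_unit_smul (hF : Fintype.card F = q ^ 2) {n : ℕ} {w : Fin n → F} (hw : hermForm n F q w w ≠ 0) :
    ∃ c : F, c ≠ 0 ∧ hermForm n F q (c • w) (c • w) = 1 := by
  have h1 : (hermForm n F q w w)⁻¹ ^ q = (hermForm n F q w w)⁻¹ := by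
    rw [inv_pow, herm_self_pow hF]
  obtain ⟨c, hc, hc0⟩ := exists_norm_eq_ne hF h1 (inv_ne_zero hw)
  refine ⟨c, ?_, ?_⟩
  · first
      | exact hc0
      | exact hc
  · rw [herm_smul_left, herm_smul_right, ← mul_assoc]
    first
      | rw [hc, inv_mul_cancel₀ hw]
      | rw [hc0, inv_mul_cancel₀ hw]

/-- An orthogonal decomposition into non-degenerate lines is the frame of the columns of a unitary matrix. -/
theorem exists_frame (hF : Fintype.card F = q ^ 2) {n : ℕ} {D : Fin n → Submodule F (Fin n → F)}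
    (hD : IsNondegenerateMDecomposition (hermForm n F q) 1 D) :
    ∃ P ∈ Cfsg.GU n F q, ∀ i, D i = F ∙ ((P : Matrix (Fin n) (Fin n) F) *ᵥ Pi.single i 1) := by
  have h1 : ∀ i, ∃ w : Fin n → F, D i = F ∙ w ∧ hermForm n F q w w = 1 := by
    intro i
    have hd := hD.decomp.finrank_eq i
    obtain ⟨⟨w, hw⟩, hw0, hws⟩ := finrank_eq_one_iff'.1 hd
    have hspan : D i = F ∙ w := by
      apply le_antisymm
      · intro x hx
        obtain ⟨c, hc⟩ := hws ⟨x, hx⟩
        rw [Submodule.mem_span_singleton]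
        exact ⟨c, congrArg Subtype.val hc⟩
      · rw [Submodule.span_singleton_le_iff_mem]; exact hw
    have hw0' : w ≠ 0 := fun h => hw0 (Subtype.ext h)
    have hn : hermForm n F q w w ≠ 0 := by
      obtain ⟨⟨x, hx, hxw⟩, -⟩ := hD.nondegenerate i w hw hw0'
      rw [hspan, Submodule.mem_span_singleton] at hx
      obtain ⟨c, rfl⟩ := hx
      rw [herm_smul_left] at hxw
      exact fun h => hxw (by rw [h, mul_zero])
    obtain ⟨c, hc0, hc⟩ := exists_unit_smul hF hn
    refine ⟨c • w, ?_, hc⟩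
    rw [hspan]
    exact (Submodule.span_singleton_smul_eq (IsUnit.mk0 _ hc0) _).symm
  choose w hw hw1 using h1
  obtain ⟨P, hP, hPw⟩ := exists_GU_of_orthonormal hF w (by
    intro i j
    split_ifs with hij
    · subst hij; exact hw1 i
    · apply hD.orthogonal i j hij
      · rw [hw i]; exact Submodule.mem_span_singleton_self _
      · rw [hw j]; exact Submodule.mem_span_singleton_self _)
  exact ⟨P, hP, fun i => by rw [hPw, hw]⟩

/-- monomial matrices -/
def IsMono (g : GL (Fin 3) F) : Prop :=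
  ∃ j : Fin 3 → Fin 3, ∀ i, ∃ a : F, (g : Matrix (Fin 3) (Fin 3) F) *ᵥ Pi.single i 1 = a • Pi.single (j i) 1

theorem IsMono.injective {g : GL (Fin 3) F} {j : Fin 3 → Fin 3}
    (h : ∀ i, ∃ a : F, (g : Matrix (Fin 3) (Fin 3) F) *ᵥ Pi.single i 1 = a • Pi.single (j i) 1) :
    Function.Injective j := by
  intro i k hik
  by_contra hne
  obtain ⟨a, ha⟩ := h i
  obtain ⟨b, hb⟩ := h k
  have ha0 : a ≠ 0 := by
    rintro rfl
    rw [zero_smul] at ha
    have : (Pi.single i 1 : Fin 3 → F) = 0 := mulVec_injective g (by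
      show (g : Matrix (Fin 3) (Fin 3) F) *ᵥ _ = (g : Matrix (Fin 3) (Fin 3) F) *ᵥ _
      rw [ha, Matrix.mulVec_zero])
    have h1 := congrFun this i
    simp at h1
  have h2 : (b • Pi.single i 1 - a • Pi.single k 1 : Fin 3 → F) = 0 := by
    apply mulVec_injective g
    show (g : Matrix (Fin 3) (Fin 3) F) *ᵥ _ = (g : Matrix (Fin 3) (Fin 3) F) *ᵥ _
    rw [Matrix.mulVec_zero, Matrix.mulVec_sub, Matrix.mulVec_smul, Matrix.mulVec_smul, ha, hb, hik, smul_comm,
      sub_self]
  have h3 := congrFun h2 k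
  simp [Pi.single_apply, Ne.symm hne] at h3
  exact ha0 h3

end Cfsg.Agent.H907.SU3
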