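import Mathlib
import Cfsg.Agent.H907.FieldAdj
import Cfsg.Agent.H907.SU3Conj
import Cfsg.Agent.H905.SLProper

/-!
Elements of `SU_3(q)` given by explicit matrices, and a criterion for maximality.
-/

set_option autoImplicit false
set_option linter.unusedSectionVars false
set_option linter.unusedSimpArgs false

namespace Cfsg.Agent.H907.Mx

open Cfsg Cfsg.Geo Matrix Cfsg.Agent.H907 Cfsg.Agent.H918 Cfsg.Agent.H907.SU3 Cfsg.Agent.LieClassical.HermBasic
open scoped MatrixGroups

/-- Maximality from the maximal subgroups above. -/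
theorem isMaximalIn_of_forall {G : Type*} [Group G] [Finite G] {K H : Subgroup G} (hle : H ≤ K) (hne : ¬ K ≤ H)
    (h : ∀ M, IsMaximalIn K M → H ≤ M → M ≤ H) : IsMaximalIn K H := by
  obtain ⟨M, hM, hHM⟩ := Cfsg.Agent.H905.exists_isMaximalIn_of_lt (lt_of_le_not_ge hle hne)
  have : M = H := le_antisymm (h M hM hHM) hHM
  rwa [this] at hM

/-- Finite groups of the same order. -/
theorem le_of_card_eq {G : Type*} [Group G] [Finite G] {H M : Subgroup G} (hle : H ≤ M)
    (hcard : Nat.card M = Nat.card H) : M ≤ H := by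
  rw [Subgroup.eq_of_le_of_card_ge hle hcard.le]

section build

variable {F : Type*} [Field F] [Fintype F] {q : ℕ} (hF : Fintype.card F = q ^ 2)
include hF

theorem exists_SU_of {A : Matrix (Fin 3) (Fin 3) F} (h : ct q A * A = 1) (hdet : A.det = 1) :
    ∃ g ∈ SUg 3 F q, (g : Matrix (Fin 3) (Fin 3) F) = A := by
  have h' : A * ct q A = 1 := mul_eq_one_comm.1 h
  refine ⟨⟨A, ct q A, h', h⟩, ⟨?_, ?_⟩, rfl⟩
  · exact (mem_GU_iff_ct hF).2 h
  · exact mem_specialLinear.2 hdet

theorem q_pos : 0 < q := lt_of_lt_of_le (by norm_num) (two_le hF)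

theorem exists_diag {a b c : F} (ha : a ^ (q + 1) = 1) (hb : b ^ (q + 1) = 1) (hc : c ^ (q + 1) = 1)
    (habc : a * b * c = 1) : ∃ g ∈ SUg 3 F q, (g : Matrix (Fin 3) (Fin 3) F) = Matrix.diagonal ![a, b, c] := by
  apply exists_SU_of hF
  · have hq := q_pos hF
    rw [pow_succ] at ha hb hc
    ext i j
    fin_cases i <;> fin_cases j <;>
      simp [ct, Matrix.mul_apply, Fin.sum_univ_three, Matrix.diagonal_apply, Matrix.one_apply, ha, hb, hc,
        zero_pow hq.ne']
  · rw [Matrix.det_diagonal, Fin.prod_univ_three]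
    exact habc

theorem exists_cyc : ∃ g ∈ SUg 3 F q, (g : Matrix (Fin 3) (Fin 3) F) = !![0, 0, 1; 1, 0, 0; 0, 1, 0] := by
  have hq := q_pos hF
  apply exists_SU_of hF
  · ext i j
    fin_cases i <;> fin_cases j <;>
      simp [ct, Matrix.mul_apply, Fin.sum_univ_three, Matrix.one_apply, zero_pow hq.ne']
  · rw [Matrix.det_fin_three]; simp

theorem exists_swp : ∃ g ∈ SUg 3 F q, (g : Matrix (Fin 3) (Fin 3) F) = !![0, 1, 0; 1, 0, 0; 0, 0, -1] := by
  have hq := q_pos hF
  have h1 : (-1 : F) ^ q = -1 := by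
    rw [neg_pow_q hF, one_pow]
  apply exists_SU_of hF
  · ext i j
    fin_cases i <;> fin_cases j <;>
      simp [ct, Matrix.mul_apply, Fin.sum_univ_three, Matrix.one_apply, zero_pow hq.ne', h1]
  · rw [Matrix.det_fin_three]; simp

/-- An element of order `q + 1`. -/
theorem exists_orderOf_eq : ∃ ζ : F, orderOf ζ = q + 1 := by
  classical
  obtain ⟨g, hg⟩ := IsCyclic.exists_generator (α := Fˣ)
  have h1 : orderOf g = Nat.card Fˣ := orderOf_eq_card_of_forall_mem_zpowers hg
  have h2 : Nat.card Fˣ = (q - 1) * (q + 1) := by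
    rw [Nat.card_eq_fintype_card, Fintype.card_units, hF]
    have hq := q_pos hF
    obtain ⟨k, rfl⟩ : ∃ k, q = k + 1 := ⟨q - 1, by omega⟩
    have : (k + 1) ^ 2 = k * (k + 1 + 1) + 1 := by ring
    rw [this, Nat.add_sub_cancel, Nat.add_sub_cancel]
  have hq := two_le hF
  refine ⟨((g ^ (q - 1) : Fˣ) : F), ?_⟩
  rw [orderOf_units, orderOf_pow, h1, h2, Nat.gcd_eq_right (Dvd.intro _ rfl), Nat.mul_div_cancel_left _ (by omega)]

end build

end Cfsg.Agent.H907.Mx
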