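import Mathlib
import Cfsg.Agent.H907.SU3Conj
import Cfsg.Agent.H914.Uni

set_option autoImplicit false
set_option linter.unusedSectionVars false

/-!
For `q` odd, a subfield structure of index two carrying the standard unitary form in dimension three is, up to a
scalar, spanned by an orthonormal basis over the subfield.
-/

namespace Cfsg.Agent.H907.SU3

open Cfsg Cfsg.Geo Matrix Cfsg.Agent.H907 Cfsg.Agent.H918 Cfsg.Agent.LieClassical.HermBasic Cfsg.Agent.H914
open scoped MatrixGroups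

/-- Binary quadratic forms over a finite field of odd order are universal. -/
theorem exists_two_sq {K : Type*} [Field K] [Finite K] (h2 : (2 : K) ≠ 0) {a b : K} (ha : a ≠ 0) (hb : b ≠ 0) (c : K) :
    ∃ s t : K, a * s ^ 2 + b * t ^ 2 = c := by
  have := Fintype.ofFinite K
  have hodd : Fintype.card K % 2 = 1 := FiniteField.odd_card_of_char_ne_two (by
    intro h
    apply h2
    have := ringChar.Nat.cast_ringChar (R := K)
    rw [h] at this
    exact_mod_cast this)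
  obtain ⟨s, t, h⟩ := FiniteField.exists_root_sum_quadratic (f := Polynomial.C a * Polynomial.X ^ 2)
    (g := Polynomial.C b * Polynomial.X ^ 2 - Polynomial.C c)
    (Polynomial.degree_C_mul_X_pow 2 ha)
    (by
      rw [Polynomial.degree_sub_eq_left_of_degree_lt]
      · exact Polynomial.degree_C_mul_X_pow 2 hb
      · rw [Polynomial.degree_C_mul_X_pow 2 hb]
        exact (Polynomial.degree_C_le).trans_lt (by norm_num)) hodd
  refine ⟨s, t, ?_⟩
  simp at h
  linear_combination h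

variable {F : Type*} [Field F] [Fintype F] {q : ℕ}

theorem mem_F₀_iff (hF : Fintype.card F = q ^ 2) {F₀ : Subfield F} (hc : Fintype.card F = Nat.card F₀ ^ 2) (x : F) :
    x ∈ F₀ ↔ x ^ q = x := by
  have h1 : Nat.card F₀ = q := by
    rw [hF] at hc
    exact (Nat.pow_left_injective two_ne_zero hc).symm
  rw [mem_subfield_iff_pow, h1]

/-- entries fixed by `x ↦ x ^ q` -/
def Fixed (q : ℕ) (U : Matrix (Fin 3) (Fin 3) F) : Prop := ∀ i j, U i j ^ q = U i j

theorem Fixed.mul (hF : Fintype.card F = q ^ 2) {U W : Matrix (Fin 3) (Fin 3) F} (hU : Fixed q U) (hW : Fixed q W) :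
    Fixed q (U * W) := by
  intro i j
  rw [Matrix.mul_apply, sum_pow_q hF]
  exact Finset.sum_congr rfl fun k _ => by rw [mul_pow, hU, hW]

theorem Fixed.inv (hF : Fintype.card F = q ^ 2) {U : GL (Fin 3) F} (hU : Fixed q (U : Matrix (Fin 3) (Fin 3) F)) :
    Fixed q ((U⁻¹ : GL (Fin 3) F) : Matrix (Fin 3) (Fin 3) F) := by
  have h1 : Matrix.GeneralLinearGroup.map ((conj hF : F →+* F)) U = U := by
    apply Units.ext
    ext i j
    exact hU i j
  have h2 : Matrix.GeneralLinearGroup.map ((conj hF : F →+* F)) U⁻¹ = U⁻¹ := by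
    rw [map_inv, h1]
  intro i j
  exact congrArg (fun z : GL (Fin 3) F => (z : Matrix (Fin 3) (Fin 3) F) i j) h2

/-- Changing the basis by a matrix with entries in the subfield does not change the subfield group. -/
theorem subfieldSubgroup_mul (hF : Fintype.card F = q ^ 2) {F₀ : Subfield F} (hc : Fintype.card F = Nat.card F₀ ^ 2)
    (P U : GL (Fin 3) F) (hU : Fixed q (U : Matrix (Fin 3) (Fin 3) F)) :
    subfieldSubgroup F₀ (P * U) = subfieldSubgroup F₀ P := by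
  ext g
  rw [mem_subfieldSubgroup_iff, mem_subfieldSubgroup_iff]
  have key : ∀ (c : F) (A : Matrix (Fin 3) (Fin 3) F) (W : GL (Fin 3) F), Fixed q (W : Matrix (Fin 3) (Fin 3) F) →
      (∀ i j, c * A i j ∈ F₀) →
      ∀ i j, c * (((W⁻¹ : GL (Fin 3) F) : Matrix (Fin 3) (Fin 3) F) * A * (W : Matrix (Fin 3) (Fin 3) F)) i j ∈ F₀ := by
    intro c A W hW hA i j
    have h1 : Fixed q (c • A) := fun i j => (mem_F₀_iff hF hc _).1 (hA i j)
    have h2 : Fixed q (((W⁻¹ : GL (Fin 3) F) : Matrix (Fin 3) (Fin 3) F) * (c • A) * (W : Matrix (Fin 3) (Fin 3) F)) :=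
      (Fixed.mul hF (Fixed.mul hF (Fixed.inv hF hW) h1) hW)
    rw [mem_F₀_iff hF hc]
    have h3 := h2 i j
    rw [Matrix.mul_smul, Matrix.smul_mul] at h3
    exact h3
  constructor
  · rintro ⟨c, hc0, h⟩
    refine ⟨c, hc0, ?_⟩
    have h1 := key c _ U⁻¹ (Fixed.inv hF hU) h
    have h2 : (((U⁻¹)⁻¹ : GL (Fin 3) F) : Matrix (Fin 3) (Fin 3) F) *
        (((P * U)⁻¹ * g * (P * U) : GL (Fin 3) F) : Matrix (Fin 3) (Fin 3) F) *
        ((U⁻¹ : GL (Fin 3) F) : Matrix (Fin 3) (Fin 3) F) = ((P⁻¹ * g * P : GL (Fin 3) F) : Matrix (Fin 3) (Fin 3) F) := by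
      rw [← Units.val_mul, ← Units.val_mul]
      congr 1
      group
    rwa [h2] at h1
  · rintro ⟨c, hc0, h⟩
    refine ⟨c, hc0, ?_⟩
    have h1 := key c _ U hU h
    have h2 : ((U⁻¹ : GL (Fin 3) F) : Matrix (Fin 3) (Fin 3) F) *
        ((P⁻¹ * g * P : GL (Fin 3) F) : Matrix (Fin 3) (Fin 3) F) *
        (U : Matrix (Fin 3) (Fin 3) F) = (((P * U)⁻¹ * g * (P * U) : GL (Fin 3) F) : Matrix (Fin 3) (Fin 3) F) := by
      rw [← Units.val_mul, ← Units.val_mul]
      congr 1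
      group
    rwa [h2] at h1

/-- The vectors in the `F₀`-structure of `P`. -/
def InV (F₀ : Subfield F) (P : GL (Fin 3) F) (w : Fin 3 → F) : Prop :=
  ∃ u : Fin 3 → F, (∀ i, u i ∈ F₀) ∧ w = (P : Matrix (Fin 3) (Fin 3) F) *ᵥ u

theorem InV.comb {F₀ : Subfield F} {P : GL (Fin 3) F} {w w' : Fin 3 → F} (h : InV F₀ P w) (h' : InV F₀ P w')
    {a b : F} (ha : a ∈ F₀) (hb : b ∈ F₀) : InV F₀ P (a • w + b • w') := by
  obtain ⟨u, hu, rfl⟩ := h
  obtain ⟨u', hu', rfl⟩ := h'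
  refine ⟨a • u + b • u', fun i => F₀.add_mem (F₀.mul_mem ha (hu i)) (F₀.mul_mem hb (hu' i)), ?_⟩
  rw [Matrix.mulVec_add, Matrix.mulVec_smul, Matrix.mulVec_smul]

theorem InV.smul {F₀ : Subfield F} {P : GL (Fin 3) F} {w : Fin 3 → F} (h : InV F₀ P w)
    {a : F} (ha : a ∈ F₀) : InV F₀ P (a • w) := by
  have := h.comb h ha F₀.zero_mem
  simpa using this

/-- two orthogonal vectors of norms `a`, `b` give two of norms `c`, `abc`. -/
theorem pair_step (hF : Fintype.card F = q ^ 2) {F₀ : Subfield F} (hc : Fintype.card F = Nat.card F₀ ^ 2)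
    (h2 : (2 : F) ≠ 0) {P : GL (Fin 3) F} {x y : Fin 3 → F} (hx : InV F₀ P x) (hy : InV F₀ P y) {a b c : F}
    (hxx : hermForm 3 F q x x = a) (hyy : hermForm 3 F q y y = b) (hxy : hermForm 3 F q x y = 0)
    (ha : a ∈ F₀) (hb : b ∈ F₀) (hcm : c ∈ F₀) (ha0 : a ≠ 0) (hb0 : b ≠ 0) :
    ∃ s t s' t' : F, InV F₀ P (s • x + t • y) ∧ InV F₀ P (s' • x + t' • y) ∧
      hermForm 3 F q (s • x + t • y) (s • x + t • y) = c ∧
      hermForm 3 F q (s' • x + t' • y) (s' • x + t' • y) = a * b * c ∧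
      hermForm 3 F q (s • x + t • y) (s' • x + t' • y) = 0 := by
  have h2' : (2 : F₀) ≠ 0 := by
    intro h
    apply h2
    have := congrArg F₀.subtype h
    rwa [map_ofNat, map_zero] at this
  obtain ⟨⟨s, hs⟩, ⟨t, ht⟩, hst⟩ := exists_two_sq h2' (a := ⟨a, ha⟩) (b := ⟨b, hb⟩)
    (fun h => ha0 (congrArg Subtype.val h)) (fun h => hb0 (congrArg Subtype.val h)) ⟨c, hcm⟩
  have hst' : a * s ^ 2 + b * t ^ 2 = c := congrArg Subtype.val hst
  have hyx : hermForm 3 F q y x = 0 := herm_eq_zero_swap hF hxy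
  have fs : s ^ q = s := (mem_F₀_iff hF hc _).1 hs
  have ft : t ^ q = t := (mem_F₀_iff hF hc _).1 ht
  have fa : a ^ q = a := (mem_F₀_iff hF hc _).1 ha
  have fb : b ^ q = b := (mem_F₀_iff hF hc _).1 hb
  have hform : ∀ s t s' t' : F, s' ^ q = s' → t' ^ q = t' →
      hermForm 3 F q (s • x + t • y) (s' • x + t' • y) = a * s * s' + b * t * t' := by
    intro s t s' t' h1 h2
    rw [herm_add_left, herm_add_right hF, herm_add_right hF, herm_smul_left, herm_smul_left, herm_smul_left,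
      herm_smul_left, herm_smul_right, herm_smul_right, herm_smul_right, herm_smul_right, hxx, hyy, hxy, hyx, h1, h2]
    ring
  have fbt : (-(b * t)) ^ q = -(b * t) := by rw [neg_pow_q hF, mul_pow, fb, ft]
  have fas : (a * s) ^ q = a * s := by rw [mul_pow, fa, fs]
  refine ⟨s, t, -(b * t), a * s, hx.comb hy hs ht, hx.comb hy (F₀.neg_mem (F₀.mul_mem hb ht)) (F₀.mul_mem ha hs),
    ?_, ?_, ?_⟩
  · rw [hform _ _ _ _ fs ft, ← hst']; ring
  · rw [hform _ _ _ _ fbt fas, ← hst']; ring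
  · rw [hform _ _ _ _ fbt fas]; ring

theorem herm_mem {F₀ : Subfield F} {P : GL (Fin 3) F}
    (hP : IsFormRationalStructure (hermForm 3 F q) F₀ 1 P) {x y : Fin 3 → F} (hx : InV F₀ P x) (hy : InV F₀ P y) :
    hermForm 3 F q x y ∈ F₀ := by
  obtain ⟨u, hu, rfl⟩ := hx
  obtain ⟨v, hv, rfl⟩ := hy
  have := hP u v hu hv
  rwa [one_mul] at this

/-- an orthogonal basis of the `F₀`-structure, of non-isotropic vectors -/
theorem exists_orth_basis (hF : Fintype.card F = q ^ 2) {F₀ : Subfield F} (hc : Fintype.card F = Nat.card F₀ ^ 2)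
    (h2 : (2 : F) ≠ 0) {P : GL (Fin 3) F} (hP : IsFormRationalStructure (hermForm 3 F q) F₀ 1 P) :
    ∃ f : Fin 3 → Fin 3 → F, (∀ i, InV F₀ P (f i)) ∧ (∀ i j, i ≠ j → hermForm 3 F q (f i) (f j) = 0) ∧
      ∀ i, hermForm 3 F q (f i) (f i) ≠ 0 := by
  classical
  have h2' : (2 : F₀) ≠ 0 := by
    intro h
    apply h2
    have := congrArg F₀.subtype h
    rwa [map_ofNat, map_zero] at this
  let up : (Fin 3 → F₀) → (Fin 3 → F) := fun u i => (u i : F)
  have hup : ∀ u, InV F₀ P ((P : Matrix (Fin 3) (Fin 3) F) *ᵥ up u) := fun u => ⟨up u, fun i => (u i).2, rfl⟩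
  have up_add : ∀ u v, up (u + v) = up u + up v := fun u v => by ext i; simp [up]
  have up_smul : ∀ (c : F₀) v, up (c • v) = (c : F) • up v := fun c v => by ext i; simp [up]
  let B : LinearMap.BilinForm F₀ (Fin 3 → F₀) := LinearMap.mk₂ F₀
    (fun u v => (⟨hermForm 3 F q ((P : Matrix (Fin 3) (Fin 3) F) *ᵥ up u) ((P : Matrix (Fin 3) (Fin 3) F) *ᵥ up v),
      herm_mem hP (hup u) (hup v)⟩ : F₀))
    (fun u u' v => Subtype.ext (by
      simp only [up_add, Matrix.mulVec_add, herm_add_left]; rfl))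
    (fun c u v => Subtype.ext (by
      simp only [up_smul, Matrix.mulVec_smul, herm_smul_left]; rfl))
    (fun u v v' => Subtype.ext (by
      simp only [up_add, Matrix.mulVec_add, herm_add_right hF]; rfl))
    (fun c u v => Subtype.ext (by
      simp only [up_smul, Matrix.mulVec_smul, herm_smul_right, (mem_F₀_iff hF hc _).1 c.2]; rfl))
  have hB : ∀ u v, ((B u v : F₀) : F) =
      hermForm 3 F q ((P : Matrix (Fin 3) (Fin 3) F) *ᵥ up u) ((P : Matrix (Fin 3) (Fin 3) F) *ᵥ up v) := fun u v => rfl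
  have hsymm : LinearMap.IsSymm B := by
    refine ⟨fun u v => Subtype.ext ?_⟩
    show ((B u v : F₀) : F) = ((B v u : F₀) : F)
    rw [hB, hB, herm_swap hF]
    exact (mem_F₀_iff hF hc _).1 (herm_mem hP (hup v) (hup u))
  let _ : Invertible (2 : F₀) := invertibleOfNonzero h2'
  obtain ⟨v, hv⟩ := LinearMap.BilinForm.exists_orthogonal_basis hsymm
  have hfr : Module.finrank F₀ (Fin 3 → F₀) = 3 := by simp
  let e : Fin 3 ≃ Fin (Module.finrank F₀ (Fin 3 → F₀)) := (finCongr hfr).symm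
  refine ⟨fun i => (P : Matrix (Fin 3) (Fin 3) F) *ᵥ up (v (e i)), fun i => hup _, ?_, ?_⟩
  · intro i j hij
    rw [← hB]
    have : B (v (e i)) (v (e j)) = 0 := hv (fun h => hij (e.injective h))
    rw [this]; rfl
  · intro i h0
    have h3 : ∀ w, B (v (e i)) w = 0 := by
      have h4 : B (v (e i)) = 0 := by
        apply v.ext
        intro j
        by_cases hj : j = e i
        · subst hj
          exact Subtype.ext (by rw [hB, h0]; rfl)
        · exact hv (Ne.symm hj)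
      intro w
      rw [h4]; rfl
    have h5 : (P : Matrix (Fin 3) (Fin 3) F) *ᵥ up (v (e i)) = 0 := by
      by_contra hne
      obtain ⟨x, hx⟩ := exists_herm_ne_zero hF hne
      apply hx
      -- `x = P y`, `y` a combination of basis vectors
      have h6 : x = ∑ k, (((P⁻¹ : GL (Fin 3) F) : Matrix (Fin 3) (Fin 3) F) *ᵥ x) k •
          ((P : Matrix (Fin 3) (Fin 3) F) *ᵥ up (Pi.single k 1)) := by
        have h7 : ∀ k, up (Pi.single k 1) = Pi.single k 1 := by
          intro k; ext l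
          by_cases hkl : l = k
          · subst hkl; simp [up]
          · simp [up, hkl]
        simp_rw [h7, ← Matrix.mulVec_smul]
        rw [← Matrix.mulVec_sum]
        have h8 : ∀ y : Fin 3 → F, ∑ k, y k • (Pi.single k 1 : Fin 3 → F) = y := by
          intro y; ext l; simp [Finset.sum_apply, Pi.single_apply]
        rw [h8, mulVec_inv_mulVec]
      rw [h6, herm_sum_right hF]
      apply Finset.sum_eq_zero
      intro k _
      rw [herm_smul_right, ← hB, h3]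
      simp
    have h6 : up (v (e i)) = 0 := by
      apply mulVec_injective P
      show (P : Matrix (Fin 3) (Fin 3) F) *ᵥ _ = (P : Matrix (Fin 3) (Fin 3) F) *ᵥ _
      rw [h5, Matrix.mulVec_zero]
    apply v.ne_zero (e i)
    ext k
    exact congrFun h6 k

/-- a basis of the `F₀`-structure with scalar Gram matrix -/
theorem exists_scalar_basis (hF : Fintype.card F = q ^ 2) {F₀ : Subfield F} (hc : Fintype.card F = Nat.card F₀ ^ 2)
    (h2 : (2 : F) ≠ 0) {P : GL (Fin 3) F} (hP : IsFormRationalStructure (hermForm 3 F q) F₀ 1 P) :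
    ∃ (w : Fin 3 → Fin 3 → F) (d : F), d ∈ F₀ ∧ d ≠ 0 ∧ (∀ i, InV F₀ P (w i)) ∧
      ∀ i j, hermForm 3 F q (w i) (w j) = if i = j then d else 0 := by
  obtain ⟨f, hfV, hf, hf0⟩ := exists_orth_basis hF hc h2 hP
  obtain ⟨a0, ha0⟩ : ∃ a, a = hermForm 3 F q (f 0) (f 0) := ⟨_, rfl⟩
  obtain ⟨a1, ha1⟩ : ∃ a, a = hermForm 3 F q (f 1) (f 1) := ⟨_, rfl⟩
  obtain ⟨a2, ha2⟩ : ∃ a, a = hermForm 3 F q (f 2) (f 2) := ⟨_, rfl⟩
  have m0 : a0 ∈ F₀ := by rw [ha0]; exact herm_mem hP (hfV 0) (hfV 0)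
  have m1 : a1 ∈ F₀ := by rw [ha1]; exact herm_mem hP (hfV 1) (hfV 1)
  have m2 : a2 ∈ F₀ := by rw [ha2]; exact herm_mem hP (hfV 2) (hfV 2)
  have n0 : a0 ≠ 0 := by rw [ha0]; exact hf0 0
  have n1 : a1 ≠ 0 := by rw [ha1]; exact hf0 1
  have n2 : a2 ≠ 0 := by rw [ha2]; exact hf0 2
  obtain ⟨d, hd⟩ : ∃ d, d = a0 * a1 * a2 := ⟨_, rfl⟩
  have md : d ∈ F₀ := by rw [hd]; exact F₀.mul_mem (F₀.mul_mem m0 m1) m2
  have nd : d ≠ 0 := by rw [hd]; exact mul_ne_zero (mul_ne_zero n0 n1) n2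
  obtain ⟨s, t, s', t', hx1, hy1, hx1n, hy1n, hxy1⟩ := pair_step hF hc h2 (hfV 0) (hfV 1) ha0.symm ha1.symm
    (hf 0 1 (by decide)) m0 m1 md n0 n1
  obtain ⟨x1, hx1d⟩ : ∃ x, x = s • f 0 + t • f 1 := ⟨_, rfl⟩
  obtain ⟨y1, hy1d⟩ : ∃ x, x = s' • f 0 + t' • f 1 := ⟨_, rfl⟩
  have hx1f : hermForm 3 F q x1 (f 2) = 0 := by
    rw [hx1d, herm_add_left, herm_smul_left, herm_smul_left, hf 0 2 (by decide), hf 1 2 (by decide)]; simp
  have hy1f : hermForm 3 F q y1 (f 2) = 0 := by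
    rw [hy1d, herm_add_left, herm_smul_left, herm_smul_left, hf 0 2 (by decide), hf 1 2 (by decide)]; simp
  rw [← hx1d] at hx1 hx1n hxy1
  rw [← hy1d] at hy1 hy1n hxy1
  obtain ⟨k, hk⟩ : ∃ k, k = (a0 * a1)⁻¹ := ⟨_, rfl⟩
  have mk : k ∈ F₀ := by rw [hk]; exact F₀.inv_mem (F₀.mul_mem m0 m1)
  have fk : k ^ q = k := (mem_F₀_iff hF hc _).1 mk
  have hn01 : a0 * a1 ≠ 0 := mul_ne_zero n0 n1
  have hy2n : hermForm 3 F q (k • y1) (k • y1) = a2 := by
    rw [herm_smul_left, herm_smul_right, fk, hy1n, hd, hk]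
    field_simp
  obtain ⟨u, v, u', v', hx3, hy3, hx3n, hy3n, hxy3⟩ := pair_step hF hc h2 (hy1.smul mk) (hfV 2) hy2n ha2.symm
    (by rw [herm_smul_left, hy1f, mul_zero]) m2 m2 md n2 n2
  obtain ⟨x3, hx3d⟩ : ∃ x, x = u • k • y1 + v • f 2 := ⟨_, rfl⟩
  obtain ⟨y3, hy3d⟩ : ∃ x, x = u' • k • y1 + v' • f 2 := ⟨_, rfl⟩
  have h13 : hermForm 3 F q x1 x3 = 0 := by
    rw [hx3d, herm_add_right hF, herm_smul_right, herm_smul_right, herm_smul_right, hxy1, hx1f]; simp
  have h14 : hermForm 3 F q x1 y3 = 0 := by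
    rw [hy3d, herm_add_right hF, herm_smul_right, herm_smul_right, herm_smul_right, hxy1, hx1f]; simp
  rw [← hx3d] at hx3 hx3n hxy3
  rw [← hy3d] at hy3 hy3n hxy3
  have m2i : a2⁻¹ ∈ F₀ := F₀.inv_mem m2
  have f2i : (a2⁻¹) ^ q = a2⁻¹ := (mem_F₀_iff hF hc _).1 m2i
  have hy4n : hermForm 3 F q (a2⁻¹ • y3) (a2⁻¹ • y3) = d := by
    rw [herm_smul_left, herm_smul_right, f2i, hy3n]
    field_simp
  have h15 : hermForm 3 F q x1 (a2⁻¹ • y3) = 0 := by rw [herm_smul_right, h14, mul_zero]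
  have h35 : hermForm 3 F q x3 (a2⁻¹ • y3) = 0 := by rw [herm_smul_right, hxy3, mul_zero]
  refine ⟨![x1, x3, a2⁻¹ • y3], d, md, nd, ?_, ?_⟩
  · intro i
    fin_cases i
    · exact hx1
    · exact hx3
    · exact hy3.smul m2i
  · intro i j
    fin_cases i <;> fin_cases j
    · simpa using hx1n
    · simpa using h13
    · simpa using h15
    · simpa using herm_eq_zero_swap hF h13
    · simpa using hx3n
    · simpa using h35
    · simpa using herm_eq_zero_swap hF h15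
    · simpa using herm_eq_zero_swap hF h35
    · simpa using hy4n

/-- An index two subfield structure carrying the form is spanned, up to a scalar, by an orthonormal basis. -/
theorem exists_real_frame (hF : Fintype.card F = q ^ 2) {F₀ : Subfield F} (hc : Fintype.card F = Nat.card F₀ ^ 2)
    (h2 : (2 : F) ≠ 0) {P : GL (Fin 3) F} (hP : IsFormRationalStructure (hermForm 3 F q) F₀ 1 P) :
    ∃ P' ∈ Cfsg.GU 3 F q, subfieldSubgroup F₀ P = subfieldSubgroup F₀ P' := by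
  obtain ⟨w, d, md, nd, hw, hwd⟩ := exists_scalar_basis hF hc h2 hP
  have hdi : (d⁻¹) ^ q = d⁻¹ := (mem_F₀_iff hF hc _).1 (F₀.inv_mem md)
  obtain ⟨μ, hμ0, hμ⟩ := exists_norm_eq_ne hF hdi (inv_ne_zero nd)
  obtain ⟨P', hP', hPw⟩ := exists_GU_of_orthonormal hF (fun i => μ • w i) (by
    intro i j
    rw [herm_smul_left, herm_smul_right, hwd, ← mul_assoc, hμ]
    split_ifs
    · exact inv_mul_cancel₀ nd
    · rw [mul_zero])
  choose u hu hwu using hw
  refine ⟨P', hP', ?_⟩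
  have hU : Fixed q ((scaleGL μ⁻¹ (inv_ne_zero hμ0) (P⁻¹ * P') : GL (Fin 3) F) : Matrix (Fin 3) (Fin 3) F) := by
    intro i j
    have h1 : ((scaleGL μ⁻¹ (inv_ne_zero hμ0) (P⁻¹ * P') : GL (Fin 3) F) : Matrix (Fin 3) (Fin 3) F) *ᵥ
        Pi.single j 1 = u j := by
      rw [scaleGL_val, Units.val_mul, Matrix.smul_mulVec, ← Matrix.mulVec_mulVec, hPw, Matrix.mulVec_smul, smul_smul,
        inv_mul_cancel₀ hμ0, one_smul, hwu, inv_mulVec_mulVec]
    have h2 := congrFun h1 i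
    rw [Matrix.mulVec_single_one, Matrix.col_apply] at h2
    rw [h2]
    exact (mem_F₀_iff hF hc _).1 (hu j i)
  have h3 := subfieldSubgroup_mul hF hc P _ hU
  rw [← h3]
  have h4 : P' = scaleGL μ hμ0 (P * scaleGL μ⁻¹ (inv_ne_zero hμ0) (P⁻¹ * P')) := by
    apply Units.ext
    rw [scaleGL_val, Units.val_mul, scaleGL_val, Matrix.mul_smul, smul_smul, mul_inv_cancel₀ hμ0, one_smul,
      ← Units.val_mul, mul_inv_cancel_left]
  conv_rhs => rw [h4]
  rw [subfieldSubgroup_scaleGL]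

end Cfsg.Agent.H907.SU3
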