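import Mathlib
import Cfsg.Agent.H907.Model

set_option autoImplicit false

/-!
Existence of the generator `θ` for the fields with `9` and `25` elements.
-/

namespace Cfsg.Agent.H907.Mdl

variable {F : Type*} [Field F] [Fintype F]

theorem charP_of_card {p : ℕ} (hp : p.Prime) (hF : Fintype.card F = p ^ 2) : CharP F p := by
  have : Fact p.Prime := ⟨hp⟩
  exact charP_of_card_eq_prime_pow hF

theorem indep_of_pow {p : ℕ} (hp : p.Prime) [CharP F p] {θ : F} (h : θ ^ p ≠ θ) (a b : ℕ) (ha : a < p) (hb : b < p)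
    (hab : (a : F) + (b : F) * θ = 0) : a = 0 ∧ b = 0 := by
  have : Fact p.Prime := ⟨hp⟩
  by_cases hb0 : (b : F) = 0
  · rw [hb0, zero_mul, add_zero, CharP.cast_eq_zero_iff F p] at hab
    rw [CharP.cast_eq_zero_iff F p] at hb0
    exact ⟨Nat.eq_zero_of_dvd_of_lt hab ha, Nat.eq_zero_of_dvd_of_lt hb0 hb⟩
  · exfalso
    apply h
    have h1 : (b : F) * θ = -(a : F) := by linear_combination hab
    have h2 : ((b : F) * θ) ^ p = (-(a : F)) ^ p := by rw [h1]
    have h3 : ∀ n : ℕ, (n : F) ^ p = n := fun n => by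
      have := map_natCast (frobenius F p) n
      rwa [frobenius_def] at this
    have h4 : (-(a : F)) ^ p = -(a : F) := by
      have h5 : frobenius F p (-(a : F)) = - frobenius F p (a : F) := map_neg _ _
      rw [frobenius_def, frobenius_def, h3] at h5
      exact h5
    rw [mul_pow, h3, h4, ← h1] at h2
    exact mul_left_cancel₀ hb0 h2

theorem exists_orderOf {k : ℕ} (hk : k ∣ Fintype.card F - 1) : ∃ θ : Fˣ, orderOf θ = k := by
  classical
  have h1 : Nat.card Fˣ = Fintype.card F - 1 := by
    rw [Nat.card_eq_fintype_card, Fintype.card_units]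
  obtain ⟨g, hg⟩ := IsCyclic.exists_ofOrder_eq_natCard (α := Fˣ)
  rw [h1] at hg
  obtain ⟨m, hm⟩ := hk
  have hpos : 0 < Fintype.card F - 1 := by
    have := Fintype.one_lt_card (α := F)
    omega
  have hm0 : m ≠ 0 := by rintro rfl; omega
  refine ⟨g ^ m, ?_⟩
  rw [orderOf_pow' g hm0, hg, hm, Nat.gcd_eq_right (Dvd.intro_left k rfl)]
  exact Nat.mul_div_cancel k (Nat.pos_of_ne_zero hm0)

def c5 : Par := ⟨5, 4, 4⟩
def c3 : Par := ⟨3, 0, 2⟩

theorem exists_good5 (hF : Fintype.card F = 5 ^ 2) : ∃ θ : F, Good c5 θ := by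
  have := charP_of_card (F := F) (by norm_num) hF
  obtain ⟨u, hu⟩ := exists_orderOf (F := F) (k := 3) (by rw [hF]; norm_num)
  have h3 : ((u : F)) ^ 3 = 1 := by
    rw [← Units.val_pow_eq_pow_val, ← hu, pow_orderOf_eq_one, Units.val_one]
  have h1 : (u : F) ≠ 1 := by
    intro h
    have : u = 1 := Units.ext h
    rw [this, orderOf_one] at hu
    norm_num at hu
  have h5 : (5 : F) = 0 := by
    have := CharP.cast_eq_zero F 5
    exact_mod_cast this
  have hr : (u : F) ^ 2 + u + 1 = 0 := by
    have h2 : ((u : F) - 1) * ((u : F) ^ 2 + u + 1) = 0 := by linear_combination h3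
    rcases mul_eq_zero.1 h2 with h | h
    · exact absurd (sub_eq_zero.1 h) h1
    · exact h
  refine ⟨u, by norm_num [c5], this, ?_, ?_⟩
  · simp only [c5]
    push_cast
    linear_combination hr - ((u : F) + 1) * h5
  · apply indep_of_pow (p := 5) (by norm_num)
    intro h
    apply h1
    have h6 : (u : F) ^ 5 = (u : F) ^ 2 := by
      calc (u : F) ^ 5 = (u : F) ^ 3 * (u : F) ^ 2 := by ring
        _ = _ := by rw [h3, one_mul]
    rw [h6] at h
    have h7 : (u : F) * ((u : F) - 1) = 0 := by linear_combination h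
    rcases mul_eq_zero.1 h7 with h | h
    · exact absurd h u.ne_zero
    · exact sub_eq_zero.1 h

theorem exists_good3 (hF : Fintype.card F = 3 ^ 2) : ∃ θ : F, Good c3 θ := by
  have := charP_of_card (F := F) (by norm_num) hF
  obtain ⟨u, hu⟩ := exists_orderOf (F := F) (k := 4) (by rw [hF]; norm_num)
  have h4 : ((u : F)) ^ 4 = 1 := by
    rw [← Units.val_pow_eq_pow_val, ← hu, pow_orderOf_eq_one, Units.val_one]
  have h2 : (u : F) ^ 2 ≠ 1 := by
    intro h
    have h5 : u ^ 2 = 1 := Units.ext (by rw [Units.val_pow_eq_pow_val, h, Units.val_one])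
    have h6 := orderOf_dvd_of_pow_eq_one h5
    rw [hu] at h6
    norm_num at h6
  have h3 : (3 : F) = 0 := by
    have := CharP.cast_eq_zero F 3
    exact_mod_cast this
  have hr : (u : F) ^ 2 + 1 = 0 := by
    have h5 : ((u : F) ^ 2 - 1) * ((u : F) ^ 2 + 1) = 0 := by linear_combination h4
    rcases mul_eq_zero.1 h5 with h | h
    · exact absurd (sub_eq_zero.1 h) h2
    · exact h
  refine ⟨u, by norm_num [c3], this, ?_, ?_⟩
  · simp only [c3]
    push_cast
    linear_combination hr - h3
  · apply indep_of_pow (p := 3) (by norm_num)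
    intro h
    apply h2
    have h7 : (u : F) * ((u : F) ^ 2 - 1) = 0 := by linear_combination h
    rcases mul_eq_zero.1 h7 with h | h
    · exact absurd h u.ne_zero
    · exact sub_eq_zero.1 h

end Cfsg.Agent.H907.Mdl
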