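import Mathlib
import Cfsg.Agent.H907.FieldAdj
import Cfsg.Agent.H907.SU3Conj
import Cfsg.Agent.S0278

set_option autoImplicit false
set_option linter.unusedSectionVars false

/-!
Sylow subgroups of `SU_3(q)`, and the exclusion of the extension field class by an overgroup.
-/

namespace Cfsg.Agent.H907.SU3

open Cfsg Cfsg.Geo Matrix Cfsg.Agent.H907 Cfsg.Agent.H907.Mdl Cfsg.Agent.H918 Cfsg.Agent.LieClassical.HermBasic
open scoped MatrixGroups

/-- Sylow's theorem inside a finite subgroup `S`. -/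
theorem exists_conj_of_card {G : Type*} [Group G] {S A B : Subgroup G} [Finite S] {r k : ℕ} (hr : r.Prime)
    (hA : A ≤ S) (hB : B ≤ S) (hcA : Nat.card A = r ^ k) (hcB : Nat.card B = r ^ k)
    (hS : ¬ r ^ (k + 1) ∣ Nat.card S) : ∃ s ∈ S, ∀ a ∈ A, s * a * s⁻¹ ∈ B := by
  have : Fact r.Prime := ⟨hr⟩
  have hS' : (Nat.card S).factorization r = k := by
    apply le_antisymm
    · by_contra hlt
      push Not at hlt
      exact hS ((hr.pow_dvd_iff_le_factorization Nat.card_pos.ne').2 hlt)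
    · rw [← hr.pow_dvd_iff_le_factorization Nat.card_pos.ne', ← hcA]
      exact Subgroup.card_dvd_of_le hA
  have h1 : Nat.card (A.subgroupOf S) = r ^ (Nat.card S).factorization r := by
    rw [hS', ← hcA]
    exact Nat.card_congr (Subgroup.subgroupOfEquivOfLe hA).toEquiv
  have h2 : Nat.card (B.subgroupOf S) = r ^ (Nat.card S).factorization r := by
    rw [hS', ← hcB]
    exact Nat.card_congr (Subgroup.subgroupOfEquivOfLe hB).toEquiv
  let P : Sylow r S := Sylow.ofCard (A.subgroupOf S) h1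
  let Q : Sylow r S := Sylow.ofCard (B.subgroupOf S) h2
  obtain ⟨s, hs⟩ := MulAction.exists_smul_eq S P Q
  refine ⟨s, s.2, fun a ha => ?_⟩
  have h3 : (⟨a, hA ha⟩ : S) ∈ (P : Subgroup S) := ha
  have h4 : (MulAut.conj s) • (⟨a, hA ha⟩ : S) ∈ ((s • P : Sylow r S) : Subgroup S) :=
    Subgroup.smul_mem_pointwise_smul _ _ _ h3
  rw [hs] at h4
  exact h4

variable {F : Type*} [Field F]

/-- An element commuting with a non-scalar element of `K` (degree three) lies in `K`. -/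
theorem mem_of_comm {K : Subalgebra F (Matrix (Fin 3) (Fin 3) F)} (hK : IsFieldSubalgebra 3 K)
    {x m : Matrix (Fin 3) (Fin 3) F} (hx : x ∈ K) (hns : ¬ ∃ c : F, x = c • (1 : Matrix (Fin 3) (Fin 3) F))
    (hm : m * x = x * m) : m ∈ K := by
  have h1 : Algebra.adjoin F {x} ≤ K := Algebra.adjoin_le (by simpa using hx)
  have h2 : m ∈ Algebra.adjoin F {x} := by
    apply mem_of_commute Nat.prime_three (Fintype.card_fin 3) (Algebra.adjoin F {x})
      (fun a ha b hb => hK.comm a (h1 ha) b (h1 hb)) (by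
        intro a ha h0
        obtain ⟨b, hb, hab⟩ := hK.inv a (h1 ha) h0
        exact IsUnit.of_mul_eq_one b hab) ⟨x, Algebra.subset_adjoin rfl, hns⟩
    exact adjoin_commute (S := {x}) (by simpa using hm)
  exact h1 h2

/-- Exclusion of the normaliser of a field subalgebra by an overgroup `L`; `y` has order `7`, `b` acts on it as the
square, `z` generates the centraliser of `y` in the special unitary group. -/
theorem c3_excl [Fintype F] {q : ℕ} (hF : Fintype.card F = q ^ 2) (h7 : 7 ∣ q ^ 3 + 1) (h7' : ¬ 7 ∣ q ^ 2 - 1)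
    (h49 : ¬ 7 ^ 2 ∣ Nat.card (SUg 3 F q))
    {L : Subgroup (GL (Fin 3) F)} {x y b z : GL (Fin 3) F} (hx : x ∈ SUg 3 F q) (hxL : x ∈ L)
    (hy : y ∈ SUg 3 F q) (hy7 : y ^ 7 = 1) (hy1 : y ≠ 1) (hb : b ∈ SUg 3 F q) (hbL : b ∈ L) (hby : b * y = y ^ 2 * b)
    (hzL : z ∈ L) (hzy : z * y = y * z) (hzo : orderOf z = q ^ 2 - q + 1)
    (htr : ∀ k ∈ ({3, 5, 6} : Set ℕ), Matrix.trace ((y ^ k : GL (Fin 3) F) : Matrix (Fin 3) (Fin 3) F) ≠
      Matrix.trace (y : Matrix (Fin 3) (Fin 3) F))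
    (hxy : ¬ x * y * x⁻¹ * y = y * (x * y * x⁻¹)) (hL : ∃ g ∈ SUg 3 F q, g ∉ L)
    {K : Subalgebra F (Matrix (Fin 3) (Fin 3) F)} (hK : IsFieldSubalgebra 3 K)
    (hadj : IsAdjointClosedFor (hermForm 3 F q) K)
    (hH : IsMaximalIn (SUg 3 F q) (subalgebraNormalizer K ⊓ SUg 3 F q)) : False := by
  have hyo : orderOf y = 7 := orderOf_eq_prime (p := 7) (hp := ⟨by norm_num⟩) hy7 hy1
  obtain ⟨y₀, hy₀K, hy₀S, hy₀⟩ := exists_orderOf_mem_SU hF hK hadj (by norm_num) h7 h7'
  obtain ⟨P, hPS, hP⟩ := exists_conj_of_card (r := 7) (k := 1) (S := SUg 3 F q) (A := Subgroup.zpowers y)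
    (B := Subgroup.zpowers y₀) (by norm_num) (by simpa using hy) (by simpa using hy₀S)
    (by rw [Nat.card_zpowers, hyo]; norm_num) (by rw [Nat.card_zpowers, hy₀]; norm_num) h49
  have hPc : ∀ g ∈ SUg 3 F q, P * g * P⁻¹ ∈ SUg 3 F q := fun g hg =>
    (SUg 3 F q).mul_mem ((SUg 3 F q).mul_mem hPS hg) ((SUg 3 F q).inv_mem hPS)
  obtain ⟨w, hwdef⟩ : ∃ w, w = P * y * P⁻¹ := ⟨_, rfl⟩
  have hw : w ∈ Subgroup.zpowers y₀ := by rw [hwdef]; exact hP y (Subgroup.mem_zpowers y)
  have hwK : (w : Matrix (Fin 3) (Fin 3) F) ∈ K := by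
    have : Subgroup.zpowers y₀ ≤ KU hK := by
      rw [Subgroup.zpowers_le]; exact hy₀K
    exact this hw
  have hwns : ¬ ∃ c : F, (w : Matrix (Fin 3) (Fin 3) F) = c • (1 : Matrix (Fin 3) (Fin 3) F) := by
    rintro ⟨c, hc⟩
    apply hxy
    have h1 : ∀ g : GL (Fin 3) F, g * w = w * g := by
      intro g
      apply Units.ext
      rw [Units.val_mul, Units.val_mul, hc, Matrix.mul_smul, Matrix.mul_one, Matrix.smul_mul, Matrix.one_mul]
    have h2 : y = w := by
      have : y = P⁻¹ * w * P := by rw [hwdef]; group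
      rw [this, h1 P⁻¹, inv_mul_cancel_right]
    rw [h2, h1]
  have hcomm : ∀ g : GL (Fin 3) F, g * y = y * g → ((P * g * P⁻¹ : GL (Fin 3) F) : Matrix (Fin 3) (Fin 3) F) ∈ K := by
    intro g hg
    apply mem_of_comm hK hwK hwns
    rw [← Units.val_mul, ← Units.val_mul, hwdef]
    congr 1
    calc P * g * P⁻¹ * (P * y * P⁻¹) = P * (g * y) * P⁻¹ := by group
      _ = P * (y * g) * P⁻¹ := by rw [hg]
      _ = P * y * P⁻¹ * (P * g * P⁻¹) := by group
  have hwo : orderOf w = 7 := by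
    rw [hwdef, ← hyo]
    exact ((SemiconjBy.conj_mk P y).orderOf_eq P).symm
  have hzo' : orderOf (P * z * P⁻¹) = q ^ 2 - q + 1 := by
    rw [← hzo]
    exact ((SemiconjBy.conj_mk P z).orderOf_eq P).symm
  apply excl hF hH hPS.1 (L := L) _ hL ⟨x, hx, hxL, ?_⟩
  · rintro h ⟨hhN, hhS⟩
    -- the centraliser of `y`
    have hcent : ∀ c : GL (Fin 3) F, c ∈ SUg 3 F q → c * y = y * c → c ∈ L := by
      intro c hcS hcy
      have h1 := hcomm c hcy
      have h2 := pow_eq_one_of_mem_SU hF hK hadj h1 (hPc c hcS)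
      rw [← hzo'] at h2
      obtain ⟨k, hk⟩ := mem_zpowers_of_pow hK h1 (hcomm z hzy) h2
      have h3 : (P * z * P⁻¹) ^ k = P * z ^ k * P⁻¹ := by
        rw [← MulAut.conj_apply, ← map_zpow, MulAut.conj_apply]
      have h4 : P * z ^ k * P⁻¹ = P * c * P⁻¹ := by rw [← h3]; exact hk
      have h5 : z ^ k = c := by
        have := congrArg (fun t => P⁻¹ * t * P) h4
        simpa [mul_assoc] using this
      rw [← h5]
      exact L.zpow_mem hzL k
    have h1 : ((h * w * h⁻¹ : GL (Fin 3) F) : Matrix (Fin 3) (Fin 3) F) ∈ K := by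
      rw [Units.val_mul, Units.val_mul]
      exact (hhN _).1 hwK
    have h2 : (h * w * h⁻¹) ^ orderOf w = 1 := by
      have : (h * w * h⁻¹) ^ orderOf w = h * w ^ orderOf w * h⁻¹ := by
        rw [← MulAut.conj_apply, ← map_pow, MulAut.conj_apply]
      rw [this, pow_orderOf_eq_one, mul_one, mul_inv_cancel]
    have h3 := mem_zpowers_of_pow hK h1 hwK h2
    obtain ⟨h', hh'⟩ : ∃ h', h' = P⁻¹ * h * P := ⟨_, rfl⟩
    have h4 : h' * y * h'⁻¹ ∈ Subgroup.zpowers y := by
      obtain ⟨k, hk⟩ := h3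
      refine ⟨k, ?_⟩
      have h5 : w ^ k = P * y ^ k * P⁻¹ := by
        rw [hwdef, ← MulAut.conj_apply, ← map_zpow, MulAut.conj_apply]
      have h6 : P * y ^ k * P⁻¹ = h * w * h⁻¹ := by rw [← h5]; exact hk
      show y ^ k = h' * y * h'⁻¹
      have h7 : y ^ k = P⁻¹ * (h * w * h⁻¹) * P := by rw [← h6]; group
      rw [h7, hwdef, hh']
      group
    have hh'S : h' ∈ SUg 3 F q := by
      rw [hh']
      exact (SUg 3 F q).mul_mem ((SUg 3 F q).mul_mem ((SUg 3 F q).inv_mem hPS) hhS) hPS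
    rw [← hh']
    classical
    have hfin : IsOfFinOrder y := isOfFinOrder_of_finite y
    rw [hfin.mem_zpowers_iff_mem_range_orderOf, Finset.mem_image] at h4
    obtain ⟨k, hk, hky⟩ := h4
    rw [Finset.mem_range, hyo] at hk
    have htrk : Matrix.trace ((y ^ k : GL (Fin 3) F) : Matrix (Fin 3) (Fin 3) F) =
        Matrix.trace (y : Matrix (Fin 3) (Fin 3) F) := by
      rw [hky, Units.val_mul, Units.val_mul]
      exact Matrix.trace_units_conj h' (y : Matrix (Fin 3) (Fin 3) F)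
    have hky' : h' * y = y ^ k * h' := by rw [hky]; group
    interval_cases k
    · exfalso
      rw [pow_zero, one_mul] at hky'
      exact hy1 (mul_left_cancel (a := h') (by rw [hky', mul_one]))
    · exact hcent h' hh'S (by rw [hky', pow_one])
    · have h8 : b⁻¹ * h' * y = y * (b⁻¹ * h') := by
        have h9 : b⁻¹ * y ^ 2 = y * b⁻¹ := by
          rw [inv_mul_eq_iff_eq_mul, ← mul_assoc, hby, mul_inv_cancel_right]
        rw [mul_assoc, hky', ← mul_assoc, h9, mul_assoc]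
      have h10 := hcent (b⁻¹ * h') ((SUg 3 F q).mul_mem ((SUg 3 F q).inv_mem hb) hh'S) h8
      have h11 : h' = b * (b⁻¹ * h') := by group
      rw [h11]
      exact L.mul_mem hbL h10
    · exact absurd htrk (htr 3 (by simp))
    · have h9 : b⁻¹ * y ^ 2 = y * b⁻¹ := by
        rw [inv_mul_eq_iff_eq_mul, ← mul_assoc, hby, mul_inv_cancel_right]
      have h8 : b⁻¹ * b⁻¹ * h' * y = y * (b⁻¹ * b⁻¹ * h') := by
        calc b⁻¹ * b⁻¹ * h' * y = b⁻¹ * b⁻¹ * (h' * y) := by group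
          _ = b⁻¹ * (b⁻¹ * y ^ 2) * y ^ 2 * h' := by rw [hky']; group
          _ = b⁻¹ * (y * b⁻¹) * y ^ 2 * h' := by rw [h9]
          _ = (b⁻¹ * y) * (b⁻¹ * y ^ 2) * h' := by simp only [mul_assoc]
          _ = (b⁻¹ * y) * (y * b⁻¹) * h' := by rw [h9]
          _ = (b⁻¹ * y ^ 2) * b⁻¹ * h' := by simp only [mul_assoc, pow_two]
          _ = (y * b⁻¹) * b⁻¹ * h' := by rw [h9]
          _ = y * (b⁻¹ * b⁻¹ * h') := by simp only [mul_assoc]
      have h10 := hcent (b⁻¹ * b⁻¹ * h') ((SUg 3 F q).mul_mem ((SUg 3 F q).mul_mem ((SUg 3 F q).inv_mem hb)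
        ((SUg 3 F q).inv_mem hb)) hh'S) h8
      have h11 : h' = b * (b * (b⁻¹ * b⁻¹ * h')) := by group
      rw [h11]
      exact L.mul_mem hbL (L.mul_mem hbL h10)
    · exact absurd htrk (htr 5 (by simp))
    · exact absurd htrk (htr 6 (by simp))
  · rintro ⟨hN, -⟩
    apply hxy
    have h1 := (hN (w : Matrix (Fin 3) (Fin 3) F)).1 hwK
    rw [← Units.val_mul, ← Units.val_mul] at h1
    have h2 := hK.comm _ h1 _ hwK
    rw [← Units.val_mul, ← Units.val_mul] at h2
    have h3 := Units.ext h2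
    rw [hwdef] at h3
    have h4 := congrArg (fun t => P⁻¹ * t * P) h3
    simp only [mul_assoc, inv_mul_cancel_left, _root_.mul_inv_rev, inv_inv, inv_mul_cancel, mul_one] at h4 ⊢
    exact h4

variable [Fintype F] {q : ℕ}

theorem card_SUg (hF : Fintype.card F = q ^ 2) :
    Nat.card (SUg 3 F q) = q ^ 3 * (q ^ 2 - 1) * (q ^ 3 + 1) := by
  have h1 := Cfsg.Agent.S0278.result hF 3 (by norm_num)
  have h2 : Nat.card (Cfsg.SU 3 F q) = Nat.card (SUg 3 F q) := by
    rw [← range_suHom]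
    exact Nat.card_congr (MonoidHom.ofInjective suHom_injective).toEquiv
  rw [h2] at h1
  have h3 : (q + 1) * Nat.card (SUg 3 F q) = (q + 1) * (q ^ 3 * (q ^ 2 - 1) * (q ^ 3 + 1)) := by
    have hq := two_le hF
    have h4 : (q ^ 1 + 1) = q + 1 := by rw [pow_one]
    rw [h1, Finset.prod_range_succ, Finset.prod_range_succ, Finset.prod_range_one]
    norm_num
    ring
  exact Nat.eq_of_mul_eq_mul_left (by omega) h3

end Cfsg.Agent.H907.SU3
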