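import Mathlib
import Cfsg.Agent.H907.ModelGood
import Cfsg.Agent.H907.SU3Sylow

set_option autoImplicit false
set_option linter.unusedSectionVars false

/-!
Further tools for the computable model of `SU_3(q)`.
-/

namespace Cfsg.Agent.H907.Mdl

open Cfsg Cfsg.Geo Matrix Cfsg.Agent.H907 Cfsg.Agent.H918
open scoped MatrixGroups

def kne (c : Par) (x y : K) : Bool := !(kz (kadd c x (kneg c y)))

def mne (c : Par) (a b : M) : Bool :=
  kne c a.1.1 b.1.1 || kne c a.1.2.1 b.1.2.1 || kne c a.1.2.2 b.1.2.2 ||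
  kne c a.2.1.1 b.2.1.1 || kne c a.2.1.2.1 b.2.1.2.1 || kne c a.2.1.2.2 b.2.1.2.2 ||
  kne c a.2.2.1 b.2.2.1 || kne c a.2.2.2.1 b.2.2.2.1 || kne c a.2.2.2.2 b.2.2.2.2

variable {F : Type*} [Field F] {c : Par} {θ : F} (hg : Good c θ)
include hg

theorem kne_ne {x y : K} (h : kne c x y = true) : ev θ x ≠ ev θ y := by
  intro he
  have h1 : ev θ (kadd c x (kneg c y)) = 0 := by
    rw [ev_kadd hg, ev_kneg hg, he, add_neg_cancel]
  have h2 := ev_eq_zero hg (kred_kadd hg _ _) h1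
  rw [kne, h2] at h
  exact absurd h (by decide)

theorem mne_ne {a b : M} (h : mne c a b = true) : toM θ a ≠ toM θ b := by
  intro he
  have h1 : ∀ i j, toM θ a i j = toM θ b i j := fun i j => by rw [he]
  have e00 := h1 0 0
  have e01 := h1 0 1
  have e02 := h1 0 2
  have e10 := h1 1 0
  have e11 := h1 1 1
  have e12 := h1 1 2
  have e20 := h1 2 0
  have e21 := h1 2 1
  have e22 := h1 2 2
  simp [toM, toV] at e00 e01 e02 e10 e11 e12 e20 e21 e22
  simp only [mne, Bool.or_eq_true] at h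
  rcases h with (((((((h | h) | h) | h) | h) | h) | h) | h) | h
  · exact kne_ne hg h e00
  · exact kne_ne hg h e01
  · exact kne_ne hg h e02
  · exact kne_ne hg h e10
  · exact kne_ne hg h e11
  · exact kne_ne hg h e12
  · exact kne_ne hg h e20
  · exact kne_ne hg h e21
  · exact kne_ne hg h e22

omit hg in
theorem toM_congr {a b : M} (h : meq a b = true) : toM θ a = toM θ b := by rw [meq_eq h]

/-- The extension field class is excluded, computational form. -/
theorem c3_excl_model [Fintype F] (hF : Fintype.card F = c.p ^ 2) (h7 : 7 ∣ c.p ^ 3 + 1) (h7' : ¬ 7 ∣ c.p ^ 2 - 1)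
    (h49 : ¬ 7 ^ 2 ∣ c.p ^ 3 * (c.p ^ 2 - 1) * (c.p ^ 3 + 1))
    {S : List V} {x y b z g₀ : M} {v₀ : V}
    (hS : okS c S = true) (hx : isSU c x = true) (hxS : chk c S x = true) (hxx : meq (mm c x x) I3 = true)
    (hy : isSU c y = true) (hy7 : meq (mpow c y 7) I3 = true) (hy1 : mne c y I3 = true)
    (hb : isSU c b = true) (hbS : chk c S b = true)
    (hby : meq (mm c b y) (mm c (mpow c y 2) b) = true)
    (hz : isSU c z = true) (hzS : chk c S z = true) (hzy : meq (mm c z y) (mm c y z) = true)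
    (hzo : meq (mpow c z (c.p ^ 2 - c.p + 1)) I3 = true)
    (hzo' : ∀ r ∈ (c.p ^ 2 - c.p + 1).primeFactors, mne c (mpow c z ((c.p ^ 2 - c.p + 1) / r)) I3 = true)
    (ht3 : kne c (mtrace c (mpow c y 3)) (mtrace c y) = true)
    (ht5 : kne c (mtrace c (mpow c y 5)) (mtrace c y) = true)
    (ht6 : kne c (mtrace c (mpow c y 6)) (mtrace c y) = true)
    (hxy : mne c (mm c (mm c (mm c x y) x) y) (mm c y (mm c (mm c x y) x)) = true)
    (hg₀ : isSU c g₀ = true) (hv₀ : v₀ ∈ S) (hg₀S : chkNot c S (mv c g₀ v₀) = true)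
    {K : Subalgebra F (Matrix (Fin 3) (Fin 3) F)} (hK : IsFieldSubalgebra 3 K)
    (hadj : IsAdjointClosedFor (hermForm 3 F c.p) K)
    (hH : IsMaximalIn (SUg 3 F c.p) (subalgebraNormalizer K ⊓ SUg 3 F c.p)) : False := by
  obtain ⟨X, hXS, hX⟩ := exists_SU hg hF hx
  obtain ⟨Y, hYS, hY⟩ := exists_SU hg hF hy
  obtain ⟨B, hBS, hB⟩ := exists_SU hg hF hb
  obtain ⟨Z, hZS, hZ⟩ := exists_SU hg hF hz
  obtain ⟨G, hGS, hG⟩ := exists_SU hg hF hg₀
  have hYp : ∀ k, ((Y ^ k : GL (Fin 3) F) : Matrix (Fin 3) (Fin 3) F) = toM θ (mpow c y k) := by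
    intro k
    rw [Units.val_pow_eq_pow_val, hY, toM_mpow hg]
  have hZp : ∀ k, ((Z ^ k : GL (Fin 3) F) : Matrix (Fin 3) (Fin 3) F) = toM θ (mpow c z k) := by
    intro k
    rw [Units.val_pow_eq_pow_val, hZ, toM_mpow hg]
  have hXX : X⁻¹ = X := by
    rw [inv_eq_iff_mul_eq_one]
    apply Units.ext
    rw [Units.val_mul, hX, ← toM_mm hg, toM_congr hxx, toM_I3 hg, Units.val_one]
  have htr : ∀ k, kne c (mtrace c (mpow c y k)) (mtrace c y) = true →
      Matrix.trace ((Y ^ k : GL (Fin 3) F) : Matrix (Fin 3) (Fin 3) F) ≠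
      Matrix.trace (Y : Matrix (Fin 3) (Fin 3) F) := by
    intro k hk
    rw [hYp, hY, ← ev_mtrace hg, ← ev_mtrace hg]
    exact kne_ne hg hk
  refine SU3.c3_excl hF h7 h7' (by rw [SU3.card_SUg hF]; exact h49) (L := stab (lineSet θ S)) (x := X) (y := Y)
    (b := B) (z := Z) hXS (mem_stab_of_chk hg hS hxS hX) hYS ?_ ?_ hBS (mem_stab_of_chk hg hS hbS hB) ?_
    (mem_stab_of_chk hg hS hzS hZ) ?_ ?_ ?_ ?_ ⟨G, hGS, not_mem_stab_of_chk hg hv₀ hg₀S hG⟩ hK hadj hH
  · apply Units.ext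
    rw [hYp, toM_congr hy7, toM_I3 hg, Units.val_one]
  · intro h
    have := congrArg Units.val h
    rw [hY, Units.val_one, ← toM_I3 hg] at this
    exact mne_ne hg hy1 this
  · apply Units.ext
    rw [Units.val_mul, Units.val_mul, hYp, hB, hY, ← toM_mm hg, ← toM_mm hg]
    exact toM_congr hby
  · apply Units.ext
    rw [Units.val_mul, Units.val_mul, hZ, hY, ← toM_mm hg, ← toM_mm hg]
    exact toM_congr hzy
  · apply orderOf_eq_of_pow_and_pow_div_prime (by omega)
    · apply Units.ext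
      rw [hZp, toM_congr hzo, toM_I3 hg, Units.val_one]
    · intro r hr hrd h
      have h1 := hzo' r (Nat.mem_primeFactors.2 ⟨hr, hrd, by omega⟩)
      have := congrArg Units.val h
      rw [hZp, Units.val_one, ← toM_I3 hg] at this
      exact mne_ne hg h1 this
  · rintro k hk
    rcases hk with rfl | rfl | rfl
    · exact htr 3 ht3
    · exact htr 5 ht5
    · exact htr 6 ht6
  · intro h
    rw [hXX] at h
    have := congrArg Units.val h
    simp only [Units.val_mul, hX, hY, ← toM_mm hg] at this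
    exact mne_ne hg hxy this

end Cfsg.Agent.H907.Mdl
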