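import Mathlib
import Cfsg.Agent.H907.ModelTools

set_option autoImplicit false
set_option maxRecDepth 100000

/-!
The subgroup `3.A_7` of `SU_3(5)` as stabiliser of a set of 105 lines; the normaliser of a field subalgebra of
degree three is not maximal in `SU_3(5)`.
-/

namespace Cfsg.Agent.H907.Mdl.SU35

open Cfsg Cfsg.Geo Matrix Cfsg.Agent.H907 Cfsg.Agent.H918
open scoped MatrixGroups

def S105 : List V := [((0,0),(0,0),(1,0)),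
  ((0,0),(1,0),(0,0)),
  ((0,0),(1,0),(0,1)),
  ((0,0),(1,0),(0,4)),
  ((0,0),(1,0),(1,0)),
  ((0,0),(1,0),(1,1)),
  ((0,0),(1,0),(4,0)),
  ((0,0),(1,0),(4,4)),
  ((1,0),(0,0),(0,0)),
  ((1,0),(0,0),(0,1)),
  ((1,0),(0,0),(0,4)),
  ((1,0),(0,0),(1,0)),
  ((1,0),(0,0),(1,1)),
  ((1,0),(0,0),(4,0)),
  ((1,0),(0,0),(4,4)),
  ((1,0),(0,1),(0,0)),
  ((1,0),(0,1),(1,1)),
  ((1,0),(0,1),(2,2)),
  ((1,0),(0,1),(2,3)),
  ((1,0),(0,1),(3,2)),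
  ((1,0),(0,1),(3,3)),
  ((1,0),(0,1),(4,4)),
  ((1,0),(0,2),(1,1)),
  ((1,0),(0,2),(2,2)),
  ((1,0),(0,2),(3,3)),
  ((1,0),(0,2),(4,4)),
  ((1,0),(0,3),(1,1)),
  ((1,0),(0,3),(2,2)),
  ((1,0),(0,3),(3,3)),
  ((1,0),(0,3),(4,4)),
  ((1,0),(0,4),(0,0)),
  ((1,0),(0,4),(1,1)),
  ((1,0),(0,4),(2,2)),
  ((1,0),(0,4),(2,3)),
  ((1,0),(0,4),(3,2)),
  ((1,0),(0,4),(3,3)),
  ((1,0),(0,4),(4,4)),
  ((1,0),(1,0),(0,0)),
  ((1,0),(1,0),(1,0)),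
  ((1,0),(1,0),(2,0)),
  ((1,0),(1,0),(2,4)),
  ((1,0),(1,0),(3,0)),
  ((1,0),(1,0),(3,1)),
  ((1,0),(1,0),(4,0)),
  ((1,0),(1,1),(0,0)),
  ((1,0),(1,1),(0,1)),
  ((1,0),(1,1),(0,2)),
  ((1,0),(1,1),(0,3)),
  ((1,0),(1,1),(0,4)),
  ((1,0),(1,1),(1,3)),
  ((1,0),(1,1),(4,2)),
  ((1,0),(1,2),(1,2)),
  ((1,0),(1,2),(4,3)),
  ((1,0),(1,3),(1,1)),
  ((1,0),(1,3),(4,4)),
  ((1,0),(1,4),(2,1)),
  ((1,0),(1,4),(3,4)),
  ((1,0),(2,0),(1,0)),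
  ((1,0),(2,0),(2,0)),
  ((1,0),(2,0),(3,0)),
  ((1,0),(2,0),(4,0)),
  ((1,0),(2,1),(1,4)),
  ((1,0),(2,1),(4,1)),
  ((1,0),(2,2),(0,1)),
  ((1,0),(2,2),(0,2)),
  ((1,0),(2,2),(0,3)),
  ((1,0),(2,2),(0,4)),
  ((1,0),(2,3),(0,1)),
  ((1,0),(2,3),(0,4)),
  ((1,0),(2,4),(1,0)),
  ((1,0),(2,4),(4,0)),
  ((1,0),(3,0),(1,0)),
  ((1,0),(3,0),(2,0)),
  ((1,0),(3,0),(3,0)),
  ((1,0),(3,0),(4,0)),
  ((1,0),(3,1),(1,0)),
  ((1,0),(3,1),(4,0)),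
  ((1,0),(3,2),(0,1)),
  ((1,0),(3,2),(0,4)),
  ((1,0),(3,3),(0,1)),
  ((1,0),(3,3),(0,2)),
  ((1,0),(3,3),(0,3)),
  ((1,0),(3,3),(0,4)),
  ((1,0),(3,4),(1,4)),
  ((1,0),(3,4),(4,1)),
  ((1,0),(4,0),(0,0)),
  ((1,0),(4,0),(1,0)),
  ((1,0),(4,0),(2,0)),
  ((1,0),(4,0),(2,4)),
  ((1,0),(4,0),(3,0)),
  ((1,0),(4,0),(3,1)),
  ((1,0),(4,0),(4,0)),
  ((1,0),(4,1),(2,1)),
  ((1,0),(4,1),(3,4)),
  ((1,0),(4,2),(1,1)),
  ((1,0),(4,2),(4,4)),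
  ((1,0),(4,3),(1,2)),
  ((1,0),(4,3),(4,3)),
  ((1,0),(4,4),(0,0)),
  ((1,0),(4,4),(0,1)),
  ((1,0),(4,4),(0,2)),
  ((1,0),(4,4),(0,3)),
  ((1,0),(4,4),(0,4)),
  ((1,0),(4,4),(1,3)),
  ((1,0),(4,4),(4,2))]
def mx : M := (((3,0),(4,0),(4,0)), ((4,0),(3,0),(4,0)), ((4,0),(4,0),(3,0)))
def my : M := (((0,0),(1,2),(1,4)), ((2,1),(3,0),(3,3)), ((3,4),(3,0),(3,3)))
def mb : M := (((1,2),(3,0),(2,0)), ((4,1),(2,2),(3,3)), ((0,0),(2,1),(2,1)))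
def mz : M := (((0,0),(3,4),(1,2)), ((4,1),(0,3),(2,0)), ((1,4),(0,3),(2,0)))
def md1 : M := (((0,4),(0,0),(0,0)), ((0,0),(1,1),(0,0)), ((0,0),(0,0),(1,0)))
def md2 : M := (((1,0),(0,0),(0,0)), ((0,0),(0,4),(0,0)), ((0,0),(0,0),(1,1)))
def mpc : M := (((0,0),(0,0),(1,0)), ((1,0),(0,0),(0,0)), ((0,0),(1,0),(0,0)))
def mps : M := (((0,0),(4,0),(0,0)), ((4,0),(0,0),(0,0)), ((0,0),(0,0),(4,0)))
def mg : M := (((4,0),(0,0),(0,0)), ((0,0),(2,0),(1,3)), ((0,0),(3,2),(3,0)))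
def v₀ : V := ((0,0),(0,0),(1,0))

theorem okS105 : okS c5 S105 = true := by decide +kernel
theorem chk_mx : chk c5 S105 mx = true := by decide +kernel
theorem chk_my : chk c5 S105 my = true := by decide +kernel
theorem chk_mb : chk c5 S105 mb = true := by decide +kernel
theorem chk_mz : chk c5 S105 mz = true := by decide +kernel
theorem chk_md1 : chk c5 S105 md1 = true := by decide +kernel
theorem chk_md2 : chk c5 S105 md2 = true := by decide +kernel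
theorem chk_mpc : chk c5 S105 mpc = true := by decide +kernel
theorem chk_mps : chk c5 S105 mps = true := by decide +kernel

theorem primeFactors_21 {r : ℕ} (hr : r ∈ (c5.p ^ 2 - c5.p + 1).primeFactors) : r = 3 ∨ r = 7 := by
  have h1 := Nat.mem_primeFactors.1 hr
  have h2 : c5.p ^ 2 - c5.p + 1 = 3 * 7 := by decide
  rw [h2] at h1
  rcases (h1.1.dvd_mul).1 h1.2.1 with h | h
  · exact Or.inl ((Nat.prime_dvd_prime_iff_eq h1.1 (by norm_num)).1 h)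
  · exact Or.inr ((Nat.prime_dvd_prime_iff_eq h1.1 (by norm_num)).1 h)

theorem zorder : ∀ r ∈ (c5.p ^ 2 - c5.p + 1).primeFactors, mne c5 (mpow c5 mz ((c5.p ^ 2 - c5.p + 1) / r)) I3 = true := by
  intro r hr
  rcases primeFactors_21 hr with rfl | rfl
  · decide +kernel
  · decide +kernel

/-- the normaliser of a field subalgebra of degree three is not maximal in `SU_3(5)` -/
theorem c3_excl {F : Type*} [Field F] [Fintype F] (hF : Fintype.card F = 5 ^ 2)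
    {K : Subalgebra F (Matrix (Fin 3) (Fin 3) F)} (hK : IsFieldSubalgebra 3 K)
    (hadj : IsAdjointClosedFor (hermForm 3 F 5) K)
    (hH : IsMaximalIn (SUg 3 F 5) (subalgebraNormalizer K ⊓ SUg 3 F 5)) : False := by
  obtain ⟨θ, hg⟩ := exists_good5 hF
  refine c3_excl_model hg (c := c5) hF (by decide) (by decide) (by decide) (S := S105) (x := mx) (y := my) (b := mb)
    (z := mz) (g₀ := mg) (v₀ := v₀) okS105 ?_ chk_mx ?_ ?_ ?_ ?_ ?_ chk_mb ?_ ?_ chk_mz ?_ ?_ zorder ?_ ?_ ?_ ?_ ?_ ?_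
    ?_ hK hadj hH
  all_goals decide +kernel

end Cfsg.Agent.H907.Mdl.SU35
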