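import Mathlib
import Cfsg.Agent.H907.SU3FiveData
import Cfsg.Agent.ClassicalGeometry.GUBasic

set_option autoImplicit false
set_option linter.unusedSectionVars false

/-!
Monomial elements of `SU_3(5)` lie in the subgroup `3.A_7`; the frame stabiliser is not maximal in `SU_3(5)`.
-/

namespace Cfsg.Agent.H907.Mdl.SU35

open Cfsg Cfsg.Geo Matrix Cfsg.Agent.H907 Cfsg.Agent.H907.SU3 Cfsg.Agent.H918 Cfsg.Agent.LieClassical.HermBasic
open scoped MatrixGroups

section basis

variable {F : Type*} [Field F]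

theorem ext_basis {g h : GL (Fin 3) F}
    (H : ∀ i, (g : Matrix (Fin 3) (Fin 3) F) *ᵥ Pi.single i 1 = (h : Matrix (Fin 3) (Fin 3) F) *ᵥ Pi.single i 1) :
    g = h := by
  apply Units.ext
  ext i j
  have := congrFun (H j) i
  simpa [Matrix.mulVec_single_one] using this

/-- scalars stabilise every set of subspaces -/
theorem scalars_le_stab (S : Set (Submodule F (Fin 3 → F))) : scalars (Fin 3) F ≤ stab S := by
  intro g hg W
  rw [mem_scalars_iff] at hg
  obtain ⟨c, hc⟩ := hg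
  have : act g W = W := by
    ext v
    rw [mem_act, hc]
    constructor
    · rintro ⟨w, hw, rfl⟩
      rw [Matrix.smul_mulVec, Matrix.one_mulVec]
      exact W.smul_mem _ hw
    · intro hv
      refine ⟨(c : F)⁻¹ • v, W.smul_mem _ hv, ?_⟩
      rw [Matrix.smul_mulVec, Matrix.one_mulVec, smul_smul, mul_inv_cancel₀ c.ne_zero, one_smul]
  rw [this]

end basis

/-- the list of signed permutation matrices of determinant one (up to sign) used below -/
def SP : List M :=
  let I := I3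
  let C := mpc
  let C2 := mm c5 mpc mpc
  let T := mps
  let CT := mm c5 mpc mps
  let CCT := mm c5 (mm c5 mpc mpc) mps
  let A : M := (((1, 0), (0, 0), (0, 0)), ((0, 0), (4, 0), (0, 0)), ((0, 0), (0, 0), (4, 0)))
  let B : M := (((4, 0), (0, 0), (0, 0)), ((0, 0), (1, 0), (0, 0)), ((0, 0), (0, 0), (4, 0)))
  let D : M := (((4, 0), (0, 0), (0, 0)), ((0, 0), (4, 0), (0, 0)), ((0, 0), (0, 0), (1, 0)))
  [I, C, C2, T, CT, CCT, A, mm c5 A C, mm c5 A C2, mm c5 A T, mm c5 A CT, mm c5 A CCT,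
    B, mm c5 B C, mm c5 B C2, mm c5 B T, mm c5 B CT, mm c5 B CCT,
    D, mm c5 D C, mm c5 D C2, mm c5 D T, mm c5 D CT, mm c5 D CCT]

/-- monomiality of a matrix of the model: the entries off the positions `(j i, i)` vanish -/
def isMonoM (m : M) : Bool :=
  (kz m.2.1.1 && kz m.2.2.1 || kz m.1.1 && kz m.2.2.1 || kz m.1.1 && kz m.2.1.1) &&
  (kz m.2.1.2.1 && kz m.2.2.2.1 || kz m.1.2.1 && kz m.2.2.2.1 || kz m.1.2.1 && kz m.2.1.2.1) &&
  (kz m.2.1.2.2 && kz m.2.2.2.2 || kz m.1.2.2 && kz m.2.2.2.2 || kz m.1.2.2 && kz m.2.1.2.2)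

theorem kz_eq {x : K} (h : kz x = true) : x = (0, 0) := by
  simp only [kz, Bool.and_eq_true] at h
  exact Prod.ext (Nat.eq_of_beq_eq_true h.1) (Nat.eq_of_beq_eq_true h.2)

def isRealM (m : M) : Bool :=
  Nat.beq m.1.1.2 0 && Nat.beq m.1.2.1.2 0 && Nat.beq m.1.2.2.2 0 &&
  Nat.beq m.2.1.1.2 0 && Nat.beq m.2.1.2.1.2 0 && Nat.beq m.2.1.2.2.2 0 &&
  Nat.beq m.2.2.1.2 0 && Nat.beq m.2.2.2.1.2 0 && Nat.beq m.2.2.2.2.2 0

theorem real_entry {F : Type*} [Field F] {c : Par} {θ : F} (hg : Good c θ) (hp : c.p.Prime) {m : M}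
    (h : isRealM m = true) (i j : Fin 3) : (toM θ m i j) ^ c.p = toM θ m i j := by
  have := hg.char
  have : Fact c.p.Prime := ⟨hp⟩
  have h1 : ∀ x : K, x.2 = 0 → (ev θ x) ^ c.p = ev θ x := by
    intro x hx
    have h2 : ev θ x = (x.1 : F) := by simp [ev, hx]
    rw [h2]
    have := map_natCast (frobenius F c.p) x.1
    rwa [frobenius_def] at this
  simp only [isRealM, Bool.and_eq_true] at h
  obtain ⟨⟨⟨⟨⟨⟨⟨⟨h00, h01⟩, h02⟩, h10⟩, h11⟩, h12⟩, h20⟩, h21⟩, h22⟩ := h
  fin_cases i <;> fin_cases j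
  · exact h1 _ (Nat.eq_of_beq_eq_true h00)
  · exact h1 _ (Nat.eq_of_beq_eq_true h01)
  · exact h1 _ (Nat.eq_of_beq_eq_true h02)
  · exact h1 _ (Nat.eq_of_beq_eq_true h10)
  · exact h1 _ (Nat.eq_of_beq_eq_true h11)
  · exact h1 _ (Nat.eq_of_beq_eq_true h12)
  · exact h1 _ (Nat.eq_of_beq_eq_true h20)
  · exact h1 _ (Nat.eq_of_beq_eq_true h21)
  · exact h1 _ (Nat.eq_of_beq_eq_true h22)

theorem ev_inj {F : Type*} [Field F] {c : Par} {θ : F} (hg : Good c θ) {x y : K} (hx : kred c x = true)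
    (hy : kred c y = true) (h : ev θ x = ev θ y) : x = y := by
  have h1 : ev θ (kadd c x (kneg c y)) = 0 := by rw [ev_kadd hg, ev_kneg hg, h, add_neg_cancel]
  have h2 := kz_eq (ev_eq_zero hg (kred_kadd hg _ _) h1)
  have := hg.char
  have key : ∀ a b : ℕ, a < c.p → b < c.p → (a + ((c.p - 1) * b) % c.p) % c.p = 0 → a = b := by
    intro a b ha hb hab
    have h3 : (((a + ((c.p - 1) * b) % c.p) % c.p : ℕ) : F) = 0 := by rw [hab]; simp
    rw [cast_mod hg] at h3
    push_cast at h3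
    rw [cast_mod hg] at h3
    push_cast at h3
    have h4 : ((c.p - 1 : ℕ) : F) = -1 := by
      rw [Nat.cast_sub hg.pos, cast_p hg, Nat.cast_one, zero_sub]
    rw [h4] at h3
    have h5 : (a : F) = (b : F) := by linear_combination h3
    exact Nat.ModEq.eq_of_lt_of_lt ((CharP.natCast_eq_natCast F c.p).1 h5) ha hb
  simp only [kred, Bool.and_eq_true] at hx hy
  exact Prod.ext (key _ _ (Nat.blt_eq.mp hx.1) (Nat.blt_eq.mp hy.1) (congrArg Prod.fst h2))
    (key _ _ (Nat.blt_eq.mp hx.2) (Nat.blt_eq.mp hy.2) (congrArg Prod.snd h2))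

theorem SP_ok : (SP.all fun s => isSU c5 s && isMonoM s && isRealM s) = true := by decide +kernel

theorem SP_trans : ((List.range 5).all fun a => (List.range 5).all fun b => (List.range 5).all fun c =>
    !(keq (dot c5 ((a, 0), (b, 0), (c, 0)) ((a, 0), (b, 0), (c, 0))) (1, 0)) ||
    SP.any fun s => veq (mv c5 s ((a, 0), (b, 0), (c, 0))) ((1, 0), (0, 0), (0, 0)) ||
      veq (mv c5 s ((a, 0), (b, 0), (c, 0))) ((3, 0), (4, 0), (4, 0))) = true := by decide +kernel

theorem isMono_of_model {F : Type*} [Field F] {θ : F} {m : M} (h : isMonoM m = true) {g : GL (Fin 3) F}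
    (hgm : (g : Matrix (Fin 3) (Fin 3) F) = toM θ m) : IsMono g := by
  have key : ∀ i : Fin 3, ∃ k : Fin 3, ∃ a : F, (g : Matrix (Fin 3) (Fin 3) F) *ᵥ Pi.single i 1 = a • Pi.single k 1 := by
    have h0 : ev θ ((0, 0) : K) = (0 : F) := by simp [ev]
    simp only [isMonoM, Bool.and_eq_true, Bool.or_eq_true] at h
    have aux : ∀ (i : Fin 3) (k : Fin 3), (∀ l, l ≠ k → toM θ m l i = 0) →
        ∃ a : F, (g : Matrix (Fin 3) (Fin 3) F) *ᵥ Pi.single i 1 = a • Pi.single k 1 := by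
      intro i k hl
      refine ⟨toM θ m k i, ?_⟩
      rw [hgm, Matrix.mulVec_single_one]
      ext l
      rcases eq_or_ne l k with rfl | hlk
      · simp
      · rw [Matrix.col_apply, hl l hlk]; simp [hlk]
    obtain ⟨⟨ha, hb⟩, hc⟩ := h
    intro i
    fin_cases i
    · rcases ha with (⟨h1, h2⟩ | ⟨h1, h2⟩) | ⟨h1, h2⟩
      · exact ⟨0, aux 0 0 (by intro l hl; fin_cases l <;> simp [toM, toV, kz_eq h1, kz_eq h2, h0] at hl ⊢)⟩
      · exact ⟨1, aux 0 1 (by intro l hl; fin_cases l <;> simp [toM, toV, kz_eq h1, kz_eq h2, h0] at hl ⊢)⟩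
      · exact ⟨2, aux 0 2 (by intro l hl; fin_cases l <;> simp [toM, toV, kz_eq h1, kz_eq h2, h0] at hl ⊢)⟩
    · rcases hb with (⟨h1, h2⟩ | ⟨h1, h2⟩) | ⟨h1, h2⟩
      · exact ⟨0, aux 1 0 (by intro l hl; fin_cases l <;> simp [toM, toV, kz_eq h1, kz_eq h2, h0] at hl ⊢)⟩
      · exact ⟨1, aux 1 1 (by intro l hl; fin_cases l <;> simp [toM, toV, kz_eq h1, kz_eq h2, h0] at hl ⊢)⟩
      · exact ⟨2, aux 1 2 (by intro l hl; fin_cases l <;> simp [toM, toV, kz_eq h1, kz_eq h2, h0] at hl ⊢)⟩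
    · rcases hc with (⟨h1, h2⟩ | ⟨h1, h2⟩) | ⟨h1, h2⟩
      · exact ⟨0, aux 2 0 (by intro l hl; fin_cases l <;> simp [toM, toV, kz_eq h1, kz_eq h2, h0] at hl ⊢)⟩
      · exact ⟨1, aux 2 1 (by intro l hl; fin_cases l <;> simp [toM, toV, kz_eq h1, kz_eq h2, h0] at hl ⊢)⟩
      · exact ⟨2, aux 2 2 (by intro l hl; fin_cases l <;> simp [toM, toV, kz_eq h1, kz_eq h2, h0] at hl ⊢)⟩
  choose k hk using key
  exact ⟨k, hk⟩

theorem scale_mem_stab {F : Type*} [Field F] {S : Set (Submodule F (Fin 3 → F))} {c : F} (hc : c ≠ 0) {g : GL (Fin 3) F} :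
    Cfsg.Agent.H914.scaleGL c hc g ∈ stab S ↔ g ∈ stab S := by
  unfold Cfsg.Agent.H914.scaleGL
  apply Subgroup.mul_mem_cancel_left
  exact scalars_le_stab _ ⟨Units.mk0 c hc, rfl⟩

theorem scale_mem_SUg {F : Type*} [Field F] {n q : ℕ} {c : F} (hc : c ≠ 0) {g : GL (Fin n) F}
    (hgS : ∀ u v, c * c ^ q * hermForm n F q ((g : Matrix (Fin n) (Fin n) F) *ᵥ u) ((g : Matrix (Fin n) (Fin n) F) *ᵥ v) =
      hermForm n F q u v) (hdet : c ^ n * (g : Matrix (Fin n) (Fin n) F).det = 1) :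
    Cfsg.Agent.H914.scaleGL c hc g ∈ SUg n F q := by
  rw [mem_SUg, Cfsg.Agent.H914.scaleGL_val]
  refine ⟨fun u v => ?_, ?_⟩
  · rw [Matrix.smul_mulVec, Matrix.smul_mulVec, herm_smul_left, herm_smul_right, ← hgS u v]
    ring
  · rw [Matrix.det_smul, Fintype.card_fin, hdet]

variable {F : Type*} [Field F] [Fintype F] {θ : F} (hg : Good c5 θ) (hF : Fintype.card F = 5 ^ 2)
include hg hF

omit [Fintype F] hF in
theorem root : θ ^ 2 + θ + 1 = 0 := by
  have h := hg.root
  have h5 := cast_p hg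
  simp only [c5] at h h5
  push_cast at h h5
  linear_combination h + (θ + 1) * h5

omit [Fintype F] hF in
/-- the sixth roots of unity -/
theorem exists_pow_of_pow_six {x : F} (hx : x ^ 6 = 1) : ∃ n : ℕ, x = (-θ) ^ n := by
  have hr := root hg
  have h3 : θ ^ 3 = 1 := by linear_combination (θ - 1) * hr
  have h : (x - 1) * (x + 1) * (x - θ) * (x + 1 + θ) * (x + θ) * (x - 1 - θ) = 0 := by
    have : (x - 1) * (x + 1) * (x - θ) * (x + 1 + θ) * (x + θ) * (x - 1 - θ) =
        (x ^ 2 - 1) * ((x ^ 2 - θ ^ 2) * (x ^ 2 - (1 + θ) ^ 2)) := by ring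
    rw [this]
    have h1 : (x ^ 2 - θ ^ 2) * (x ^ 2 - (1 + θ) ^ 2) = x ^ 4 + x ^ 2 + 1 := by
      linear_combination (-2 * x ^ 2 + θ ^ 2 + θ - 1) * hr
    rw [h1]
    linear_combination hx
  have hx' : x = 1 ∨ x = -1 ∨ x = θ ∨ x = -1 - θ ∨ x = -θ ∨ x = 1 + θ := by
    rcases mul_eq_zero.1 h with h | h
    · rcases mul_eq_zero.1 h with h | h
      · rcases mul_eq_zero.1 h with h | h
        · rcases mul_eq_zero.1 h with h | h
          · rcases mul_eq_zero.1 h with h | h
            · exact Or.inl (by linear_combination h)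
            · exact Or.inr (Or.inl (by linear_combination h))
          · exact Or.inr (Or.inr (Or.inl (by linear_combination h)))
        · exact Or.inr (Or.inr (Or.inr (Or.inl (by linear_combination h))))
      · exact Or.inr (Or.inr (Or.inr (Or.inr (Or.inl (by linear_combination h)))))
    · exact Or.inr (Or.inr (Or.inr (Or.inr (Or.inr (by linear_combination h)))))
  rcases hx' with h | h | h | h | h | h
  · exact ⟨0, by rw [pow_zero, h]⟩
  · exact ⟨3, by linear_combination h + h3⟩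
  · exact ⟨4, by linear_combination h - θ * h3⟩
  · exact ⟨2, by linear_combination h - hr⟩
  · exact ⟨1, by rw [pow_one, h]⟩
  · exact ⟨5, by linear_combination h + hr + θ ^ 2 * h3⟩

/-- diagonal elements -/
theorem diag_mem {d : GL (Fin 3) F} (hd : d ∈ SUg 3 F 5)
    (hdi : ∀ i, ∃ b : F, (d : Matrix (Fin 3) (Fin 3) F) *ᵥ Pi.single i 1 = b • Pi.single i 1) :
    d ∈ stab (lineSet θ S105) := by
  choose b hb using hdi
  obtain ⟨D1, -, hD1⟩ := exists_SU hg hF (m := md1) (by decide +kernel)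
  obtain ⟨D2, -, hD2⟩ := exists_SU hg hF (m := md2) (by decide +kernel)
  have h1 : D1 ∈ stab (lineSet θ S105) := mem_stab_of_chk hg okS105 chk_md1 hD1
  have h2 : D2 ∈ stab (lineSet θ S105) := mem_stab_of_chk hg okS105 chk_md2 hD2
  rw [mem_SUg] at hd
  have hb6 : ∀ i, b i ^ 6 = 1 := by
    intro i
    have h := hd.1 (Pi.single i 1) (Pi.single i 1)
    rw [hb, herm_smul_left, herm_smul_right, herm_single_right hF] at h
    simp only [Pi.single_eq_same, one_pow, mul_one] at h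
    rw [← h]; ring
  have hdet : b 0 * b 1 * b 2 = 1 := by
    have : (d : Matrix (Fin 3) (Fin 3) F) = Matrix.diagonal b := by
      ext i j
      have := congrFun (hb j) i
      rw [Matrix.mulVec_single_one] at this
      rcases eq_or_ne i j with rfl | hij
      · simpa using this
      · simpa [hij] using this
    have h := hd.2
    rw [this, Matrix.det_diagonal, Fin.prod_univ_three] at h
    exact h
  obtain ⟨m, hm⟩ := exists_pow_of_pow_six hg (hb6 0)
  obtain ⟨n, hn⟩ := exists_pow_of_pow_six hg (hb6 1)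
  have hr := root hg
  have h5 : (5 : F) = 0 := by
    have := cast_p hg
    simp only [c5] at this
    exact_mod_cast this
  have h3 : θ ^ 3 = 1 := by linear_combination (θ - 1) * hr
  have e4 : ev θ ((0, 4) : K) = -θ := by
    simp [ev]; linear_combination θ * h5
  have e11 : ev θ ((1, 1) : K) = (-θ) ^ 5 := by
    simp [ev]; linear_combination hr + θ ^ 2 * h3
  have e10 : ev θ ((1, 0) : K) = 1 := ev_one hg
  have e00 : ev θ ((0, 0) : K) = 0 := ev_zero hg
  have s1 : ∀ i, (D1 : Matrix (Fin 3) (Fin 3) F) *ᵥ Pi.single i 1 =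
      (![-θ, (-θ) ^ 5, 1] : Fin 3 → F) i • Pi.single i 1 := by
    intro i
    rw [hD1, Matrix.mulVec_single_one]
    ext k
    fin_cases i <;> fin_cases k <;> simp [toM, toV, md1, e4, e11, e10, e00, Matrix.col]
  have s2 : ∀ i, (D2 : Matrix (Fin 3) (Fin 3) F) *ᵥ Pi.single i 1 =
      (![1, -θ, (-θ) ^ 5] : Fin 3 → F) i • Pi.single i 1 := by
    intro i
    rw [hD2, Matrix.mulVec_single_one]
    ext k
    fin_cases i <;> fin_cases k <;> simp [toM, toV, md2, e4, e11, e10, e00, Matrix.col]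
  have hpow : ∀ (D : GL (Fin 3) F) (a : Fin 3 → F),
      (∀ i, (D : Matrix (Fin 3) (Fin 3) F) *ᵥ Pi.single i 1 = a i • Pi.single i 1) →
      ∀ (k : ℕ) i, ((D ^ k : GL (Fin 3) F) : Matrix (Fin 3) (Fin 3) F) *ᵥ Pi.single i 1 = a i ^ k • Pi.single i 1 := by
    intro D a h k i
    induction k with
    | zero => rw [pow_zero, Units.val_one, Matrix.one_mulVec, pow_zero, one_smul]
    | succ k ih =>
      rw [pow_succ', Units.val_mul, ← Matrix.mulVec_mulVec, ih, Matrix.mulVec_smul, h, smul_smul, pow_succ]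
  have hfin : d = D1 ^ m * D2 ^ (m + n) := by
    apply ext_basis
    intro i
    rw [Units.val_mul, ← Matrix.mulVec_mulVec, hpow D2 _ s2, Matrix.mulVec_smul, hpow D1 _ s1, smul_smul, hb]
    congr 1
    have h6 : (-θ) ^ 6 = 1 := by linear_combination (θ ^ 3 + 1) * h3
    fin_cases i
    · simp [hm]
    · simp only [Fin.mk_one, Fin.isValue, Matrix.cons_val_one, Matrix.cons_val_zero]
      rw [hn, ← pow_mul, ← pow_add, show m + n + 5 * m = n + 6 * m by ring, pow_add, pow_mul (-θ) 6, h6, one_pow,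
        mul_one]
    · simp only [Fin.reduceFinMk, Matrix.cons_val, one_pow, mul_one]
      rw [hm, hn] at hdet
      have hne : (-θ) ^ m * (-θ) ^ n ≠ 0 := by
        intro h0
        rw [h0, zero_mul] at hdet
        exact zero_ne_one hdet
      apply mul_left_cancel₀ hne
      rw [hdet, ← pow_mul, ← pow_add, ← pow_add, show m + n + 5 * (m + n) = 6 * (m + n) by ring, pow_mul, h6, one_pow]
  rw [hfin]
  exact (stab _).mul_mem ((stab _).pow_mem h1 _) ((stab _).pow_mem h2 _)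

/-- monomial elements -/
theorem mono_mem {g : GL (Fin 3) F} (hgS : g ∈ SUg 3 F 5) (hm : IsMono g) : g ∈ stab (lineSet θ S105) := by
  obtain ⟨j, hj⟩ := hm
  have hinj := IsMono.injective hj
  choose a ha using hj
  obtain ⟨C, hCS, hC⟩ := exists_SU hg hF (m := mpc) (by decide +kernel)
  obtain ⟨T, hTS, hT⟩ := exists_SU hg hF (m := mps) (by decide +kernel)
  have h1 : C ∈ stab (lineSet θ S105) := mem_stab_of_chk hg okS105 chk_mpc hC
  have h2 : T ∈ stab (lineSet θ S105) := mem_stab_of_chk hg okS105 chk_mps hT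
  have h5 : (5 : F) = 0 := by
    have := cast_p hg
    simp only [c5] at this
    exact_mod_cast this
  have e4 : ev θ ((4, 0) : K) = -1 := by
    simp [ev]; linear_combination h5
  have e10 : ev θ ((1, 0) : K) = 1 := ev_one hg
  have e00 : ev θ ((0, 0) : K) = 0 := ev_zero hg
  let cp : Fin 3 → Fin 3 := ![1, 2, 0]
  let tpm : Fin 3 → Fin 3 := ![1, 0, 2]
  have s1 : ∀ i, (C : Matrix (Fin 3) (Fin 3) F) *ᵥ Pi.single i 1 = Pi.single (cp i) 1 := by
    intro i
    rw [hC, Matrix.mulVec_single_one]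
    ext k
    fin_cases i <;> fin_cases k <;> simp [toM, toV, mpc, e10, e00, Matrix.col, cp]
  have s2 : ∀ i, (T : Matrix (Fin 3) (Fin 3) F) *ᵥ Pi.single i 1 = (-1 : F) • Pi.single (tpm i) 1 := by
    intro i
    rw [hT, Matrix.mulVec_single_one]
    ext k
    fin_cases i <;> fin_cases k <;> simp [toM, toV, mps, e4, e00, Matrix.col, tpm]
  have s3 : ∀ (k : ℕ) i, ((C ^ k : GL (Fin 3) F) : Matrix (Fin 3) (Fin 3) F) *ᵥ Pi.single i 1 =
      Pi.single (cp^[k] i) 1 := by
    intro k i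
    induction k with
    | zero => rw [pow_zero, Units.val_one, Matrix.one_mulVec]; rfl
    | succ k ih =>
      rw [pow_succ', Units.val_mul, ← Matrix.mulVec_mulVec, ih, s1, Function.iterate_succ_apply']
  have s4 : ∀ (k : ℕ) i, ((T ^ k : GL (Fin 3) F) : Matrix (Fin 3) (Fin 3) F) *ᵥ Pi.single i 1 =
      (-1 : F) ^ k • Pi.single (tpm^[k] i) 1 := by
    intro k i
    induction k with
    | zero => rw [pow_zero, Units.val_one, Matrix.one_mulVec, pow_zero, one_smul]; rfl
    | succ k ih =>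
      rw [pow_succ', Units.val_mul, ← Matrix.mulVec_mulVec, ih, Matrix.mulVec_smul, s2,
        Function.iterate_succ_apply', smul_smul, pow_succ]
  have hperm : ∃ k l : ℕ, ∀ i, j i = cp^[k] (tpm^[l] i) := by
    have : ∀ j : Fin 3 → Fin 3, Function.Injective j →
        ∃ k : Fin 3, ∃ l : Fin 2, ∀ i, j i = (![1, 2, 0] : Fin 3 → Fin 3)^[(k : ℕ)] ((![1, 0, 2] : Fin 3 → Fin 3)^[(l : ℕ)] i) := by
      decide
    obtain ⟨k, l, h⟩ := this j hinj
    exact ⟨k, l, h⟩
  obtain ⟨k, l, hkl⟩ := hperm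
  obtain ⟨w, hw⟩ : ∃ w, w = C ^ k * T ^ l := ⟨_, rfl⟩
  have hwL : w ∈ stab (lineSet θ S105) := by
    rw [hw]; exact (stab _).mul_mem ((stab _).pow_mem h1 _) ((stab _).pow_mem h2 _)
  have hwS : w ∈ SUg 3 F 5 := by
    rw [hw]; exact (SUg 3 F 5).mul_mem ((SUg 3 F 5).pow_mem hCS _) ((SUg 3 F 5).pow_mem hTS _)
  have hwi : ∀ i, (w : Matrix (Fin 3) (Fin 3) F) *ᵥ Pi.single i 1 = (-1 : F) ^ l • Pi.single (j i) 1 := by
    intro i
    rw [hw, Units.val_mul, ← Matrix.mulVec_mulVec, s4, Matrix.mulVec_smul, s3, ← hkl]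
  have hd : w⁻¹ * g ∈ stab (lineSet θ S105) := by
    apply diag_mem hg hF ((SUg 3 F 5).mul_mem ((SUg 3 F 5).inv_mem hwS) hgS)
    intro i
    refine ⟨a i * (-1) ^ l, ?_⟩
    apply mulVec_injective w
    show (w : Matrix (Fin 3) (Fin 3) F) *ᵥ _ = (w : Matrix (Fin 3) (Fin 3) F) *ᵥ _
    rw [Units.val_mul, ← Matrix.mulVec_mulVec, mulVec_inv_mulVec, ha, Matrix.mulVec_smul, hwi, smul_smul, mul_assoc,
      ← mul_pow]
    simp
  have : g = w * (w⁻¹ * g) := by group
  rw [this]
  exact (stab _).mul_mem hwL hd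

/-- monomial elements of determinant `±1` -/
theorem mono_mem' {g : GL (Fin 3) F} (hgS : g ∈ Cfsg.GU 3 F 5) (hdet : (g : Matrix (Fin 3) (Fin 3) F).det ^ 2 = 1)
    (hm : IsMono g) : g ∈ stab (lineSet θ S105) := by
  have hc : (g : Matrix (Fin 3) (Fin 3) F).det ≠ 0 := by
    intro h0
    rw [h0] at hdet
    norm_num at hdet
  rw [← scale_mem_stab hc]
  apply mono_mem hg hF
  · apply scale_mem_SUg
    · intro u v
      rw [mem_GU.1 hgS]
      have : (g : Matrix (Fin 3) (Fin 3) F).det * (g : Matrix (Fin 3) (Fin 3) F).det ^ 5 = 1 := by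
        calc _ = ((g : Matrix (Fin 3) (Fin 3) F).det ^ 2) ^ 3 := by ring
          _ = 1 := by rw [hdet, one_pow]
      rw [this, one_mul]
    · calc _ = ((g : Matrix (Fin 3) (Fin 3) F).det ^ 2) ^ 2 := by ring
        _ = 1 := by rw [hdet, one_pow]
  · obtain ⟨j, hj⟩ := hm
    refine ⟨j, fun i => ?_⟩
    obtain ⟨a, ha⟩ := hj i
    refine ⟨(g : Matrix (Fin 3) (Fin 3) F).det * a, ?_⟩
    rw [Cfsg.Agent.H914.scaleGL_val, Matrix.smul_mulVec, ha, smul_smul]

omit [Fintype F] hF in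
/-- elements fixed by the Frobenius map are small natural numbers -/
theorem exists_nat {x : F} (hx : x ^ 5 = x) : ∃ n : ℕ, n < 5 ∧ x = n := by
  have h5 : (5 : F) = 0 := by
    have := cast_p hg
    simp only [c5] at this
    exact_mod_cast this
  have h : x * (x - 1) * (x - 2) * (x - 3) * (x - 4) = 0 := by
    linear_combination hx + (-2 * x ^ 4 + 7 * x ^ 3 - 10 * x ^ 2 + 5 * x) * h5
  rcases mul_eq_zero.1 h with h | h
  · rcases mul_eq_zero.1 h with h | h
    · rcases mul_eq_zero.1 h with h | h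
      · rcases mul_eq_zero.1 h with h | h
        · exact ⟨0, by norm_num, by simpa using h⟩
        · exact ⟨1, by norm_num, by push_cast; linear_combination h⟩
      · exact ⟨2, by norm_num, by push_cast; linear_combination h⟩
    · exact ⟨3, by norm_num, by push_cast; linear_combination h⟩
  · exact ⟨4, by norm_num, by push_cast; linear_combination h⟩

/-- a vector over the prime field, as a vector of the model -/
theorem exists_model_vec {v : Fin 3 → F} (hv : ∀ i, v i ^ 5 = v i) :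
    ∃ a b c : ℕ, a < 5 ∧ b < 5 ∧ c < 5 ∧ v = toV θ ((a, 0), (b, 0), (c, 0)) := by
  obtain ⟨a, ha, h0⟩ := exists_nat hg (hv 0)
  obtain ⟨b, hb, h1⟩ := exists_nat hg (hv 1)
  obtain ⟨c, hc, h2⟩ := exists_nat hg (hv 2)
  refine ⟨a, b, c, ha, hb, hc, ?_⟩
  ext i
  fin_cases i
  · simpa [toV, ev] using h0
  · simpa [toV, ev] using h1
  · simpa [toV, ev] using h2

/-- elements of the unitary group over the prime field fixing the first basis vector -/
theorem real_mem_aux {g : GL (Fin 3) F} (hgS : g ∈ Cfsg.GU 3 F 5)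
    (hr : ∀ i j, ((g : Matrix (Fin 3) (Fin 3) F) i j) ^ 5 = (g : Matrix (Fin 3) (Fin 3) F) i j)
    (h0 : (g : Matrix (Fin 3) (Fin 3) F) *ᵥ Pi.single 0 1 = Pi.single 0 1) : g ∈ stab (lineSet θ S105) := by
  have h5 : (5 : F) = 0 := by
    have := cast_p hg
    simp only [c5] at this
    exact_mod_cast this
  have hcol := cols_of_mem_GU hF hgS
  have hadd : ∀ x y : F, (x + y) ^ 5 = x ^ 5 + y ^ 5 := fun x y => add_pow_q hF x y
  have hmono : ∀ i : Fin 3, ∃ k : Fin 3, ∃ a : F,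
      (g : Matrix (Fin 3) (Fin 3) F) *ᵥ Pi.single i 1 = a • Pi.single k 1 := by
    intro i
    by_cases hi : i = 0
    · exact ⟨0, 1, by rw [hi, h0, one_smul]⟩
    · have g0 : ∀ k, (g : Matrix (Fin 3) (Fin 3) F) k 0 = (Pi.single 0 1 : Fin 3 → F) k := by
        intro k
        have := congrFun h0 k
        rwa [Matrix.mulVec_single_one] at this
      have e1 := hcol i 0
      rw [Fin.sum_univ_three, g0 0, g0 1, g0 2, Matrix.one_apply_ne hi] at e1
      have e2 : (g : Matrix (Fin 3) (Fin 3) F) 0 i = 0 := by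
        simpa using e1
      have e3 := hcol i i
      rw [Fin.sum_univ_three, Matrix.one_apply_eq, hr, hr, hr, e2] at e3
      obtain ⟨b, hb, hb'⟩ := exists_nat hg (hr 1 i)
      obtain ⟨c, hc, hc'⟩ := exists_nat hg (hr 2 i)
      rw [hb', hc'] at e3
      have e4 : ((b * b + c * c : ℕ) : F) = ((1 : ℕ) : F) := by push_cast; linear_combination e3
      have := hg.char
      have e4' := (CharP.natCast_eq_natCast F c5.p).1 e4
      have e5 : b = 0 ∨ c = 0 := by
        have key : ∀ b c : Fin 5, (b.val * b.val + c.val * c.val) % 5 = 1 → b.val = 0 ∨ c.val = 0 := by decide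
        exact key ⟨b, hb⟩ ⟨c, hc⟩ e4'
      rcases e5 with rfl | rfl
      · refine ⟨2, (c : F), ?_⟩
        rw [Matrix.mulVec_single_one]
        ext k
        fin_cases k
        · simpa using e2
        · simpa using hb'
        · simpa using hc'
      · refine ⟨1, (b : F), ?_⟩
        rw [Matrix.mulVec_single_one]
        ext k
        fin_cases k
        · simpa using e2
        · simpa using hb'
        · simpa using hc'
  choose j hj using hmono
  apply mono_mem' hg hF hgS _ ⟨j, hj⟩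
  have hd5 : (g : Matrix (Fin 3) (Fin 3) F).det ^ 5 = (g : Matrix (Fin 3) (Fin 3) F).det := by
    rw [Matrix.det_fin_three]
    simp only [add_pow_q hF, sub_pow_q hF, mul_pow, hr]
  have hd6 : (g : Matrix (Fin 3) (Fin 3) F).det ^ (5 + 1) = 1 :=
    Cfsg.Agent.ClassicalGeometry.GUBasic.det_pow hF (mem_GU.1 hgS)
  rw [pow_succ, hd5, ← pow_two] at hd6
  exact hd6

/-- elements of the unitary group over the prime field -/
theorem real_mem {g : GL (Fin 3) F} (hgS : g ∈ Cfsg.GU 3 F 5)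
    (hr : ∀ i j, ((g : Matrix (Fin 3) (Fin 3) F) i j) ^ 5 = (g : Matrix (Fin 3) (Fin 3) F) i j) :
    g ∈ stab (lineSet θ S105) := by
  have hadd : ∀ x y : F, (x + y) ^ 5 = x ^ 5 + y ^ 5 := fun x y => add_pow_q hF x y
  have hcol := cols_of_mem_GU hF hgS
  obtain ⟨a, b, c, ha, hb, hc, hv⟩ := exists_model_vec hg hF
    (v := (g : Matrix (Fin 3) (Fin 3) F) *ᵥ Pi.single 0 1) (by
      intro i
      rw [Matrix.mulVec_single_one]
      exact hr i 0)
  have hdot : keq (dot c5 ((a, 0), (b, 0), (c, 0)) ((a, 0), (b, 0), (c, 0))) (1, 0) = true := by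
    have h1 := hcol 0 0
    rw [Fin.sum_univ_three, Matrix.one_apply_eq, hr, hr, hr] at h1
    have h2 : ∀ k, (g : Matrix (Fin 3) (Fin 3) F) k 0 = toV θ ((a, 0), (b, 0), (c, 0)) k := by
      intro k
      have := congrFun hv k
      rwa [Matrix.mulVec_single_one] at this
    have h3 : ev θ (dot c5 ((a, 0), (b, 0), (c, 0)) ((a, 0), (b, 0), (c, 0))) = ev θ (1, 0) := by
      simp only [dot, ev_kadd hg, ev_kmul hg, ev_one hg]
      have e0 := h2 0
      have e1 := h2 1
      have e2 := h2 2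
      simp [toV] at e0 e1 e2
      rw [← e0, ← e1, ← e2]
      exact h1
    have h4 : dot c5 ((a, 0), (b, 0), (c, 0)) ((a, 0), (b, 0), (c, 0)) = (1, 0) :=
      ev_inj hg (kred_kadd hg _ _) (by decide) h3
    rw [h4]
    decide
  have htr := SP_trans
  simp only [List.all_eq_true, List.mem_range] at htr
  have h1 := htr a ha b hb c hc
  rw [hdot] at h1
  simp only [Bool.not_true, Bool.false_or, List.any_eq_true, Bool.or_eq_true] at h1
  obtain ⟨s, hs, h2⟩ := h1
  have hsok := SP_ok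
  rw [List.all_eq_true] at hsok
  have h3 := hsok s hs
  rw [Bool.and_eq_true, Bool.and_eq_true] at h3
  obtain ⟨S, hSS, hS⟩ := exists_SU hg hF h3.1.1
  have hSL : S ∈ stab (lineSet θ S105) := mono_mem hg hF hSS (isMono_of_model h3.1.2 hS)
  have hmulr : ∀ A B : Matrix (Fin 3) (Fin 3) F, (∀ i j, A i j ^ 5 = A i j) → (∀ i j, B i j ^ 5 = B i j) →
      ∀ i j, (A * B) i j ^ 5 = (A * B) i j := by
    intro A B hA hB i j
    rw [Matrix.mul_apply, Fin.sum_univ_three, hadd, hadd, mul_pow, mul_pow, mul_pow, hA, hA, hA, hB, hB, hB]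
  have hSr : ∀ i j, (S : Matrix (Fin 3) (Fin 3) F) i j ^ 5 = (S : Matrix (Fin 3) (Fin 3) F) i j := by
    intro i j
    rw [hS]; exact real_entry hg (by norm_num [c5]) h3.2 i j
  have hSg : ((S * g : GL (Fin 3) F) : Matrix (Fin 3) (Fin 3) F) *ᵥ Pi.single 0 1 =
      toV θ (mv c5 s ((a, 0), (b, 0), (c, 0))) := by
    rw [Units.val_mul, ← Matrix.mulVec_mulVec, hv, hS, toV_mv hg]
  have hSgr : ∀ i j, ((S * g : GL (Fin 3) F) : Matrix (Fin 3) (Fin 3) F) i j ^ 5 =
      ((S * g : GL (Fin 3) F) : Matrix (Fin 3) (Fin 3) F) i j := by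
    rw [Units.val_mul]; exact hmulr _ _ hSr hr
  have hSgU : S * g ∈ Cfsg.GU 3 F 5 := Subgroup.mul_mem _ hSS.1 hgS
  rcases h2 with h2 | h2
  · have h4 : S * g ∈ stab (lineSet θ S105) := by
      apply real_mem_aux hg hF hSgU hSgr
      rw [hSg, veq_eq h2]
      ext k
      fin_cases k <;> simp [toV, ev]
    exact ((stab _).mul_mem_cancel_left hSL).1 h4
  · obtain ⟨X, hXS, hX⟩ := exists_SU hg hF (m := mx) (by decide +kernel)
    have hXL : X ∈ stab (lineSet θ S105) := mem_stab_of_chk hg okS105 chk_mx hX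
    have h4 : X * (S * g) ∈ stab (lineSet θ S105) := by
      apply real_mem_aux hg hF (Subgroup.mul_mem _ hXS.1 hSgU)
      · rw [Units.val_mul]
        apply hmulr _ _ _ hSgr
        intro i j
        rw [hX]; exact real_entry hg (by norm_num [c5]) (by decide) i j
      · rw [Units.val_mul, ← Matrix.mulVec_mulVec, hSg, veq_eq h2, hX, ← toV_mv hg,
          show mv c5 mx ((3, 0), (4, 0), (4, 0)) = ((1, 0), (0, 0), (0, 0)) from by decide]
        ext k
        fin_cases k <;> simp [toV, ev]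
    exact ((stab _).mul_mem_cancel_left hSL).1 (((stab _).mul_mem_cancel_left hXL).1 h4)

/-- an explicit element of `SU_3(5)` outside the subgroup -/
theorem exists_not_mem : ∃ g ∈ SUg 3 F 5, g ∉ stab (lineSet θ S105) := by
  obtain ⟨G, hGS, hG⟩ := exists_SU hg hF (m := mg) (by decide +kernel)
  exact ⟨G, hGS, not_mem_stab_of_chk hg (m := mg) (v := v₀) (by decide +kernel) (by decide +kernel) hG⟩

omit hg in
/-- the stabiliser of an orthogonal frame is not maximal in `SU_3(5)` -/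
theorem c2_excl {D : Fin 3 → Submodule F (Fin 3 → F)}
    (hD : IsNondegenerateMDecomposition (hermForm 3 F 5) 1 D)
    (hH : IsMaximalIn (SUg 3 F 5) (decompositionStabilizer D ⊓ SUg 3 F 5)) : False := by
  obtain ⟨θ, hg⟩ := exists_good5 hF
  obtain ⟨P, hP, hPD⟩ := exists_frame hF hD
  obtain ⟨X, hXS, hX⟩ := exists_SU hg hF (m := mx) (by decide +kernel)
  have hXL : X ∈ stab (lineSet θ S105) := mem_stab_of_chk hg okS105 chk_mx hX
  have key : ∀ h ∈ decompositionStabilizer D, IsMono (P⁻¹ * h * P) := by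
    rintro h ⟨σ, hσ⟩
    refine ⟨σ, fun i => ?_⟩
    have h1 : (h : Matrix (Fin 3) (Fin 3) F) *ᵥ ((P : Matrix (Fin 3) (Fin 3) F) *ᵥ Pi.single i 1) ∈ D (σ i) := by
      rw [← hσ]
      refine ⟨_, ?_, Matrix.toLin'_apply _ _⟩
      rw [hPD]; exact Submodule.mem_span_singleton_self _
    rw [hPD, Submodule.mem_span_singleton] at h1
    obtain ⟨a, ha⟩ := h1
    refine ⟨a, ?_⟩
    rw [Units.val_mul, Units.val_mul, ← Matrix.mulVec_mulVec, ← Matrix.mulVec_mulVec, ← ha, Matrix.mulVec_smul,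
      inv_mulVec_mulVec]
  apply excl hF hH hP (L := stab (lineSet θ S105)) _ (exists_not_mem hg hF) ⟨X, hXS, hXL, ?_⟩
  · intro h hh
    apply mono_mem hg hF _ (key h hh.1)
    have := conj_mem_SUg hF (GU_le_similarityGroup hF (inv_mem hP)) hh.2
    simpa using this
  · intro hn
    obtain ⟨j, hj⟩ := key _ hn.1
    have h1 : P⁻¹ * (P * X * P⁻¹) * P = X := by group
    rw [h1] at hj
    obtain ⟨a, ha⟩ := hj 0
    rw [hX, Matrix.mulVec_single_one] at ha
    have hne : ∀ k, toM θ mx k 0 ≠ 0 := by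
      intro k
      rw [← ev_zero hg]
      fin_cases k
      · exact kne_ne hg (x := (3, 0)) (y := (0, 0)) (by decide)
      · exact kne_ne hg (x := (4, 0)) (y := (0, 0)) (by decide)
      · exact kne_ne hg (x := (4, 0)) (y := (0, 0)) (by decide)
    obtain ⟨k, hk⟩ : ∃ k : Fin 3, k ≠ j 0 := exists_ne _
    have h2 := congrFun ha k
    simp [hk] at h2
    exact hne k h2

end Cfsg.Agent.H907.Mdl.SU35
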