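import Mathlib
import Cfsg.Agent.H907.RealForm
import Cfsg.Agent.H907.SU3Mono

set_option autoImplicit false
set_option linter.unusedSectionVars false

/-!
The subfield class of index two in `SU_3(3)` and `SU_3(5)`.
-/

namespace Cfsg.Agent.H907.SU3

open Cfsg Cfsg.Geo Matrix Cfsg.Agent.H907 Cfsg.Agent.H918 Cfsg.Agent.LieClassical.HermBasic Cfsg.Agent.H914
  Cfsg.Agent.H907.Mdl
open scoped MatrixGroups

variable {F : Type*} [Field F] [Fintype F] {q : ℕ}

/-- The frame of a unitary matrix. -/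
theorem frame_decomp (hF : Fintype.card F = q ^ 2) {P : GL (Fin 3) F} (hP : P ∈ Cfsg.GU 3 F q) :
    IsNondegenerateMDecomposition (hermForm 3 F q) 1
      (fun i => F ∙ ((P : Matrix (Fin 3) (Fin 3) F) *ᵥ Pi.single i 1)) := by
  have hh : ∀ i j : Fin 3, hermForm 3 F q ((P : Matrix (Fin 3) (Fin 3) F) *ᵥ Pi.single i 1)
      ((P : Matrix (Fin 3) (Fin 3) F) *ᵥ Pi.single j 1) = if i = j then 1 else 0 := by
    intro i j
    rw [mem_GU.1 hP, herm_single_right hF]
    split_ifs with h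
    · subst h; simp
    · rw [Pi.single_eq_of_ne (Ne.symm h), zero_mul]
  have hne : ∀ i : Fin 3, (P : Matrix (Fin 3) (Fin 3) F) *ᵥ Pi.single i 1 ≠ 0 := by
    intro i h0
    have := hh i i
    rw [h0, herm_zero_left, if_pos rfl] at this
    exact zero_ne_one this
  have hli : LinearIndependent F (fun i : Fin 3 => (P : Matrix (Fin 3) (Fin 3) F) *ᵥ Pi.single i 1) := by
    rw [Fintype.linearIndependent_iff]
    intro g hg i
    have h1 : hermForm 3 F q (∑ i, g i • ((P : Matrix (Fin 3) (Fin 3) F) *ᵥ Pi.single i 1))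
        ((P : Matrix (Fin 3) (Fin 3) F) *ᵥ Pi.single i 1) = g i := by
      rw [herm_sum_left]
      simp_rw [herm_smul_left, hh]
      simp
    rw [← h1, hg, herm_zero_left]
  refine ⟨⟨by norm_num, by norm_num, fun i => finrank_span_singleton (hne i), hli.iSupIndep_span_singleton, ?_⟩,
    ?_, ?_⟩
  · rw [← Submodule.span_range_eq_iSup]
    exact hli.span_eq_top_of_card_eq_finrank' (by simp)
  · intro i w hw hw0
    rw [Submodule.mem_span_singleton] at hw
    obtain ⟨a, rfl⟩ := hw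
    have ha : a ≠ 0 := by rintro rfl; simp at hw0
    have h1 : hermForm 3 F q (a • ((P : Matrix (Fin 3) (Fin 3) F) *ᵥ Pi.single i 1))
        (a • ((P : Matrix (Fin 3) (Fin 3) F) *ᵥ Pi.single i 1)) ≠ 0 := by
      rw [herm_smul_left, herm_smul_right, hh, if_pos rfl, mul_one]
      exact mul_ne_zero ha (pow_ne_zero _ ha)
    have h2 : a • ((P : Matrix (Fin 3) (Fin 3) F) *ᵥ Pi.single i 1) ∈
        F ∙ ((P : Matrix (Fin 3) (Fin 3) F) *ᵥ Pi.single i 1) :=
      Submodule.smul_mem _ _ (Submodule.mem_span_singleton_self _)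
    exact ⟨⟨_, h2, h1⟩, ⟨_, h2, h1⟩⟩
  · intro i j hij u hu v hv
    rw [Submodule.mem_span_singleton] at hu hv
    obtain ⟨a, rfl⟩ := hu
    obtain ⟨b, rfl⟩ := hv
    rw [herm_smul_left, herm_smul_right, hh, if_neg hij, mul_zero, mul_zero]

/-- elements which are monomial in the basis `P` stabilise the frame of `P` -/
theorem mem_decomp_of_mono {P h : GL (Fin 3) F} (hm : IsMono (P⁻¹ * h * P)) :
    h ∈ decompositionStabilizer (fun i => F ∙ ((P : Matrix (Fin 3) (Fin 3) F) *ᵥ Pi.single i 1)) := by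
  obtain ⟨j, hj⟩ := hm
  have hinj := IsMono.injective hj
  refine ⟨Equiv.ofBijective j ((Fintype.bijective_iff_injective_and_card j).2 ⟨hinj, rfl⟩), fun i => ?_⟩
  obtain ⟨a, ha⟩ := hj i
  have h1 : (h : Matrix (Fin 3) (Fin 3) F) *ᵥ ((P : Matrix (Fin 3) (Fin 3) F) *ᵥ Pi.single i 1) =
      a • ((P : Matrix (Fin 3) (Fin 3) F) *ᵥ Pi.single (j i) 1) := by
    rw [Units.val_mul, Units.val_mul, ← Matrix.mulVec_mulVec, ← Matrix.mulVec_mulVec] at ha
    have : (P : Matrix (Fin 3) (Fin 3) F) *ᵥ (((P⁻¹ : GL (Fin 3) F) : Matrix (Fin 3) (Fin 3) F) *ᵥ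
        ((h : Matrix (Fin 3) (Fin 3) F) *ᵥ ((P : Matrix (Fin 3) (Fin 3) F) *ᵥ Pi.single i 1))) =
        (P : Matrix (Fin 3) (Fin 3) F) *ᵥ (a • Pi.single (j i) 1) := by rw [ha]
    rwa [mulVec_inv_mulVec, Matrix.mulVec_smul] at this
  have ha0 : a ≠ 0 := by
    rintro rfl
    rw [zero_smul] at ha
    have h2 : (Pi.single i 1 : Fin 3 → F) = 0 := mulVec_injective (P⁻¹ * h * P) (by
      show ((P⁻¹ * h * P : GL (Fin 3) F) : Matrix (Fin 3) (Fin 3) F) *ᵥ _ =
        ((P⁻¹ * h * P : GL (Fin 3) F) : Matrix (Fin 3) (Fin 3) F) *ᵥ _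
      rw [ha, Matrix.mulVec_zero])
    have h3 := congrFun h2 i
    simp at h3
  rw [Submodule.map_span, Set.image_singleton, Matrix.toLin'_apply, h1]
  exact Submodule.span_singleton_smul_eq (IsUnit.mk0 _ ha0) _

/-- elements of a subfield group, after conjugation -/
theorem exists_real_scale (hF : Fintype.card F = q ^ 2) {F₀ : Subfield F} (hc : Fintype.card F = Nat.card F₀ ^ 2)
    {P h : GL (Fin 3) F} (hP : P ∈ Cfsg.GU 3 F q) (hh : h ∈ subfieldSubgroup F₀ P) (hS : h ∈ SUg 3 F q) :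
    ∃ c : F, ∃ hc0 : c ≠ 0, Fixed q ((scaleGL c hc0 (P⁻¹ * h * P) : GL (Fin 3) F) : Matrix (Fin 3) (Fin 3) F) ∧
      (c ^ 3) ^ q = c ^ 3 ∧ P⁻¹ * h * P ∈ SUg 3 F q := by
  rw [mem_subfieldSubgroup_iff] at hh
  obtain ⟨c, hc0, h1⟩ := hh
  have hgS : P⁻¹ * h * P ∈ SUg 3 F q := by
    have := conj_mem_SUg hF (GU_le_similarityGroup hF (inv_mem hP)) hS
    simpa using this
  have hfix : Fixed q ((scaleGL c hc0 (P⁻¹ * h * P) : GL (Fin 3) F) : Matrix (Fin 3) (Fin 3) F) := by
    intro i j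
    rw [scaleGL_val, Matrix.smul_apply, smul_eq_mul]
    exact (mem_F₀_iff hF hc _).1 (h1 i j)
  refine ⟨c, hc0, hfix, ?_, hgS⟩
  have h2 : ((scaleGL c hc0 (P⁻¹ * h * P) : GL (Fin 3) F) : Matrix (Fin 3) (Fin 3) F).det = c ^ 3 := by
    rw [scaleGL_val, Matrix.det_smul, (mem_SUg.1 hgS).2, mul_one, Fintype.card_fin]
  rw [← h2, Matrix.det_fin_three]
  simp only [add_pow_q hF, sub_pow_q hF, mul_pow, hfix _ _]

/-- the subfield class of index two is not maximal in `SU_3(5)` -/
theorem c5_excl_five (hF : Fintype.card F = 5 ^ 2) {F₀ : Subfield F} (hc : Fintype.card F = Nat.card F₀ ^ 2)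
    {P : GL (Fin 3) F} (hP : IsFormRationalStructure (hermForm 3 F 5) F₀ 1 P)
    (hH : IsMaximalIn (SUg 3 F 5) (subfieldSubgroup F₀ P ⊓ SUg 3 F 5)) : False := by
  obtain ⟨θ, hg⟩ := exists_good5 hF
  have h5 : (5 : F) = 0 := by
    have := cast_p hg
    simp only [c5] at this
    exact_mod_cast this
  have h2 : (2 : F) ≠ 0 := by
    intro h
    have : (1 : F) = 0 := by linear_combination h5 - 2 * h
    exact one_ne_zero this
  obtain ⟨P', hP', hPP⟩ := exists_real_frame hF hc h2 hP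
  rw [hPP] at hH
  obtain ⟨X, hXS, hX⟩ := exists_SU hg hF (m := SU35.md1) (by decide +kernel)
  have hXL : X ∈ stab (lineSet θ SU35.S105) := mem_stab_of_chk hg SU35.okS105 SU35.chk_md1 hX
  apply excl hF hH hP' (L := stab (lineSet θ SU35.S105)) _ (SU35.exists_not_mem hg hF) ⟨X, hXS, hXL, ?_⟩
  · rintro h ⟨hh, hhS⟩
    obtain ⟨c, hc0, hfix, hc3, hgS⟩ := exists_real_scale hF hc hP' hh hhS
    have hc24 : c ^ 24 = 1 := by
      have := FiniteField.pow_card_sub_one_eq_one c hc0
      rwa [hF] at this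
    have hc12 : c ^ 12 = 1 := by
      have h3 : c ^ 3 * c ^ 12 = c ^ 3 * 1 := by rw [mul_one]; linear_combination hc3
      exact mul_left_cancel₀ (pow_ne_zero 3 hc0) h3
    have hc6 : c ^ 6 = 1 ∨ c ^ 6 = -1 := by
      have : (c ^ 6 - 1) * (c ^ 6 + 1) = 0 := by linear_combination hc12
      rcases mul_eq_zero.1 this with h | h
      · exact Or.inl (sub_eq_zero.1 h)
      · exact Or.inr (eq_neg_of_add_eq_zero_left h)
    rcases hc6 with hc6 | hc6
    · rw [← SU35.scale_mem_stab hc0]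
      apply SU35.real_mem hg hF _ hfix
      rw [mem_GU, scaleGL_val]
      intro u v
      rw [Matrix.smul_mulVec, Matrix.smul_mulVec, herm_smul_left, herm_smul_right, (mem_SUg.1 hgS).1]
      linear_combination (hermForm 3 F 5 u v) * hc6
    · have h2c : 2 * c ≠ 0 := mul_ne_zero h2 hc0
      rw [← SU35.scale_mem_stab h2c]
      apply SU35.real_mem hg hF
      · rw [mem_GU, scaleGL_val]
        intro u v
        rw [Matrix.smul_mulVec, Matrix.smul_mulVec, herm_smul_left, herm_smul_right, (mem_SUg.1 hgS).1]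
        linear_combination (64 * hermForm 3 F 5 u v) * hc6 - 13 * hermForm 3 F 5 u v * h5
      · intro i j
        have h3 := hfix i j
        rw [scaleGL_val, Matrix.smul_apply, smul_eq_mul] at h3 ⊢
        rw [mul_assoc, mul_pow, h3]
        have : (2 : F) ^ 5 = 2 := by linear_combination 6 * h5
        rw [this]
  · rintro ⟨hn, -⟩
    have hn' : P' * X * P'⁻¹ ∈ subfieldSubgroup F₀ P' := hn
    rw [mem_subfieldSubgroup_iff] at hn'
    obtain ⟨c, hc0, h1⟩ := hn'
    have h3 : P'⁻¹ * (P' * X * P'⁻¹) * P' = X := by group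
    rw [h3] at h1
    have e0 := h1 0 0
    have e2 := h1 2 2
    rw [hX] at e0 e2
    have h4 : toM θ SU35.md1 0 0 = -θ := by
      simp [toM, toV, SU35.md1, ev]; linear_combination θ * h5
    have h6 : toM θ SU35.md1 2 2 = 1 := by
      simp [toM, toV, SU35.md1, ev]
    rw [h4] at e0
    rw [h6, mul_one] at e2
    have h7 : -θ ∈ F₀ := by
      have := F₀.mul_mem (F₀.inv_mem e2) e0
      rwa [inv_mul_cancel_left₀ hc0] at this
    have h8 : θ ∈ F₀ := by simpa using F₀.neg_mem h7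
    obtain ⟨n, hn5, hn⟩ := SU35.exists_nat hg ((mem_F₀_iff hF hc θ).1 h8)
    have h9 := hg.indep n 4 hn5 (by decide) (by push_cast; rw [← hn]; linear_combination θ * h5)
    exact absurd h9.2 (by decide)

/-- the subfield class of index two in `SU_3(3)`: a frame stabiliser -/
theorem c5_three (hF : Fintype.card F = 3 ^ 2) {F₀ : Subfield F} (hc : Fintype.card F = Nat.card F₀ ^ 2)
    {P : GL (Fin 3) F} (hP : IsFormRationalStructure (hermForm 3 F 3) F₀ 1 P) :
    ∃ D : Fin 3 → Submodule F (Fin 3 → F), IsNondegenerateMDecomposition (hermForm 3 F 3) 1 D ∧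
      subfieldSubgroup F₀ P ⊓ SUg 3 F 3 ≤ decompositionStabilizer D := by
  obtain ⟨θ, hg⟩ := exists_good3 hF
  have h3 : (3 : F) = 0 := by
    have := cast_p hg
    simp only [c3] at this
    exact_mod_cast this
  have h2 : (2 : F) ≠ 0 := by
    intro h
    have : (1 : F) = 0 := by linear_combination h3 - h
    exact one_ne_zero this
  obtain ⟨P', hP', hPP⟩ := exists_real_frame hF hc h2 hP
  refine ⟨_, frame_decomp hF hP', ?_⟩
  rw [hPP]
  rintro h ⟨hh, hhS⟩
  obtain ⟨c, hc0, hfix, hc3, hgS⟩ := exists_real_scale hF hc hP' hh hhS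
  have hc8 : c ^ 8 = 1 := by
    have := FiniteField.pow_card_sub_one_eq_one c hc0
    rwa [hF] at this
  have hc6 : c ^ 6 = 1 := by
    have h3 : c ^ 3 * c ^ 6 = c ^ 3 * 1 := by rw [mul_one]; linear_combination hc3
    exact mul_left_cancel₀ (pow_ne_zero 3 hc0) h3
  have hc4 : c ^ 4 = 1 := by
    linear_combination (c ^ 2 + 1) * (hc8 - c ^ 2 * hc6)
  apply mem_decomp_of_mono
  have hU : scaleGL c hc0 (P'⁻¹ * h * P') ∈ Cfsg.GU 3 F 3 := by
    rw [mem_GU, scaleGL_val]
    intro u v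
    rw [Matrix.smul_mulVec, Matrix.smul_mulVec, herm_smul_left, herm_smul_right, (mem_SUg.1 hgS).1]
    linear_combination (hermForm 3 F 3 u v) * hc4
  have hcol := cols_of_mem_GU hF hU
  have hz : ∀ x : F, x ^ 3 = x → x = 0 ∨ x * x = 1 := by
    intro x hx
    have : x * (x * x - 1) = 0 := by linear_combination hx
    rcases mul_eq_zero.1 this with h | h
    · exact Or.inl h
    · exact Or.inr (sub_eq_zero.1 h)
  have hmono : IsMono (scaleGL c hc0 (P'⁻¹ * h * P')) := by
    have key : ∀ i : Fin 3, ∃ k : Fin 3, ∃ a : F,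
        ((scaleGL c hc0 (P'⁻¹ * h * P') : GL (Fin 3) F) : Matrix (Fin 3) (Fin 3) F) *ᵥ Pi.single i 1 =
          a • Pi.single k 1 := by
      intro i
      have h0 := hcol i i
      rw [Fin.sum_univ_three, Matrix.one_apply_eq, hfix, hfix, hfix] at h0
      set A := ((scaleGL c hc0 (P'⁻¹ * h * P') : GL (Fin 3) F) : Matrix (Fin 3) (Fin 3) F) with hA
      have hone : (1 : F) ≠ 0 := one_ne_zero
      rcases hz _ (hfix 0 i) with e0 | e0 <;> rcases hz _ (hfix 1 i) with e1 | e1 <;>
        rcases hz _ (hfix 2 i) with e2 | e2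
      · exfalso; apply hone; rw [e0, e1, e2] at h0; linear_combination -h0
      · refine ⟨2, A 2 i, ?_⟩
        rw [Matrix.mulVec_single_one]
        ext k
        fin_cases k
        · simpa using e0
        · simpa using e1
        · simp
      · refine ⟨1, A 1 i, ?_⟩
        rw [Matrix.mulVec_single_one]
        ext k
        fin_cases k
        · simpa using e0
        · simp
        · simpa using e2
      · exfalso; apply hone; rw [e0] at h0; linear_combination h0 - e1 - e2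
      · refine ⟨0, A 0 i, ?_⟩
        rw [Matrix.mulVec_single_one]
        ext k
        fin_cases k
        · simp
        · simpa using e1
        · simpa using e2
      · exfalso; apply hone; rw [e1] at h0; linear_combination h0 - e0 - e2
      · exfalso; apply hone; rw [e2] at h0; linear_combination h0 - e0 - e1
      · exfalso; apply hone; linear_combination h3 - h0 + e0 + e1 + e2
    choose j hj using key
    exact ⟨j, hj⟩
  obtain ⟨j, hj⟩ := hmono
  refine ⟨j, fun i => ?_⟩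
  obtain ⟨a, ha⟩ := hj i
  refine ⟨c⁻¹ * a, ?_⟩
  rw [scaleGL_val, Matrix.smul_mulVec] at ha
  rw [mul_smul, ← ha, smul_smul, inv_mul_cancel₀ hc0, one_smul]

end Cfsg.Agent.H907.SU3
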