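import Mathlib
import Cfsg.Agent.H907.MxBase
import Cfsg.Agent.H907.SU3Sylow
import Cfsg.Agent.H907.SU3Real
import Cfsg.Agent.H915.PrimeField

/-!
Restrictions on the elements of the geometric maximal subgroups of `SU_3(q)`.
-/

set_option autoImplicit false
set_option linter.unusedSectionVars false
set_option linter.unusedSimpArgs false

namespace Cfsg.Agent.H907.Mx

open Cfsg Cfsg.Geo Matrix Cfsg.Agent.H907 Cfsg.Agent.H918 Cfsg.Agent.H907.SU3 Cfsg.Agent.LieClassical.HermBasic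
open scoped MatrixGroups

/-! ### Reducible groups -/

section irr

variable {F : Type*} [Field F] {W : Submodule F (Fin 3 → F)}

theorem mem_of_diag {x : Matrix (Fin 3) (Fin 3) F} {δ : Fin 3 → F} (hδ : Function.Injective δ)
    (hx : x = Matrix.diagonal δ) (hxW : ∀ w ∈ W, x *ᵥ w ∈ W) {v : Fin 3 → F} (hv : v ∈ W) {i : Fin 3} (hi : v i ≠ 0) :
    (Pi.single i 1 : Fin 3 → F) ∈ W := by
  obtain ⟨j, k, hij, hik, hjk, hall⟩ : ∃ j k : Fin 3, i ≠ j ∧ i ≠ k ∧ j ≠ k ∧ ∀ l, l = i ∨ l = j ∨ l = k := by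
    clear hi; revert i; decide
  have h1 : x *ᵥ v - δ j • v ∈ W := W.sub_mem (hxW v hv) (W.smul_mem _ hv)
  have h2 : x *ᵥ (x *ᵥ v - δ j • v) - δ k • (x *ᵥ v - δ j • v) ∈ W :=
    W.sub_mem (hxW _ h1) (W.smul_mem _ h1)
  have h3 : x *ᵥ (x *ᵥ v - δ j • v) - δ k • (x *ᵥ v - δ j • v) =
      ((δ i - δ j) * (δ i - δ k) * v i) • Pi.single i 1 := by
    subst hx
    ext l
    rcases hall l with rfl | rfl | rfl
    · simp [Matrix.mulVec_diagonal, Matrix.mulVec_sub, Matrix.mulVec_smul]; ring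
    · simp [Matrix.mulVec_diagonal, Matrix.mulVec_sub, Matrix.mulVec_smul, hij.symm]; ring
    · simp [Matrix.mulVec_diagonal, Matrix.mulVec_sub, Matrix.mulVec_smul, hik.symm]; ring
  rw [h3] at h2
  have h4 : (δ i - δ j) * (δ i - δ k) * v i ≠ 0 :=
    mul_ne_zero (mul_ne_zero (sub_ne_zero.2 (fun h => hij (hδ h))) (sub_ne_zero.2 (fun h => hik (hδ h)))) hi
  exact (Submodule.smul_mem_iff W h4).1 h2

theorem top_of_single (h : ∀ i, (Pi.single i 1 : Fin 3 → F) ∈ W) : W = ⊤ := by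
  rw [eq_top_iff]
  intro v _
  have : v = ∑ i, v i • (Pi.single i 1 : Fin 3 → F) := by
    ext i
    fin_cases i <;> simp [Fin.sum_univ_three, Pi.single_apply]
  rw [this]
  exact W.sum_mem fun i _ => W.smul_mem _ (h i)

theorem cyc_single (i : Fin 3) : (!![0, 0, 1; 1, 0, 0; 0, 1, 0] : Matrix (Fin 3) (Fin 3) F) *ᵥ Pi.single i 1 =
    Pi.single (i + 1) 1 := by
  ext j
  fin_cases i <;> fin_cases j <;> simp [Matrix.mulVec_single_one]

theorem top_of_cyc {c : Matrix (Fin 3) (Fin 3) F} (hc : c = !![0, 0, 1; 1, 0, 0; 0, 1, 0])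
    (hcW : ∀ w ∈ W, c *ᵥ w ∈ W) {i : Fin 3} (hi : (Pi.single i 1 : Fin 3 → F) ∈ W) : W = ⊤ := by
  subst hc
  have hstep : ∀ i : Fin 3, (Pi.single i 1 : Fin 3 → F) ∈ W → (Pi.single (i + 1) 1 : Fin 3 → F) ∈ W := by
    intro i hi
    rw [← cyc_single]
    exact hcW _ hi
  apply top_of_single
  have h1 := hstep _ hi
  have h2 := hstep _ h1
  intro l
  have : l = i ∨ l = i + 1 ∨ l = i + 1 + 1 := by clear h1 h2 hi; revert l i; decide
  rcases this with rfl | rfl | rfl
  · exact hi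
  · exact h1
  · exact h2

/-- A diagonal matrix with distinct entries and the cyclic permutation act irreducibly. -/
theorem irr_of {x c : GL (Fin 3) F} {δ : Fin 3 → F} (hδ : Function.Injective δ)
    (hx : (x : Matrix (Fin 3) (Fin 3) F) = Matrix.diagonal δ)
    (hc : (c : Matrix (Fin 3) (Fin 3) F) = !![0, 0, 1; 1, 0, 0; 0, 1, 0])
    (hxW : ∀ w ∈ W, (x : Matrix (Fin 3) (Fin 3) F) *ᵥ w ∈ W)
    (hcW : ∀ w ∈ W, (c : Matrix (Fin 3) (Fin 3) F) *ᵥ w ∈ W) : W = ⊥ ∨ W = ⊤ := by
  by_cases hW : W = ⊥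
  · exact Or.inl hW
  · right
    obtain ⟨v, hv, hv0⟩ := Submodule.exists_mem_ne_zero_of_ne_bot hW
    obtain ⟨i, hi⟩ := Function.ne_iff.1 hv0
    exact top_of_cyc hc hcW (mem_of_diag hδ hx hxW hv hi)

theorem mulVec_mem_of_stab {ι : Type} [Fintype ι] [DecidableEq ι] {W : Submodule F (ι → F)} {g : GL ι F}
    (hg : g ∈ subspaceStabilizer W) : ∀ w ∈ W, (g : Matrix ι ι F) *ᵥ w ∈ W := by
  intro w hw
  exact (hg w).1 hw

end irr

/-! ### Decompositions -/

section perm

variable {F : Type*} [Field F] {ι : Type} [Fintype ι] [DecidableEq ι] {t m : ℕ} {D : Fin t → Submodule F (ι → F)}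

theorem D_injective (hD : IsMDecomposition m D) : Function.Injective D := by
  apply hD.indep.injective
  intro i h
  have h1 := hD.finrank_eq i
  rw [h, finrank_bot] at h1
  exact hD.pos.ne h1

theorem exists_permHom (hD : IsMDecomposition m D) : ∃ ψ : ↥(decompositionStabilizer D) →* Equiv.Perm (Fin t),
    ∀ (g : ↥(decompositionStabilizer D)) i,
      (D i).map (Matrix.toLin' ((g : GL ι F) : Matrix ι ι F)) = D (ψ g i) := by
  have hinj := D_injective hD
  choose f hf using fun g : ↥(decompositionStabilizer D) => g.2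
  refine ⟨⟨⟨f, ?_⟩, ?_⟩, hf⟩
  · ext i
    have h1 := hf 1 i
    have h2 : (D i).map (Matrix.toLin' (((1 : ↥(decompositionStabilizer D)) : GL ι F) : Matrix ι ι F)) = D i := by
      simp
    rw [h2] at h1
    rw [← hinj h1]
    rfl
  · intro g h
    ext i
    have h1 := hf (g * h) i
    have h2 : (D i).map (Matrix.toLin' (((g * h : ↥(decompositionStabilizer D)) : GL ι F) : Matrix ι ι F)) =
        D (f g (f h i)) := by
      rw [Subgroup.coe_mul, Units.val_mul, Matrix.toLin'_mul, Submodule.map_comp, hf, hf]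
    rw [h2] at h1
    rw [← hinj h1]
    rfl

end perm

/-! ### Extension fields -/

section field

variable {F : Type*} [Field F] [Fintype F] {K : Subalgebra F (Matrix (Fin 3) (Fin 3) F)}
  (hK : IsFieldSubalgebra 3 K)
include hK

theorem scalar_of_pow {k : Matrix (Fin 3) (Fin 3) F} (hk : k ∈ K) (h : k ^ Fintype.card F = k) :
    ∃ c : F, k = c • (1 : Matrix (Fin 3) (Fin 3) F) := by
  classical
  let _ := (isField_of hK).toField
  have h1 : (⟨k, hk⟩ : K) ^ Fintype.card F = ⟨k, hk⟩ := Subtype.ext h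
  set N := Fintype.card F with hN
  have hN1 : 1 < N := Fintype.one_lt_card
  set p : Polynomial K := Polynomial.X ^ N - Polynomial.X with hp
  have hp0 : p ≠ 0 := FiniteField.X_pow_card_sub_X_ne_zero K hN1
  have hroot : ∀ y : K, y ∈ p.roots.toFinset ↔ y ^ N = y := by
    intro y
    rw [Multiset.mem_toFinset, Polynomial.mem_roots hp0, Polynomial.IsRoot.def, hp, Polynomial.eval_sub,
      Polynomial.eval_pow, Polynomial.eval_X, sub_eq_zero]
  have hsub : (Finset.univ.image (algebraMap F K)) ⊆ p.roots.toFinset := by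
    intro y hy
    obtain ⟨c, -, rfl⟩ := Finset.mem_image.1 hy
    rw [hroot, ← map_pow, FiniteField.pow_card]
  have hcard : p.roots.toFinset.card ≤ (Finset.univ.image (algebraMap F K)).card := by
    rw [Finset.card_image_of_injective _ (algebraMap F K).injective, Finset.card_univ]
    refine (Multiset.toFinset_card_le _).trans ((Polynomial.card_roots' p).trans ?_)
    rw [hp, FiniteField.X_pow_card_sub_X_natDegree_eq K hN1]
  have heq := Finset.eq_of_subset_of_card_le hsub hcard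
  have hmem : (⟨k, hk⟩ : K) ∈ Finset.univ.image (algebraMap F K) := by
    rw [heq, hroot, h1]
  obtain ⟨c, -, hc⟩ := Finset.mem_image.1 hmem
  refine ⟨c, ?_⟩
  have h3 : ((algebraMap F K c : K) : Matrix (Fin 3) (Fin 3) F) = k := congrArg Subtype.val hc
  rw [← h3, Algebra.algebraMap_eq_smul_one]
  rfl

/-- An element commuting with all of `K` is in `K`. -/
theorem mem_of_centralises {m : Matrix (Fin 3) (Fin 3) F} (hm : ∀ k ∈ K, m * k = k * m) : m ∈ K := by
  by_contra hcon
  -- all elements of `K` are scalars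
  have hall : ∀ k ∈ K, ∃ c : F, k = c • (1 : Matrix (Fin 3) (Fin 3) F) := by
    intro k hk
    by_contra h
    exact hcon (mem_of_comm hK hk h (hm k hk))
  have h1 : Module.finrank F K ≤ 1 := by
    refine finrank_le_one (1 : K) fun w => ?_
    obtain ⟨c, hc⟩ := hall w w.2
    exact ⟨c, Subtype.ext hc.symm⟩
  rw [hK.finrank_eq] at h1
  omega

theorem exists_index {g : GL (Fin 3) F} (hg : g ∈ subalgebraNormalizer K) :
    ∃ i : ℕ, i < 3 ∧ ∀ k ∈ K, (g : Matrix (Fin 3) (Fin 3) F) * k * ((g⁻¹ : GL (Fin 3) F) : Matrix (Fin 3) (Fin 3) F) =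
      k ^ (Fintype.card F ^ i) := by
  have h := Cfsg.Agent.H915.exists_frobenius (ι := Fin 3) (F := F) (K := K) (by rw [Fintype.card_fin]; norm_num)
    (by rw [Fintype.card_fin]; exact hK) hg
  rwa [Fintype.card_fin] at h

/-- The elements of index `i`. -/
def Ind (K : Subalgebra F (Matrix (Fin 3) (Fin 3) F)) (g : GL (Fin 3) F) (i : ℕ) : Prop :=
  ∀ k ∈ K, (g : Matrix (Fin 3) (Fin 3) F) * k * ((g⁻¹ : GL (Fin 3) F) : Matrix (Fin 3) (Fin 3) F) =
    k ^ (Fintype.card F ^ i)

omit hK in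
theorem Ind.mul {g h : GL (Fin 3) F} {i j : ℕ} (hg : Ind K g i) (hh : Ind K h j) : Ind K (g * h) (i + j) := by
  intro k hk
  rw [Units.val_mul, _root_.mul_inv_rev, Units.val_mul]
  have h1 := hh k hk
  have h2 := hg (k ^ (Fintype.card F ^ j)) (K.pow_mem hk _)
  calc (g : Matrix (Fin 3) (Fin 3) F) * (h : Matrix (Fin 3) (Fin 3) F) * k *
        (((h⁻¹ : GL (Fin 3) F) : Matrix (Fin 3) (Fin 3) F) * ((g⁻¹ : GL (Fin 3) F) : Matrix (Fin 3) (Fin 3) F))
      = (g : Matrix (Fin 3) (Fin 3) F) * ((h : Matrix (Fin 3) (Fin 3) F) * k *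
        ((h⁻¹ : GL (Fin 3) F) : Matrix (Fin 3) (Fin 3) F)) * ((g⁻¹ : GL (Fin 3) F) : Matrix (Fin 3) (Fin 3) F) := by
        simp only [mul_assoc]
    _ = k ^ (Fintype.card F ^ (i + j)) := by rw [h1, h2, ← pow_mul, ← pow_add, add_comm j i]

theorem pow_card_three {k : Matrix (Fin 3) (Fin 3) F} (hk : k ∈ K) : k ^ (Fintype.card F ^ 3) = k := by
  by_cases h0 : k = 0
  · subst h0
    exact zero_pow (pow_ne_zero _ Fintype.card_ne_zero)
  · have h1 := pow_card_sub_one hK hk h0
    have h2 : 1 ≤ Fintype.card F ^ 3 := Nat.one_le_pow _ _ Fintype.card_pos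
    calc k ^ (Fintype.card F ^ 3) = k ^ (Fintype.card F ^ 3 - 1 + 1) := by rw [Nat.sub_add_cancel h2]
      _ = k := by rw [pow_succ, h1, one_mul]

theorem Ind.mem {g : GL (Fin 3) F} {i : ℕ} (hg : Ind K g i) (hi : 3 ∣ i) : (g : Matrix (Fin 3) (Fin 3) F) ∈ K := by
  obtain ⟨j, rfl⟩ := hi
  have hpow : ∀ (j : ℕ), ∀ k ∈ K, k ^ (Fintype.card F ^ (3 * j)) = k := by
    intro j
    induction j with
    | zero => intro k _; rw [mul_zero, pow_zero, pow_one]
    | succ j ih =>
      intro k hk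
      rw [mul_add, mul_one, pow_add, pow_mul, ih k hk, pow_card_three hK hk]
  apply mem_of_centralises hK
  intro k hk
  have h1 := hg k hk
  rw [hpow j k hk] at h1
  calc (g : Matrix (Fin 3) (Fin 3) F) * k = (g : Matrix (Fin 3) (Fin 3) F) * k *
        (((g⁻¹ : GL (Fin 3) F) : Matrix (Fin 3) (Fin 3) F) * (g : Matrix (Fin 3) (Fin 3) F)) := by
        rw [← Units.val_mul, inv_mul_cancel, Units.val_one, mul_one]
    _ = k * (g : Matrix (Fin 3) (Fin 3) F) := by rw [← mul_assoc, h1]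

theorem cube_mem {g : GL (Fin 3) F} (hg : g ∈ subalgebraNormalizer K) :
    ((g ^ 3 : GL (Fin 3) F) : Matrix (Fin 3) (Fin 3) F) ∈ K := by
  obtain ⟨i, -, hi⟩ := exists_index hK hg
  have h1 : Ind K (g * g * g) (i + i + i) := Ind.mul (Ind.mul hi hi) hi
  have h2 : g ^ 3 = g * g * g := by rw [pow_succ, pow_two]
  rw [h2]
  exact h1.mem hK ⟨i, by ring⟩

/-- **J4**: the cube of an element whose cube has order dividing `|F| - 1` is scalar. -/
theorem cube_scalar {g : GL (Fin 3) F} (hg : g ∈ subalgebraNormalizer K)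
    (h : (g ^ 3) ^ (Fintype.card F - 1) = 1) :
    ∃ c : F, ((g ^ 3 : GL (Fin 3) F) : Matrix (Fin 3) (Fin 3) F) = c • (1 : Matrix (Fin 3) (Fin 3) F) := by
  apply scalar_of_pow hK (cube_mem hK hg)
  have h1 : ((g ^ 3 : GL (Fin 3) F) : Matrix (Fin 3) (Fin 3) F) ^ (Fintype.card F - 1) = 1 := by
    rw [← Units.val_pow_eq_pow_val, h, Units.val_one]
  calc ((g ^ 3 : GL (Fin 3) F) : Matrix (Fin 3) (Fin 3) F) ^ Fintype.card F =
      ((g ^ 3 : GL (Fin 3) F) : Matrix (Fin 3) (Fin 3) F) ^ (Fintype.card F - 1 + 1) := by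
        rw [Nat.sub_add_cancel Fintype.card_pos]
    _ = _ := by rw [pow_succ, h1, one_mul]

/-- Of two elements one of `x, y, x y, x y⁻¹` lies in `K`. -/
theorem pair_mem {x y : GL (Fin 3) F} (hx : x ∈ subalgebraNormalizer K) (hy : y ∈ subalgebraNormalizer K) :
    (x : Matrix (Fin 3) (Fin 3) F) ∈ K ∨ (y : Matrix (Fin 3) (Fin 3) F) ∈ K ∨
      ((x * y : GL (Fin 3) F) : Matrix (Fin 3) (Fin 3) F) ∈ K ∨
      ((x * y⁻¹ : GL (Fin 3) F) : Matrix (Fin 3) (Fin 3) F) ∈ K := by
  obtain ⟨i, hi, hxi⟩ := exists_index hK hx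
  obtain ⟨j, hj, hyj⟩ := exists_index hK hy
  obtain ⟨l, hl, hyl⟩ := exists_index hK ((subalgebraNormalizer K).inv_mem hy)
  -- `j + l` is divisible by three, because `K` is not contained in a proper subfield
  by_cases h0 : i = 0
  · left; exact Ind.mem hK hxi (by rw [h0]; exact dvd_zero 3)
  by_cases h1 : j = 0
  · right; left; exact Ind.mem hK hyj (by rw [h1]; exact dvd_zero 3)
  by_cases h2 : i + j = 3
  · right; right; left
    exact (Ind.mul hxi hyj).mem hK (by rw [h2])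
  · have hij : i = j := by omega
    -- `x = (x y⁻¹) y`
    right; right; right
    obtain ⟨s, hs, hxs⟩ := exists_index hK
      ((subalgebraNormalizer K).mul_mem hx ((subalgebraNormalizer K).inv_mem hy))
    have h3 : Ind K (x * y⁻¹ * y) (s + j) := Ind.mul hxs hyj
    rw [inv_mul_cancel_right] at h3
    by_cases hs0 : s = 0
    · exact Ind.mem hK hxs (by rw [hs0]; exact dvd_zero 3)
    · exfalso
      -- then `k ^ (N ^ (s + j)) = k ^ (N ^ i)` for all `k`, hence `K = F`
      have h4 : ∀ k ∈ K, k ^ (Fintype.card F ^ s) = k := by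
        intro k hk
        have h5 := h3 (k ^ (Fintype.card F ^ (3 - j))) (K.pow_mem hk _)
        have h6 := hxi (k ^ (Fintype.card F ^ (3 - j))) (K.pow_mem hk _)
        rw [h6, ← pow_mul, ← pow_mul, ← pow_add, ← pow_add, hij] at h5
        rw [show 3 - j + j = 3 by omega, show 3 - j + (s + j) = 3 + s by omega, pow_add, pow_mul,
          pow_card_three hK hk] at h5
        exact h5.symm
      have h7 : ∀ k ∈ K, k ^ Fintype.card F = k := by
        intro k hk
        have hs12 : s = 1 ∨ s = 2 := by omega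
        rcases hs12 with rfl | rfl
        · have := h4 k hk
          rwa [pow_one] at this
        · have h8 := h4 k hk
          have h9 := pow_card_three hK hk
          rw [pow_succ, pow_mul, h8] at h9
          exact h9
      have h8 : Module.finrank F K ≤ 1 := by
        refine finrank_le_one (1 : K) fun w => ?_
        obtain ⟨c, hc⟩ := scalar_of_pow hK w.2 (h7 w w.2)
        exact ⟨c, Subtype.ext hc.symm⟩
      rw [hK.finrank_eq] at h8
      omega

end field

end Cfsg.Agent.H907.Mx
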