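import Cfsg.Agent.H907.ExtSyl
import Cfsg.Agent.H933.SubPSp

/-!
# Classical groups whose outer automorphism group has cyclic Sylow subgroups (helper907, S4832 EXT-F3)

`SylCyc S` for `S` =
* `sylCyc_psp` : `PSp_2m(q)`, `m ≥ 2`, `q` even or not a square;
* `sylCyc_oodd` : `Ω_2m+1(q)`, `m ≥ 3`, `q` odd and not a square;
* `sylCyc_ominus` : `Ω⁻_2m(q)`, `m ≥ 4`, `q` even;
* `sylCyc_oplus` : `Ω⁺_2m(q)`, `m ≥ 5`, `q = 2^f`, `f` odd; `sylCyc_oplus_four` : `m = 4`, `f` prime to 6;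
* `sylCyc_psl` : `PSL_n(q)`, `n ≥ 3`, `q = p^f`, `2 f` prime to `gcd (n, q - 1)`, `f` odd; `sylCyc_psl_two` : `n = 2`;
* `sylCyc_psu` : `PSU_n(q)`, `n ≥ 3`, `2 f` prime to `gcd (n, q + 1)`.
-/

set_option autoImplicit false

open Cfsg

namespace Cfsg.Agent.H907.ExtFree

open Cfsg.Agent.H576.Ext (SylCyc)

theorem finite_zmod {f : ℕ} (hf : 1 ≤ f) : Finite (Multiplicative (ZMod f)) := by
  have : NeZero f := ⟨by omega⟩
  infer_instance

theorem card_zmod (f : ℕ) : Nat.card (Multiplicative (ZMod f)) = f := by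
  rw [Nat.card_congr Multiplicative.toAdd, Nat.card_zmod]

theorem sc_zmod (f : ℕ) : SC (Multiplicative (ZMod f)) := SC.of_isCyclic inferInstance

theorem sc_zmod_prod {a b : ℕ} (ha : 1 ≤ a) (hb : 1 ≤ b) (h : Nat.Coprime a b) :
    SC (Multiplicative (ZMod a × ZMod b)) := by
  have h1 := finite_zmod ha
  have h2 := finite_zmod hb
  exact SC.of_equiv (MulEquiv.prodMultiplicative (ZMod a) (ZMod b))
    (SC.prod (sc_zmod a) (sc_zmod b) (by rw [card_zmod, card_zmod]; exact h))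

/-- a homomorphism onto a group with cyclic Sylow subgroups, with cyclic kernel, coprime orders -/
theorem sc_of_ker {O C : Type*} [Group O] [Group C] [Finite C] (φ : O →* C) (hs : Function.Surjective φ)
    (hk : IsCyclic φ.ker) (hpos : Nat.card φ.ker ≠ 0) (hC : SC C)
    (hcop : Nat.Coprime (Nat.card φ.ker) (Nat.card C)) : SC O := by
  have hfk : Finite φ.ker := Nat.finite_of_card_ne_zero hpos
  have hfin : Finite O := by
    have h1 : Finite (O ⧸ φ.ker) :=
      Finite.of_equiv C (QuotientGroup.quotientKerEquivOfSurjective φ hs).symm.toEquiv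
    have h2 : Finite ((O ⧸ φ.ker) × φ.ker) := inferInstance
    exact Finite.of_equiv _ (Subgroup.groupEquivQuotientProdSubgroup (s := φ.ker)).symm
  refine SC.of_hom φ (SC.of_isCyclic hk) hC ?_
  have h1 : φ.range = ⊤ := MonoidHom.range_eq_top.2 hs
  rw [h1, Nat.card_congr (Subgroup.topEquiv (G := C)).toEquiv]
  exact hcop

theorem exists_card (F : Type*) [Field F] [Fintype F] : ∃ p f : ℕ, p.Prime ∧ 1 ≤ f ∧ Fintype.card F = p ^ f :=
  H933.SubClass.exists_card F

/-- an odd non-square prime power: `f` is odd -/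
theorem odd_of_not_sq {p f : ℕ} (h : ¬ IsSquare (p ^ f)) : Odd f := by
  rw [← Nat.not_even_iff_odd]
  intro he
  exact h (he.isSquare_pow p)

section psp

variable {F : Type*} [Field F] [Fintype F] {m : ℕ}

/-- the order of `Out (PSp)` -/
theorem card_out_psp {p f : ℕ} (hp : p.Prime) (hf : 1 ≤ f) (hF : Fintype.card F = p ^ f) (hm : 2 ≤ m)
    (hc : ¬ (m = 2 ∧ p = 2)) (hs : IsSimpleGroup (PSp m F)) (hna : ¬ IsMulCommutative (PSp m F)) :
    Nat.card (Cfsg.Out (PSp m F)) = Nat.gcd 2 (p ^ f - 1) * f := by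
  have hfp : Fact p.Prime := ⟨hp⟩
  have hfin : Finite (PSp m F) := inferInstance
  have hcard := Cfsg.Agent.S0814.result (F := F) p f hf hF m hm (by
    intro h
    have h1 : p ≠ 2 := fun h2 => hc ⟨h, h2⟩
    have h2 : 3 ≤ p := by
      have := hp.two_le
      omega
    exact h2.trans (Nat.le_self_pow (by omega) p))
  rw [if_neg hc, one_mul, H933.SubPSp.card_out hs hna] at hcard
  exact Nat.eq_of_mul_eq_mul_right Nat.card_pos hcard

theorem sc_out_psp (hm : 2 ≤ m) (h : Even (Fintype.card F) ∨ ¬ IsSquare (Fintype.card F))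
    (hs : IsSimpleGroup (PSp m F)) (hna : ¬ IsMulCommutative (PSp m F)) : SC (Cfsg.Out (PSp m F)) := by
  obtain ⟨p, f, hp, hf, hF⟩ := exists_card F
  have hfp : Fact p.Prime := ⟨hp⟩
  have hfin : Finite (PSp m F) := inferInstance
  have hfinA : Finite (MulAut (PSp m F)) := by
    have h1 : Function.Injective (fun α : MulAut (PSp m F) => (α : PSp m F → PSp m F)) := DFunLike.coe_injective
    exact Finite.of_injective _ h1
  have hfinO : Finite (Cfsg.Out (PSp m F)) := Quotient.finite _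
  by_cases hc : m = 2 ∧ p = 2
  · obtain ⟨rfl, rfl⟩ := hc
    exact SC.of_isCyclic (Cfsg.Agent.S2600.result (F := F) hf hF).1
  have hcard := card_out_psp hp hf hF hm hc hs hna
  obtain ⟨σ, hσ⟩ := H933.SubField.exists_orderOf hf hF
  obtain ⟨x, hx⟩ := H933.SubPSp.exists_out (F := F) (m := m) (by omega) σ
  rw [hσ] at hx
  rcases hp.eq_two_or_odd' with rfl | hodd
  · -- even
    have hg : Nat.gcd 2 (2 ^ f - 1) = 1 := by
      rw [← Nat.coprime_iff_gcd_eq_one, Nat.coprime_two_left, Nat.odd_sub (Nat.one_le_two_pow)]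
      simp [Nat.even_pow, Nat.one_le_iff_ne_zero.1 hf]
    rw [hg, one_mul] at hcard
    have h1 : orderOf x = Nat.card (Cfsg.Out (PSp m F)) := by
      apply Nat.dvd_antisymm (orderOf_dvd_natCard x)
      rw [hcard]
      exact hx
    exact SC.of_isCyclic (isCyclic_of_orderOf_eq_card x h1)
  · have hfo : Odd f := by
      rcases h with h | h
      · exfalso
        rw [hF, Nat.even_pow] at h
        exact (Nat.not_even_iff_odd.2 hodd) h.1
      · rw [hF] at h
        exact odd_of_not_sq h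
    have hg : Nat.gcd 2 (p ^ f - 1) = 2 := by
      apply Nat.gcd_eq_left
      rw [← even_iff_two_dvd, Nat.even_sub' (Nat.one_le_pow _ _ hp.pos)]
      simp [Nat.odd_pow_iff (Nat.one_le_iff_ne_zero.1 hf), hodd]
    rw [hg] at hcard
    obtain ⟨k, hk⟩ := hx
    have hd : orderOf x ∣ 2 * f := by rw [← hcard]; exact orderOf_dvd_natCard x
    have hk2 : k ∣ 2 := by
      rw [hk, mul_comm 2 f] at hd
      exact Nat.dvd_of_mul_dvd_mul_left (by omega) hd
    have hcz : Nat.card (Subgroup.zpowers x) = f * k := by rw [Nat.card_zpowers, hk]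
    rcases (Nat.dvd_prime Nat.prime_two).1 hk2 with rfl | rfl
    · -- index two
      have hidx : (Subgroup.zpowers x).index = 2 := by
        have h1 := Subgroup.card_mul_index (Subgroup.zpowers x)
        rw [hcz, hcard, mul_one, mul_comm 2 f] at h1
        exact Nat.eq_of_mul_eq_mul_left (by omega) h1
      have hn : (Subgroup.zpowers x).Normal := Subgroup.normal_of_index_eq_two hidx
      have hker : (QuotientGroup.mk' (Subgroup.zpowers x)).ker = Subgroup.zpowers x := QuotientGroup.ker_mk' _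
      have hcq : Nat.card (Cfsg.Out (PSp m F) ⧸ Subgroup.zpowers x) = 2 := hidx
      refine sc_of_ker (QuotientGroup.mk' (Subgroup.zpowers x)) (QuotientGroup.mk'_surjective _) ?_ ?_ ?_ ?_
      · rw [hker]; infer_instance
      · rw [hker, hcz]; omega
      · exact SC.of_squarefree (by rw [hcq]; exact Nat.prime_two.squarefree)
      · rw [hker, hcz, hcq, mul_one]
        exact (Nat.coprime_two_right).2 hfo
    · have h1 : orderOf x = Nat.card (Cfsg.Out (PSp m F)) := by rw [hcard, hk, mul_comm]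
      exact SC.of_isCyclic (isCyclic_of_orderOf_eq_card x h1)

/-- **`PSp_2m(q)`, `m ≥ 2`, `q` even or not a square** -/
theorem sylCyc_psp (hm : 2 ≤ m) (h : Even (Fintype.card F) ∨ ¬ IsSquare (Fintype.card F))
    (hs : IsSimpleGroup (PSp m F)) (hna : ¬ IsMulCommutative (PSp m F)) : SylCyc (PSp m F) :=
  sylCyc_of_sc (sc_out_psp hm h hs hna)

end psp

section omega

variable {F : Type*} [Field F] [Fintype F] {m : ℕ}

/-- **`Ω_2m+1(q)`, `m ≥ 3`, `q` odd and not a square** -/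
theorem sylCyc_oodd (hm : 3 ≤ m) (hodd : Odd (Fintype.card F)) (h : ¬ IsSquare (Fintype.card F)) :
    SylCyc (Cfsg.POmega F (Cfsg.quadFormOdd m F)) := by
  obtain ⟨p, f, hp, hf, hF⟩ := exists_card F
  have hfp : Fact p.Prime := ⟨hp⟩
  rw [hF] at h hodd
  have hfo := odd_of_not_sq h
  have hp2 : p ≠ 2 := by
    rintro rfl
    rw [Nat.odd_pow_iff (by omega)] at hodd
    exact absurd hodd (by decide)
  obtain ⟨e⟩ := Cfsg.Agent.S2604.result (F := F) hf hF hp2 hm
  exact sylCyc_of_sc (SC.of_equiv e (sc_zmod_prod (by norm_num) hf (Nat.coprime_two_left.2 hfo)))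

/-- **`Ω⁻_2m(q)`, `m ≥ 4`, `q` even** -/
theorem sylCyc_ominus (hm : 4 ≤ m) (heven : Even (Fintype.card F)) (a b : F)
    (hab : ∀ z₁ z₂ : F, z₁ ^ 2 + a * z₁ * z₂ + b * z₂ ^ 2 = 0 → z₁ = 0 ∧ z₂ = 0) :
    SylCyc (Cfsg.POmega F (Cfsg.quadFormMinus (m - 1) F a b)) := by
  obtain ⟨p, f, hp, hf, hF⟩ := exists_card F
  rw [hF, Nat.even_pow] at heven
  have hp2 : p = 2 := hp.even_iff.1 heven.1
  subst hp2
  exact sylCyc_of_sc (SC.of_isCyclic (Cfsg.Agent.S2605.result (F := F) hf hF hm a b hab).1)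

/-- **`Ω⁺_2m(q)`, `m ≥ 5`, `q` even and not a square** -/
theorem sylCyc_oplus (hm : 5 ≤ m) (heven : Even (Fintype.card F)) (h : ¬ IsSquare (Fintype.card F)) :
    SylCyc (Cfsg.POmega F (Cfsg.quadFormPlus m F)) := by
  obtain ⟨p, f, hp, hf, hF⟩ := exists_card F
  rw [hF, Nat.even_pow] at heven
  have hp2 : p = 2 := hp.even_iff.1 heven.1
  subst hp2
  rw [hF] at h
  have h1 := Cfsg.Agent.S2607.result (F := F) hf hF (m := m) (by omega)
  rw [if_neg (by omega)] at h1
  obtain ⟨e⟩ := h1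
  exact sylCyc_of_sc (SC.of_equiv e (sc_zmod_prod (by norm_num) hf (Nat.coprime_two_left.2 (odd_of_not_sq h))))

/-- **`Ω⁺_8(2^f)`, `f` prime to 6** -/
theorem sylCyc_oplus_four {f : ℕ} (hf : 1 ≤ f) (hF : Fintype.card F = 2 ^ f) (h6 : Nat.Coprime 6 f) :
    SylCyc (Cfsg.POmega F (Cfsg.quadFormPlus 4 F)) := by
  have h1 := Cfsg.Agent.S2607.result (F := F) hf hF (m := 4) le_rfl
  rw [if_pos rfl] at h1
  obtain ⟨e⟩ := h1
  have h2 := finite_zmod hf
  have h3 : Nat.card (Equiv.Perm (Fin 3)) = 6 := by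
    rw [Nat.card_eq_fintype_card, Fintype.card_perm, Fintype.card_fin]; rfl
  have h4 : Squarefree 6 := by
    have : (6 : ℕ) = 2 * 3 := by norm_num
    rw [this, Nat.squarefree_mul (by norm_num)]
    exact ⟨Nat.prime_two.squarefree, Nat.prime_three.squarefree⟩
  exact sylCyc_of_sc (SC.of_equiv e (SC.prod (SC.of_squarefree (by rw [h3]; exact h4)) (sc_zmod f)
    (by rw [h3, card_zmod]; exact h6)))

end omega

section linear

variable {F : Type*} [Field F] [Fintype F]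

/-- **`PSL_n(q)`, `n ≥ 3`, `q = p^f`, `f` odd and `2 f` prime to `gcd (n, q - 1)`** -/
theorem sylCyc_psl {p f n : ℕ} (hp : p.Prime) (hf : Odd f) (hF : Fintype.card F = p ^ f) (hn : 3 ≤ n)
    (hcop : Nat.Coprime (Nat.gcd n (p ^ f - 1)) (2 * f)) :
    SylCyc (Matrix.ProjectiveSpecialLinearGroup (Fin n) F) := by
  have hfp : Fact p.Prime := ⟨hp⟩
  have hf1 : 1 ≤ f := hf.pos
  obtain ⟨φ, h1, h2, h3⟩ := Cfsg.Agent.S2601.result (F := F) (p := p) hf1 hF hn
  have h4 := finite_zmod hf1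
  have h5 := finite_zmod (f := 2) (by norm_num)
  have hfin : Finite (Multiplicative (ZMod f × ZMod 2)) :=
    Finite.of_equiv _ (MulEquiv.prodMultiplicative (ZMod f) (ZMod 2)).symm.toEquiv
  refine sylCyc_of_sc (sc_of_ker φ h1 h2 ?_ (sc_zmod_prod hf1 (by norm_num) (Nat.coprime_two_right.2 hf)) ?_)
  · rw [h3]
    exact (Nat.gcd_pos_of_pos_left _ (by omega)).ne'
  · rw [h3, Nat.card_congr (MulEquiv.prodMultiplicative (ZMod f) (ZMod 2)).toEquiv, Nat.card_prod, card_zmod,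
      card_zmod, mul_comm f 2]
    exact hcop

/-- **`PSL_2(q)`, `q = p^f ≥ 4`, `q` even or `f` odd** -/
theorem sylCyc_psl_two {p f : ℕ} (hp : p.Prime) (hf : 1 ≤ f) (hF : Fintype.card F = p ^ f) (h4 : 4 ≤ p ^ f)
    (hcop : Nat.Coprime (Nat.gcd 2 (p ^ f - 1)) f) :
    SylCyc (Matrix.ProjectiveSpecialLinearGroup (Fin 2) F) := by
  have hfp : Fact p.Prime := ⟨hp⟩
  obtain ⟨φ, h1, h2, h3⟩ := Cfsg.Agent.S2602.result (F := F) (p := p) hf hF h4
  have h5 := finite_zmod hf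
  refine sylCyc_of_sc (sc_of_ker φ h1 h2 ?_ (sc_zmod f) ?_)
  · rw [h3]
    exact (Nat.gcd_pos_of_pos_left _ (by omega)).ne'
  · rw [h3, card_zmod]
    exact hcop

/-- `PSL_2(q)`, `q` even or not a square -/
theorem sylCyc_psl_two' (h4 : 4 ≤ Fintype.card F) (h : Even (Fintype.card F) ∨ ¬ IsSquare (Fintype.card F)) :
    SylCyc (Matrix.ProjectiveSpecialLinearGroup (Fin 2) F) := by
  obtain ⟨p, f, hp, hf, hF⟩ := exists_card F
  refine sylCyc_psl_two hp hf hF (by rw [← hF]; exact h4) ?_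
  rw [hF] at h
  rcases h with h | h
  · have h1 : Nat.gcd 2 (p ^ f - 1) = 1 := by
      rw [← Nat.coprime_iff_gcd_eq_one, Nat.coprime_two_left, Nat.odd_sub (Nat.one_le_pow _ _ hp.pos)]
      simp [h]
    rw [h1]
    exact Nat.coprime_one_left f
  · exact Nat.Coprime.coprime_dvd_left (Nat.gcd_dvd_left 2 _) (Nat.coprime_two_left.2 (odd_of_not_sq h))

/-- **`PSU_n(q)`, `n ≥ 3`, `(n, q) ≠ (3, 2)`, `q = p^f`, `2 f` prime to `gcd (n, q + 1)`** -/
theorem sylCyc_psu {p f q n : ℕ} (hp : p.Prime) (hf : 1 ≤ f) (hq : q = p ^ f) (hF : Fintype.card F = q ^ 2)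
    (hn : 3 ≤ n) (h32 : ¬ (n = 3 ∧ q = 2)) (hcop : Nat.Coprime (Nat.gcd n (q + 1)) (2 * f)) :
    SylCyc (Cfsg.PSU n F q) := by
  have hfp : Fact p.Prime := ⟨hp⟩
  obtain ⟨φ, h1, h2, h3⟩ := Cfsg.Agent.S2603.result (K := F) (p := p) hf hq hF hn h32
  have h5 := finite_zmod (f := 2 * f) (by omega)
  refine sylCyc_of_sc (sc_of_ker φ h1 h2 ?_ (sc_zmod (2 * f)) ?_)
  · rw [h3]
    exact (Nat.gcd_pos_of_pos_left _ (by omega)).ne'
  · rw [h3, card_zmod]
    exact hcop

/-- `PSU_n(2)`, `n ≥ 4` -/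
theorem sylCyc_psu_two {n : ℕ} (hF : Fintype.card F = 2 ^ 2) (hn : 4 ≤ n) : SylCyc (Cfsg.PSU n F 2) :=
  sylCyc_psu (p := 2) (f := 1) (q := 2) Nat.prime_two le_rfl rfl hF (by omega) (by omega) (by
    refine Nat.Coprime.coprime_dvd_left (Nat.gcd_dvd_right n (2 + 1)) (by decide))

end linear

end Cfsg.Agent.H907.ExtFree
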