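import Mathlib
import Cfsg.Agent.H907.MxJ
import Cfsg.Agent.H930.GUSubG

/-!
Restrictions on the elements of the subfield subgroups of `SU_3(q)`.
-/

set_option autoImplicit false
set_option linter.unusedSectionVars false
set_option linter.unusedSimpArgs false

namespace Cfsg.Agent.H907.Mx

open Cfsg Cfsg.Geo Matrix Cfsg.Agent.H907 Cfsg.Agent.H918 Cfsg.Agent.H907.SU3 Cfsg.Agent.LieClassical.HermBasic
open Cfsg.Agent.H914
open scoped MatrixGroups

section sub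

variable {F : Type*} [Field F] [Fintype F] {F₁ : Subfield F}

theorem trace_conj (P g : GL (Fin 3) F) : Matrix.trace ((P⁻¹ * g * P : GL (Fin 3) F) : Matrix (Fin 3) (Fin 3) F) =
    Matrix.trace (g : Matrix (Fin 3) (Fin 3) F) := by
  rw [Units.val_mul, Units.val_mul, Matrix.trace_mul_comm, ← mul_assoc, ← Units.val_mul, mul_inv_cancel, Units.val_one,
    one_mul]

/-- **J5**: `tr g · tr g⁻¹` is in the subfield. -/
theorem trace_mul_trace_mem {P g : GL (Fin 3) F} (hg : g ∈ subfieldSubgroup F₁ P) :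
    Matrix.trace (g : Matrix (Fin 3) (Fin 3) F) * Matrix.trace ((g⁻¹ : GL (Fin 3) F) : Matrix (Fin 3) (Fin 3) F) ∈ F₁ := by
  obtain ⟨c, hc, h⟩ := mem_subfieldSubgroup_iff.1 hg
  obtain ⟨d, hd, h'⟩ := mem_subfieldSubgroup_iff.1 ((subfieldSubgroup F₁ P).inv_mem hg)
  have h1 : c * Matrix.trace (g : Matrix (Fin 3) (Fin 3) F) ∈ F₁ := by
    rw [← trace_conj P, Matrix.trace, Finset.mul_sum]
    exact F₁.sum_mem fun i _ => h i i
  have h2 : d * Matrix.trace ((g⁻¹ : GL (Fin 3) F) : Matrix (Fin 3) (Fin 3) F) ∈ F₁ := by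
    rw [← trace_conj P, Matrix.trace, Finset.mul_sum]
    exact F₁.sum_mem fun i _ => h' i i
  have h3 : c * d ∈ F₁ := by
    have h4 : ((P⁻¹ * g * P : GL (Fin 3) F) : Matrix (Fin 3) (Fin 3) F) *
        ((P⁻¹ * g⁻¹ * P : GL (Fin 3) F) : Matrix (Fin 3) (Fin 3) F) = 1 := by
      rw [← Units.val_mul, show P⁻¹ * g * P * (P⁻¹ * g⁻¹ * P) = 1 by group, Units.val_one]
    have h5 := congrFun (congrFun h4 0) 0
    rw [Matrix.mul_apply, Matrix.one_apply_eq] at h5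
    have h6 : c * d = ∑ j, (c * ((P⁻¹ * g * P : GL (Fin 3) F) : Matrix (Fin 3) (Fin 3) F) 0 j) *
        (d * ((P⁻¹ * g⁻¹ * P : GL (Fin 3) F) : Matrix (Fin 3) (Fin 3) F) j 0) := by
      calc c * d = c * d * 1 := by rw [mul_one]
        _ = _ := by
          rw [← h5, Finset.mul_sum]
          apply Finset.sum_congr rfl
          intro j _
          ring
    rw [h6]
    exact F₁.sum_mem fun j _ => F₁.mul_mem (h _ _) (h' _ _)
  have h4 : Matrix.trace (g : Matrix (Fin 3) (Fin 3) F) *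
      Matrix.trace ((g⁻¹ : GL (Fin 3) F) : Matrix (Fin 3) (Fin 3) F) =
      (c * d)⁻¹ * ((c * Matrix.trace (g : Matrix (Fin 3) (Fin 3) F)) *
        (d * Matrix.trace ((g⁻¹ : GL (Fin 3) F) : Matrix (Fin 3) (Fin 3) F))) := by
    field_simp
  rw [h4]
  exact F₁.mul_mem (F₁.inv_mem h3) (F₁.mul_mem h1 h2)

theorem neg_one_pow_card : (-1 : F) ^ Nat.card F₁ = -1 := by
  have := (mem_subfield_iff_pow F₁ (-1 : F)).1 (F₁.neg_mem F₁.one_mem)
  exact this

theorem pow_card_pow {r : ℕ} (hcard : Fintype.card F = Nat.card F₁ ^ r) (x : F) : x ^ (Nat.card F₁ ^ r) = x := by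
  rw [← hcard, FiniteField.pow_card]

theorem mem_of_sq_mem {r : ℕ} (hr : Odd r) (hcard : Fintype.card F = Nat.card F₁ ^ r) {t : F} (ht : t ^ 2 ∈ F₁) :
    t ∈ F₁ := by
  rw [mem_subfield_iff_pow] at ht ⊢
  have h1 : (t ^ Nat.card F₁) ^ 2 = t ^ 2 := by rw [← pow_mul, mul_comm, pow_mul]; exact ht
  rcases sq_eq_sq_iff_eq_or_eq_neg.1 h1 with h2 | h2
  · exact h2
  · have h3 : t ^ (Nat.card F₁ ^ 2) = t := by
      rw [pow_two, pow_mul, h2, neg_pow, neg_one_pow_card, h2]; ring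
    have h4 : ∀ k : ℕ, t ^ (Nat.card F₁ ^ (2 * k)) = t := by
      intro k
      induction k with
      | zero => rw [mul_zero, pow_zero, pow_one]
      | succ k ih => rw [mul_add, mul_one, pow_add, pow_mul, ih, h3]
    obtain ⟨k, rfl⟩ := hr
    have h5 := pow_card_pow hcard t
    rw [pow_succ, pow_mul, h4, h2] at h5
    rw [h2, h5]

theorem add_pow_card (x y : F) : (x + y) ^ Nat.card F₁ = x ^ Nat.card F₁ + y ^ Nat.card F₁ := by
  obtain ⟨p, hp⟩ := CharP.exists F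
  have hpp : Fact p.Prime := ⟨CharP.char_is_prime F p⟩
  have hp1 : CharP F₁ p := (RingHom.charP_iff (F₁.subtype) F₁.subtype.injective p).2 hp
  have : Fintype F₁ := Fintype.ofFinite F₁
  obtain ⟨n, -, hn⟩ := FiniteField.card F₁ p
  rw [Nat.card_eq_fintype_card, hn]
  exact add_pow_char_pow x y p n

theorem pow_card_of_add_inv {r : ℕ} (hr : Odd r) (hcard : Fintype.card F = Nat.card F₁ ^ r) {ζ : F} (h0 : ζ ≠ 0)
    (h : ζ + ζ⁻¹ ∈ F₁) : ζ ^ Nat.card F₁ = ζ := by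
  rw [mem_subfield_iff_pow, add_pow_card, inv_pow] at h
  set η := ζ ^ Nat.card F₁ with hη
  have hη0 : η ≠ 0 := pow_ne_zero _ h0
  have h1 : (η - ζ) * (η * ζ - 1) = 0 := by
    have h2 : η + η⁻¹ = ζ + ζ⁻¹ := h
    field_simp at h2
    linear_combination h2
  rcases mul_eq_zero.1 h1 with h2 | h2
  · exact sub_eq_zero.1 h2
  · have h3 : η = ζ⁻¹ := eq_inv_of_mul_eq_one_left (sub_eq_zero.1 h2)
    have h4 : ζ ^ (Nat.card F₁ ^ 2) = ζ := by
      rw [pow_two, pow_mul, ← hη, h3, inv_pow, ← hη, h3, inv_inv]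
    have h5 : ∀ k : ℕ, ζ ^ (Nat.card F₁ ^ (2 * k)) = ζ := by
      intro k
      induction k with
      | zero => rw [mul_zero, pow_zero, pow_one]
      | succ k ih => rw [mul_add, mul_one, pow_add, pow_mul, ih, h4]
    obtain ⟨k, rfl⟩ := hr
    have h6 := pow_card_pow hcard ζ
    rw [pow_succ, pow_mul, h5] at h6
    exact h6

/-- **J5** for `diag(ζ, ζ⁻¹, 1)`. -/
theorem pow_card_of_trace {r : ℕ} (hr : Odd r) (hcard : Fintype.card F = Nat.card F₁ ^ r) {P g : GL (Fin 3) F}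
    (hg : g ∈ subfieldSubgroup F₁ P) {ζ : F} (h0 : ζ ≠ 0)
    (h1 : Matrix.trace (g : Matrix (Fin 3) (Fin 3) F) = 1 + ζ + ζ⁻¹)
    (h2 : Matrix.trace ((g⁻¹ : GL (Fin 3) F) : Matrix (Fin 3) (Fin 3) F) = 1 + ζ + ζ⁻¹) : ζ ^ Nat.card F₁ = ζ := by
  have h3 := trace_mul_trace_mem hg
  rw [h1, h2, ← pow_two] at h3
  have h4 := mem_of_sq_mem hr hcard h3
  apply pow_card_of_add_inv hr hcard h0
  have h5 : ζ + ζ⁻¹ = 1 + ζ + ζ⁻¹ - 1 := by ring
  rw [h5]
  exact F₁.sub_mem h4 F₁.one_mem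

/-- The cube of an element of determinant one of the subfield group is rational. -/
theorem cube_rational {P g : GL (Fin 3) F} (hg : g ∈ subfieldSubgroup F₁ P)
    (hdet : (g : Matrix (Fin 3) (Fin 3) F).det = 1) (i j : Fin 3) :
    ((P⁻¹ * g ^ 3 * P : GL (Fin 3) F) : Matrix (Fin 3) (Fin 3) F) i j ∈ F₁ := by
  obtain ⟨c, hc, h⟩ := mem_subfieldSubgroup_iff.1 hg
  set A : Matrix (Fin 3) (Fin 3) F := ((P⁻¹ * g * P : GL (Fin 3) F) : Matrix (Fin 3) (Fin 3) F) with hA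
  have hdA : A.det = 1 := by
    rw [hA, Units.val_mul, Units.val_mul, Matrix.det_mul, Matrix.det_mul, hdet, mul_one, ← Matrix.det_mul,
      ← Units.val_mul, inv_mul_cancel, Units.val_one, Matrix.det_one]
  -- powers of a matrix with entries in the subfield
  have hmul : ∀ B C : Matrix (Fin 3) (Fin 3) F, (∀ i j, B i j ∈ F₁) → (∀ i j, C i j ∈ F₁) → ∀ i j, (B * C) i j ∈ F₁ := by
    intro B C hB hC i j
    rw [Matrix.mul_apply]
    exact F₁.sum_mem fun k _ => F₁.mul_mem (hB i k) (hC k j)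
  have hcA : ∀ i j, (c • A) i j ∈ F₁ := h
  have hdet3 : c ^ 3 ∈ F₁ := by
    have h1 : (c • A).det = c ^ 3 := by
      rw [Matrix.det_smul, hdA, mul_one, Fintype.card_fin]
    rw [← h1, Matrix.det_fin_three]
    have hm : ∀ i j k l m n : Fin 3, (c • A) i j * (c • A) k l * (c • A) m n ∈ F₁ := fun i j k l m n =>
      F₁.mul_mem (F₁.mul_mem (hcA _ _) (hcA _ _)) (hcA _ _)
    exact F₁.sub_mem (F₁.add_mem (F₁.add_mem (F₁.sub_mem (F₁.sub_mem (hm _ _ _ _ _ _) (hm _ _ _ _ _ _)) (hm _ _ _ _ _ _))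
      (hm _ _ _ _ _ _)) (hm _ _ _ _ _ _)) (hm _ _ _ _ _ _)
  have h3 : ((P⁻¹ * g ^ 3 * P : GL (Fin 3) F) : Matrix (Fin 3) (Fin 3) F) = (c ^ 3)⁻¹ • ((c • A) * (c • A) * (c • A)) := by
    have h4 : P⁻¹ * g ^ 3 * P = (P⁻¹ * g * P) * (P⁻¹ * g * P) * (P⁻¹ * g * P) := by
      rw [pow_succ, pow_two]; group
    rw [h4, Units.val_mul, Units.val_mul, ← hA]
    simp only [Matrix.smul_mul, Matrix.mul_smul, smul_smul]
    have : (c ^ 3)⁻¹ * (c * (c * c)) = 1 := by field_simp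
    rw [this, one_smul]
  rw [h3]
  exact F₁.mul_mem (F₁.inv_mem hdet3) (hmul _ _ (hmul _ _ hcA hcA) hcA i j)

theorem det_sub_one_conj (P g : GL (Fin 3) F) :
    (((P⁻¹ * g * P : GL (Fin 3) F) : Matrix (Fin 3) (Fin 3) F) - 1).det = ((g : Matrix (Fin 3) (Fin 3) F) - 1).det := by
  have h1 : ((P⁻¹ * g * P : GL (Fin 3) F) : Matrix (Fin 3) (Fin 3) F) - 1 =
      ((P⁻¹ : GL (Fin 3) F) : Matrix (Fin 3) (Fin 3) F) * ((g : Matrix (Fin 3) (Fin 3) F) - 1) *
        (P : Matrix (Fin 3) (Fin 3) F) := by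
    rw [Matrix.mul_sub, Matrix.sub_mul, Matrix.mul_one, ← Units.val_mul, ← Units.val_mul, ← Units.val_mul,
      inv_mul_cancel, Units.val_one]
  rw [h1, Matrix.det_mul, Matrix.det_mul, mul_comm, ← mul_assoc, ← Matrix.det_mul, ← Units.val_mul, mul_inv_cancel,
    Units.val_one, Matrix.det_one, one_mul]

/-- A real special unitary matrix of degree three has the eigenvalue one. -/
theorem det_sub_one_eq_zero {q : ℕ} (hF : Fintype.card F = q ^ 2) (h2 : (2 : F) ≠ 0) {w : GL (Fin 3) F}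
    (hw : w ∈ SUg 3 F q) (hfix : Fixed q (w : Matrix (Fin 3) (Fin 3) F)) :
    ((w : Matrix (Fin 3) (Fin 3) F) - 1).det = 0 := by
  have h1 := (mem_GU_iff_ct hF).1 hw.1
  have h3 : ct q (w : Matrix (Fin 3) (Fin 3) F) = (w : Matrix (Fin 3) (Fin 3) F)ᵀ := by
    ext i j
    exact hfix j i
  rw [h3] at h1
  have h4 : (1 - (w : Matrix (Fin 3) (Fin 3) F)ᵀ) * (w : Matrix (Fin 3) (Fin 3) F) =
      (w : Matrix (Fin 3) (Fin 3) F) - 1 := by
    rw [Matrix.sub_mul, Matrix.one_mul, h1]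
  have h5 : (1 - (w : Matrix (Fin 3) (Fin 3) F)ᵀ).det = -((w : Matrix (Fin 3) (Fin 3) F) - 1).det := by
    have h6 : (1 - (w : Matrix (Fin 3) (Fin 3) F)ᵀ) = (-((w : Matrix (Fin 3) (Fin 3) F) - 1))ᵀ := by
      rw [Matrix.transpose_neg, Matrix.transpose_sub, Matrix.transpose_one, neg_sub]
    rw [h6, Matrix.det_transpose, Matrix.det_neg, Fintype.card_fin]
    ring
  have h6 := congrArg Matrix.det h4
  rw [Matrix.det_mul, h5, (mem_SUg.1 hw).2, mul_one] at h6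
  have h7 : (2 : F) * ((w : Matrix (Fin 3) (Fin 3) F) - 1).det = 0 := by
    linear_combination -h6
  exact (mul_eq_zero.1 h7).resolve_left h2

theorem fixed_of_mem {q : ℕ} (hF : Fintype.card F = q ^ 2) (hc : Fintype.card F = Nat.card F₁ ^ 2)
    {A : Matrix (Fin 3) (Fin 3) F} (h : ∀ i j, A i j ∈ F₁) : Fixed q A := fun i j =>
  (mem_F₀_iff hF hc _).1 (h i j)

/-- **J6**: the cube of an element of the real type has the eigenvalue one. -/
theorem real_cube {q : ℕ} (hF : Fintype.card F = q ^ 2) (h2 : (2 : F) ≠ 0) (hc : Fintype.card F = Nat.card F₁ ^ 2)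
    {P : GL (Fin 3) F} (hP : P ∈ Cfsg.GU 3 F q) {g : GL (Fin 3) F} (hg : g ∈ subfieldSubgroup F₁ P)
    (hS : g ∈ SUg 3 F q) : (((g ^ 3 : GL (Fin 3) F) : Matrix (Fin 3) (Fin 3) F) - 1).det = 0 := by
  rw [← det_sub_one_conj P]
  apply det_sub_one_eq_zero hF h2
  · have := conj_mem_SUg hF (GU_le_similarityGroup hF (inv_mem hP)) ((SUg 3 F q).pow_mem hS 3)
    simpa using this
  · exact fixed_of_mem hF hc (cube_rational hg (mem_SUg.1 hS).2)

/-- **J6** for commutators. -/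
theorem real_comm {q : ℕ} (hF : Fintype.card F = q ^ 2) (h2 : (2 : F) ≠ 0) (hc : Fintype.card F = Nat.card F₁ ^ 2)
    {P : GL (Fin 3) F} (hP : P ∈ Cfsg.GU 3 F q) {g : GL (Fin 3) F}
    (hg : g ∈ ⁅subfieldSubgroup F₁ P, subfieldSubgroup F₁ P⁆)
    (hS : g ∈ SUg 3 F q) : ((g : Matrix (Fin 3) (Fin 3) F) - 1).det = 0 := by
  rw [← det_sub_one_conj P]
  apply det_sub_one_eq_zero hF h2
  · have := conj_mem_SUg hF (GU_le_similarityGroup hF (inv_mem hP)) hS
    simpa using this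
  · obtain ⟨y, ⟨z, rfl⟩, hy⟩ := commutator_subfieldSubgroup_le F₁ P hg
    apply fixed_of_mem hF hc
    intro i j
    rw [← hy]
    have : P⁻¹ * (MulAut.conj P).toMonoidHom (Matrix.GeneralLinearGroup.map (F₁.subtype : F₁ →+* F) z) * P =
        Matrix.GeneralLinearGroup.map (F₁.subtype : F₁ →+* F) z := by
      simp [MulAut.conj_apply, mul_assoc]
    rw [this]
    exact (z.1 i j).2

/-- **J5** for the orders of elements. -/
theorem orderOf_cube_dvd {q r : ℕ} (hF : Fintype.card F = q ^ 2) (hr : Odd r)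
    (hcard : Fintype.card F = Nat.card F₁ ^ r) {P : GL (Fin 3) F}
    (hP : IsFormRationalStructure (hermForm 3 F q) F₁ 1 P) {g : GL (Fin 3) F} (hg : g ∈ subfieldSubgroup F₁ P)
    (hS : g ∈ SUg 3 F q) :
    ∃ q₁ : ℕ, 2 ≤ q₁ ∧ q = q₁ ^ r ∧ Nat.card F₁ = q₁ ^ 2 ∧ orderOf (g ^ 3) ∣ q₁ ^ 3 * (q₁ ^ 2 - 1) * (q₁ ^ 3 + 1) := by
  have : Fintype F₁ := Fintype.ofFinite F₁
  obtain ⟨q₁, S⟩ := Cfsg.Agent.H930.GUSub.exists_setup (F₀ := F₁) hF hr hcard
  have hN : Nat.card F₁ = q₁ ^ 2 := by rw [Nat.card_eq_fintype_card, S.hF₀]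
  have hq : q = q₁ ^ r := by
    have h1 : q ^ 2 = (q₁ ^ r) ^ 2 := by rw [← hF, hcard, hN, ← pow_mul, ← pow_mul, mul_comm]
    exact Nat.pow_left_injective two_ne_zero h1
  refine ⟨q₁, two_le S.hF₀, hq, hN, ?_⟩
  obtain ⟨P', hP', h1, h2⟩ := Cfsg.Agent.H930.GUSub.exists_frame S hP
  have hg' : g ∈ subfieldSubgroup F₁ P' := Cfsg.Agent.H930.GUSub.subfieldSubgroup_le h1 h2 hg
  obtain ⟨w, hw⟩ : ∃ w, w = P'⁻¹ * g ^ 3 * P' := ⟨_, rfl⟩
  have hwS : w ∈ SUg 3 F q := by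
    have := conj_mem_SUg hF (GU_le_similarityGroup hF (inv_mem hP')) ((SUg 3 F q).pow_mem hS 3)
    rw [hw]
    simpa using this
  have hwr : ∀ i j, (w : Matrix (Fin 3) (Fin 3) F) i j ∈ F₁ := by
    rw [hw]; exact cube_rational hg' (mem_SUg.1 hS).2
  let W : Matrix (Fin 3) (Fin 3) F₁ := Matrix.of fun i j => ⟨(w : Matrix (Fin 3) (Fin 3) F) i j, hwr i j⟩
  have hWw : W.map F₁.subtype = (w : Matrix (Fin 3) (Fin 3) F) := by ext i j; rfl
  have hinj : Function.Injective (fun M : Matrix (Fin 3) (Fin 3) F₁ => M.map F₁.subtype) := by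
    intro M N h
    ext i j
    exact congrFun (congrFun h i) j
  have hct : ct q₁ W * W = 1 := by
    apply hinj
    show (ct q₁ W * W).map F₁.subtype = (1 : Matrix (Fin 3) (Fin 3) F₁).map F₁.subtype
    rw [Matrix.map_mul, Matrix.map_one _ (map_zero _) (map_one _), hWw]
    have h3 : (ct q₁ W).map F₁.subtype = ct q (w : Matrix (Fin 3) (Fin 3) F) := by
      ext i j
      show (((W j i) ^ q₁ : F₁) : F) = ((w : Matrix (Fin 3) (Fin 3) F) j i) ^ q
      rw [← S.pow_eq]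
      rfl
    rw [h3]
    exact (mem_GU_iff_ct hF).1 hwS.1
  have hdetW : W.det = 1 := by
    apply F₁.subtype.injective
    rw [RingHom.map_det, map_one]
    have h3 : F₁.subtype.mapMatrix W = (w : Matrix (Fin 3) (Fin 3) F) := hWw
    rw [h3]
    exact (mem_SUg.1 hwS).2
  obtain ⟨g₁, hg₁, hg₁W⟩ := exists_SU_of S.hF₀ hct hdetW
  have hmap : Matrix.GeneralLinearGroup.map (F₁.subtype : F₁ →+* F) g₁ = w := by
    apply Units.ext
    rw [← hWw, ← hg₁W]
    rfl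
  have ho : orderOf (g ^ 3) = orderOf g₁ := by
    have h3 : orderOf w = orderOf (g ^ 3) := by
      have : w = MulAut.conj P'⁻¹ (g ^ 3) := by rw [hw]; simp [MulAut.conj_apply]
      rw [this]
      exact orderOf_injective (MulAut.conj P'⁻¹).toMonoidHom (MulAut.conj P'⁻¹).injective _
    rw [← h3, ← hmap]
    apply orderOf_injective
    intro a b hab
    apply Units.ext
    apply hinj
    exact congrArg Units.val hab
  rw [ho, ← card_SUg S.hF₀]
  have h3 : orderOf g₁ = orderOf (⟨g₁, hg₁⟩ : SUg 3 F₁ q₁) := (Subgroup.orderOf_mk _ _).symm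
  rw [h3]
  exact orderOf_dvd_natCard _

end sub

end Cfsg.Agent.H907.Mx
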