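import Mathlib
import Cfsg.Agent.H907.MxBase

/-!
The action of a group in the residual class on its socle.
-/

set_option autoImplicit false
set_option linter.unusedSectionVars false
set_option linter.unusedSimpArgs false

namespace Cfsg.Agent.H907.Mx

open Cfsg Cfsg.Geo Matrix Cfsg.Agent.H907 Cfsg.Agent.H918 Cfsg.Agent.H907.SU3
open scoped MatrixGroups

section core

variable {F : Type*} [Field F] {H P : Subgroup (GL (Fin 3) F)}

/-- `P` modulo scalars -/
abbrev PQ (P : Subgroup (GL (Fin 3) F)) : Type _ := P ⧸ (scalars (Fin 3) F).subgroupOf P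

theorem scalars_comm {s : GL (Fin 3) F} (hs : s ∈ scalars (Fin 3) F) (g : GL (Fin 3) F) : g * s = s * g := by
  obtain ⟨c, hc⟩ := (mem_scalars_iff s).1 hs
  apply Units.ext
  rw [Units.val_mul, Units.val_mul, hc]
  simp

variable (hP : IsResidualCore H P)
include hP

theorem conj_mem_P' {h : GL (Fin 3) F} (hh : h ∈ H) {x : GL (Fin 3) F} (hx : x ∈ P) : h⁻¹ * x * h ∈ P := by
  have := hP.normal h⁻¹ (H.inv_mem hh) x hx
  rwa [inv_inv] at this

/-- conjugation by an element of `H` -/
noncomputable def cP (h : H) : P ≃* P where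
  toFun x := ⟨h * x * (h : GL (Fin 3) F)⁻¹, hP.normal h h.2 x x.2⟩
  invFun x := ⟨(h : GL (Fin 3) F)⁻¹ * x * h, conj_mem_P' hP h.2 x.2⟩
  left_inv x := by apply Subtype.ext; simp [mul_assoc]
  right_inv x := by apply Subtype.ext; simp [mul_assoc]
  map_mul' x y := by apply Subtype.ext; simp [mul_assoc]

theorem cP_map (h : H) : ((scalars (Fin 3) F).subgroupOf P).map (cP hP h : P ≃* P) = (scalars (Fin 3) F).subgroupOf P := by
  have key : ∀ x : P, (x : GL (Fin 3) F) ∈ scalars (Fin 3) F → cP hP h x = x := by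
    intro x hx
    apply Subtype.ext
    show (h : GL (Fin 3) F) * x * (h : GL (Fin 3) F)⁻¹ = x
    rw [scalars_comm hx, mul_inv_cancel_right]
  ext x
  constructor
  · rintro ⟨y, hy, rfl⟩
    have : cP hP h y = y := key y (Subgroup.mem_subgroupOf.1 hy)
    show cP hP h y ∈ _
    rw [this]; exact hy
  · intro hx
    exact ⟨x, hx, key x (Subgroup.mem_subgroupOf.1 hx)⟩

/-- the action on the quotient -/
noncomputable def cQ : H →* MulAut (PQ P) where
  toFun h := QuotientGroup.congr _ _ (cP hP h) (cP_map hP h)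
  map_one' := by
    apply MulEquiv.ext
    intro x
    obtain ⟨x, rfl⟩ := QuotientGroup.mk_surjective x
    show ((cP hP 1 x : P) : PQ P) = (x : PQ P)
    congr 1
    apply Subtype.ext
    show ((1 : H) : GL (Fin 3) F) * x * ((1 : H) : GL (Fin 3) F)⁻¹ = x
    simp
  map_mul' h k := by
    apply MulEquiv.ext
    intro x
    obtain ⟨x, rfl⟩ := QuotientGroup.mk_surjective x
    show ((cP hP (h * k) x : P) : PQ P) = ((cP hP h (cP hP k x) : P) : PQ P)
    congr 1
    apply Subtype.ext
    show ((h * k : H) : GL (Fin 3) F) * x * ((h * k : H) : GL (Fin 3) F)⁻¹ =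
      (h : GL (Fin 3) F) * ((k : GL (Fin 3) F) * x * (k : GL (Fin 3) F)⁻¹) * (h : GL (Fin 3) F)⁻¹
    simp [mul_assoc]

theorem cQ_mk (h : H) (x : P) : cQ hP h (QuotientGroup.mk x : PQ P) = (QuotientGroup.mk (cP hP h x) : PQ P) := rfl

theorem cQ_ker {h : H} : cQ hP h = 1 ↔ (h : GL (Fin 3) F) ∈ scalars (Fin 3) F := by
  constructor
  · intro h1
    apply hP.centralizer_scalar h h.2
    intro x hx
    have h2 : cQ hP h (QuotientGroup.mk ⟨x, hx⟩ : PQ P) = (QuotientGroup.mk ⟨x, hx⟩ : PQ P) := by rw [h1]; rfl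
    rw [cQ_mk] at h2
    have h3 := QuotientGroup.eq.1 h2.symm
    have h4 : (x : GL (Fin 3) F)⁻¹ * (h * x * (h : GL (Fin 3) F)⁻¹) ∈ scalars (Fin 3) F := Subgroup.mem_subgroupOf.1 h3
    have h5 : (h : GL (Fin 3) F) * x * (h : GL (Fin 3) F)⁻¹ * x⁻¹ =
        x * (x⁻¹ * (h * x * (h : GL (Fin 3) F)⁻¹)) * x⁻¹ := by group
    rw [h5, scalars_comm h4, mul_inv_cancel_right]
    exact h4
  · intro hs
    apply MulEquiv.ext
    intro x
    obtain ⟨x, rfl⟩ := QuotientGroup.mk_surjective x
    rw [cQ_mk]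
    show ((cP hP h x : P) : PQ P) = (x : PQ P)
    congr 1
    apply Subtype.ext
    show (h : GL (Fin 3) F) * x * (h : GL (Fin 3) F)⁻¹ = x
    rw [← scalars_comm hs, mul_inv_cancel_right]

end core

section card

variable {F : Type*} [Field F] [Fintype F] {q : ℕ} {H P : Subgroup (GL (Fin 3) F)} (hP : IsResidualCore H P)

/-- Scalars of determinant one. -/
theorem scalar_cube {s : GL (Fin 3) F} (hs : s ∈ scalars (Fin 3) F) (hS : s ∈ SUg 3 F q) : s ^ 3 = 1 := by
  obtain ⟨c, hc⟩ := (mem_scalars_iff s).1 hs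
  have hd := (mem_SUg.1 hS).2
  rw [hc, Matrix.det_smul, Matrix.det_one, mul_one, Fintype.card_fin] at hd
  apply Units.ext
  rw [Units.val_pow_eq_pow_val, hc, _root_.smul_pow, hd, one_pow, one_smul, Units.val_one]

/-- The scalars of a subgroup of the special unitary group. -/
theorem card_scalars_dvd {K : Subgroup (GL (Fin 3) F)} (hK : K ≤ scalars (Fin 3) F) (hKS : K ≤ SUg 3 F q) :
    Nat.card K ∣ 3 := by
  -- the entry homomorphism
  let f : K →* F :=
    { toFun := fun k => ((k : GL (Fin 3) F) : Matrix (Fin 3) (Fin 3) F) 0 0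
      map_one' := by simp
      map_mul' := fun a b => by
        obtain ⟨c, hc⟩ := (mem_scalars_iff _).1 (hK a.2)
        obtain ⟨d, hd⟩ := (mem_scalars_iff _).1 (hK b.2)
        show (((a * b : K) : GL (Fin 3) F) : Matrix (Fin 3) (Fin 3) F) 0 0 = _
        rw [Subgroup.coe_mul, Units.val_mul, hc, hd]
        simp [mul_comm] }
  have hinj : Function.Injective f := by
    intro a b hab
    obtain ⟨c, hc⟩ := (mem_scalars_iff _).1 (hK a.2)
    obtain ⟨d, hd⟩ := (mem_scalars_iff _).1 (hK b.2)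
    have h1 : ((a : GL (Fin 3) F) : Matrix (Fin 3) (Fin 3) F) 0 0 = ((b : GL (Fin 3) F) : Matrix (Fin 3) (Fin 3) F) 0 0 := hab
    rw [hc, hd] at h1
    have h2 : (c : F) = d := by simpa using h1
    apply Subtype.ext
    apply Units.ext
    rw [hc, hd, h2]
  have hcyc : IsCyclic K := isCyclic_of_injective_ringHom f hinj
  rw [← IsCyclic.exponent_eq_card]
  apply Monoid.exponent_dvd_of_forall_pow_eq_one
  intro k
  exact Subtype.ext (scalar_cube (hK k.2) (hKS k.2))

include hP

theorem card_dvd (hHS : H ≤ SUg 3 F q) : Nat.card H ∣ 3 * Nat.card (MulAut (PQ P)) := by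
  have h1 : Nat.card H = Nat.card (cQ hP).range * Nat.card (cQ hP).ker := by
    rw [Subgroup.card_eq_card_quotient_mul_card_subgroup (cQ hP).ker,
      Nat.card_congr (QuotientGroup.quotientKerEquivRange (cQ hP)).toEquiv]
  have h2 : Nat.card (cQ hP).range ∣ Nat.card (MulAut (PQ P)) := Subgroup.card_subgroup_dvd_card _
  have h3 : Nat.card (cQ hP).ker ∣ 3 := by
    have h4 : Nat.card (cQ hP).ker = Nat.card ((cQ hP).ker.map H.subtype) :=
      Nat.card_congr ((cQ hP).ker.equivMapOfInjective _ H.subtype_injective).toEquiv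
    rw [h4]
    apply card_scalars_dvd (q := q)
    · rintro _ ⟨h, hh, rfl⟩
      exact (cQ_ker hP).1 hh
    · rintro _ ⟨h, hh, rfl⟩
      exact hHS h.2
  rw [h1, mul_comm 3]
  exact mul_dvd_mul h2 h3

end card

end Cfsg.Agent.H907.Mx
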