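import Mathlib
import Cfsg.Agent.H907.MxRes
import Cfsg.Agent.H824.ProdLem

/-!
The orders of the residual subgroups of `SU_3(q)`.
-/

set_option autoImplicit false
set_option linter.unusedSectionVars false
set_option linter.unusedSimpArgs false

namespace Cfsg.Agent.H907.Mx

open Cfsg Cfsg.Geo Matrix Cfsg.Agent.H907 Cfsg.Agent.H918 Cfsg.Agent.H907.SU3
open scoped MatrixGroups

theorem card_aut_l32 : Nat.card (MulAut (Matrix.ProjectiveSpecialLinearGroup (Fin 3) (ZMod 2))) ∣ 336 := by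
  have : Fact (Nat.Prime 2) := ⟨Nat.prime_two⟩
  rw [Cfsg.Agent.ClassicalGeometry.AutPSL.Main.card_three 2 (by norm_num)]
  have h1 : Nat.card (Matrix.ProjGenLinGroup (Fin 3) (ZMod 2)) ∣ 168 := by
    have h2 : Nat.card (GL (Fin 3) (ZMod 2)) = 168 := by
      rw [Matrix.card_GL_field]
      simp [Fin.prod_univ_three, ZMod.card]
    rw [← h2]
    exact Subgroup.card_quotient_dvd_card _
  have h3 : Nat.card (ZMod 2 ≃+* ZMod 2) = 1 := by
    rw [Nat.card_eq_one_iff_unique]
    exact ⟨inferInstance, ⟨RingEquiv.refl _⟩⟩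
  rw [h3, mul_one]
  exact (mul_dvd_mul_left 2 h1)

variable {F : Type*} [Field F] [Fintype F] {q : ℕ} {H P : Subgroup (GL (Fin 3) F)} (hP : IsResidualCore H P)
  (hHS : H ≤ SUg 3 F q)
include hP hHS

theorem card_dvd_l32 (he : Nonempty (PQ P ≃* Matrix.ProjectiveSpecialLinearGroup (Fin 3) (ZMod 2))) :
    Nat.card H ∣ 1008 := by
  obtain ⟨e⟩ := he
  have h1 := card_dvd hP hHS
  rw [Nat.card_congr (MulAut.congr e).toEquiv] at h1
  exact h1.trans ((mul_dvd_mul_left 3 card_aut_l32))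

theorem card_dvd_a6 (he : Nonempty (PQ P ≃* alternatingGroup (Fin 6))) :
    Nat.card H ∣ 4320 := by
  obtain ⟨e⟩ := he
  have h1 := card_dvd hP hHS
  rw [Nat.card_congr (MulAut.congr e).toEquiv, Cfsg.Agent.H824.ProdLem.card_aut_a6] at h1
  exact h1

end Cfsg.Agent.H907.Mx
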