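import Mathlib

/-!
Automorphisms of a group of order 27 with centre of order three, acting trivially on the centre.
-/

set_option autoImplicit false
set_option linter.unusedSectionVars false
set_option linter.deprecated false

namespace Cfsg.Agent.H907.Mx

open Subgroup
open scoped commutatorElement

section

variable {R : Type*} [Group R] (hcard : Nat.card R = 27) (hcen : Nat.card (center R) = 3)
include hcard hcen

theorem comm_mem_center (a b : R) : ⁅a, b⁆ ∈ center R := by
  have : Finite R := Nat.finite_of_card_ne_zero (by rw [hcard]; norm_num)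
  have h1 : Nat.card (R ⧸ center R) = 3 ^ 2 := by
    have := card_eq_card_quotient_mul_card_subgroup (center R)
    rw [hcard, hcen] at this
    omega
  have : Fact (Nat.Prime 3) := ⟨Nat.prime_three⟩
  have hc := IsPGroup.commutative_of_card_eq_prime_sq h1
  rw [← QuotientGroup.eq_one_iff, commutatorElement_def]
  rw [QuotientGroup.mk_mul, QuotientGroup.mk_mul, QuotientGroup.mk_mul, QuotientGroup.mk_inv, QuotientGroup.mk_inv,
    hc (a : R ⧸ center R) b, mul_inv_cancel_right, mul_inv_cancel]

theorem cube_center {z : R} (hz : z ∈ center R) : z ^ 3 = 1 := by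
  have : Finite R := Nat.finite_of_card_ne_zero (by rw [hcard]; norm_num)
  have h := pow_card_eq_one' (x := (⟨z, hz⟩ : center R))
  rw [hcen] at h
  exact congrArg Subtype.val h

theorem eq_one_of_sq {z : R} (hz : z ^ 2 = 1) : z = 1 := by
  have : Finite R := Nat.finite_of_card_ne_zero (by rw [hcard]; norm_num)
  have h1 : orderOf z ∣ 2 := orderOf_dvd_of_pow_eq_one hz
  have h2 : orderOf z ∣ 27 := hcard ▸ orderOf_dvd_natCard z
  have h3 : orderOf z ∣ 1 := by
    have := Nat.dvd_gcd h1 h2
    norm_num at this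
    rw [Nat.dvd_one]
    exact orderOf_eq_one_iff.2 this
  exact orderOf_eq_one_iff.1 (Nat.dvd_one.1 h3)

/-- fixed points -/
theorem card_fix_cases (α : MulAut R) (hZ : ∀ z ∈ center R, α z = z) :
    Nat.card (MonoidHom.eqLocus α.toMonoidHom (MonoidHom.id R)) = 3 ∨
      Nat.card (MonoidHom.eqLocus α.toMonoidHom (MonoidHom.id R)) = 9 ∨ α = 1 := by
  have : Finite R := Nat.finite_of_card_ne_zero (by rw [hcard]; norm_num)
  set U := MonoidHom.eqLocus α.toMonoidHom (MonoidHom.id R) with hU
  have hZU : center R ≤ U := fun z hz => hZ z hz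
  have h1 : Nat.card U ∣ 3 ^ 3 := by
    have := card_subgroup_dvd_card U
    rwa [hcard] at this
  have h2 : 3 ∣ Nat.card U := hcen ▸ card_dvd_of_le hZU
  obtain ⟨k, hk, hk'⟩ := (Nat.dvd_prime_pow Nat.prime_three).1 h1
  interval_cases k
  · rw [hk'] at h2; norm_num at h2
  · left; rw [hk']; norm_num
  · right; left; rw [hk']; norm_num
  · right; right
    have h3 : U = ⊤ := eq_top_of_card_eq U (by rw [hk', hcard]; norm_num)
    ext r
    have : r ∈ U := h3 ▸ mem_top r
    exact this

theorem mul_mem_center (α : MulAut R) (h2 : α * α = 1) (hZ : ∀ z ∈ center R, α z = z) (h1 : α ≠ 1) (r : R) :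
    r * α r ∈ center R := by
  have : Finite R := Nat.finite_of_card_ne_zero (by rw [hcard]; norm_num)
  have hαα : ∀ x, α (α x) = x := fun x => congrArg (fun γ : MulAut R => γ x) h2
  -- fixed modulo the centre is fixed
  have hfix : ∀ x, x⁻¹ * α x ∈ center R → α x = x := by
    intro x hx
    obtain ⟨z, hz⟩ : ∃ z, z = x⁻¹ * α x := ⟨_, rfl⟩
    rw [← hz] at hx
    have h3 : α x = x * z := by rw [hz]; group
    have h4 : x = x * (z * z) := by
      calc x = α (α x) := (hαα x).symm
        _ = x * (z * z) := by rw [h3, map_mul, h3, hZ z hx, mul_assoc]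
    have h5 : z ^ 2 = 1 := by
      rw [pow_two]
      exact (left_eq_mul.1 h4)
    rw [h3, eq_one_of_sq hcard hcen h5, mul_one]
  rcases card_fix_cases hcard hcen α hZ with h3 | h3 | h3
  · -- only the centre is fixed
    set U := MonoidHom.eqLocus α.toMonoidHom (MonoidHom.id R) with hU
    have hZU : center R ≤ U := fun z hz => hZ z hz
    have hUZ : center R = U := eq_of_le_of_card_ge hZU (by rw [h3, hcen])
    rw [hUZ]
    show α (r * α r) = r * α r
    apply hfix
    rw [map_mul, hαα]
    have h4 : (r * α r)⁻¹ * (α r * r) = ⁅(α r)⁻¹, r⁻¹⁆ := by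
      rw [commutatorElement_def]; group
    rw [h4]
    exact comm_mem_center hcard hcen _ _
  · exfalso
    apply h1
    set U := MonoidHom.eqLocus α.toMonoidHom (MonoidHom.id R) with hU
    have hZU : center R ≤ U := fun z hz => hZ z hz
    -- an element of `U` outside the centre
    obtain ⟨w, hwU, hwZ⟩ : ∃ w ∈ U, w ∉ center R := by
      by_contra hcon
      push Not at hcon
      have := card_dvd_of_le (H := U) (K := center R) hcon
      rw [h3, hcen] at this
      norm_num at this
    have hwα : α w = w := hwU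
    -- the centraliser of `w`
    have hCw : U = centralizer ({w} : Set R) := by
      have hUc : U ≤ centralizer ({w} : Set R) := by
        -- `U` has order nine, so is commutative
        have : Fact (Nat.Prime 3) := ⟨Nat.prime_three⟩
        have hc := IsPGroup.commutative_of_card_eq_prime_sq (G := U) (p := 3) (by rw [h3]; norm_num)
        intro u hu
        rw [mem_centralizer_singleton_iff]
        exact (congrArg Subtype.val (hc ⟨w, hwU⟩ ⟨u, hu⟩)).symm
      refine eq_of_le_of_card_ge hUc ?_
      rw [h3]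
      have h5 : Nat.card (centralizer ({w} : Set R)) ∣ 3 ^ 3 := by
        have := card_subgroup_dvd_card (centralizer ({w} : Set R))
        rwa [hcard] at this
      obtain ⟨k, hk, hk'⟩ := (Nat.dvd_prime_pow Nat.prime_three).1 h5
      rcases Nat.lt_or_ge k 3 with h6 | h6
      · rw [hk']
        calc 3 ^ k ≤ 3 ^ 2 := Nat.pow_le_pow_right (by norm_num) (by omega)
          _ = 9 := by norm_num
      · exfalso
        have hk3 : k = 3 := by omega
        subst hk3
        have h7 : centralizer ({w} : Set R) = ⊤ := eq_top_of_card_eq _ (by rw [hk', hcard]; norm_num)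
        apply hwZ
        rw [mem_center_iff]
        intro g
        have : g ∈ centralizer ({w} : Set R) := h7 ▸ mem_top g
        exact mem_centralizer_singleton_iff.1 this
    have hr : ∀ r, α r = r := by
      intro r
      have h4 : r⁻¹ * α r ∈ U := by
        rw [hCw, mem_centralizer_singleton_iff]
        have h5 : α ⁅r, w⁆ = ⁅r, w⁆ := hZ _ (comm_mem_center hcard hcen _ _)
        rw [map_commutatorElement, hwα, commutatorElement_def, commutatorElement_def] at h5
        have h6 : α r * w * (α r)⁻¹ = r * w * r⁻¹ := mul_right_cancel h5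
        symm
        calc w * (r⁻¹ * α r) = r⁻¹ * (r * w * r⁻¹) * α r := by group
          _ = r⁻¹ * (α r * w * (α r)⁻¹) * α r := by rw [h6]
          _ = r⁻¹ * α r * w := by group
      have h5 : α (r⁻¹ * α r) = r⁻¹ * α r := h4
      rw [map_mul, map_inv, hαα] at h5
      -- `α(r)⁻¹ r = r⁻¹ α(r)`
      have h6 : (r⁻¹ * α r) ^ 2 = 1 := by
        rw [pow_two]
        nth_rewrite 2 [← h5]
        group
      have h7 := eq_one_of_sq hcard hcen h6
      calc α r = r * (r⁻¹ * α r) := by group
        _ = r := by rw [h7, mul_one]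
    ext r
    exact hr r
  · exact absurd h3 h1

/-- No Klein four-group of automorphisms centralises the centre. -/
theorem no_klein (α β : MulAut R) (hα2 : α * α = 1) (hβ2 : β * β = 1) (hαβ : α * β = β * α)
    (hαZ : ∀ z ∈ center R, α z = z) (hβZ : ∀ z ∈ center R, β z = z) (hα : α ≠ 1) (hβ : β ≠ 1) : α * β = 1 := by
  have : Finite R := Nat.finite_of_card_ne_zero (by rw [hcard]; norm_num)
  have h1 := mul_mem_center hcard hcen α hα2 hαZ hα
  have h2 := mul_mem_center hcard hcen β hβ2 hβZ hβ
  ext r
  show α (β r) = r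
  -- `β r = r⁻¹ z`, `α r = r⁻¹ z'`
  obtain ⟨z, hz, hβr⟩ : ∃ z ∈ center R, β r = r⁻¹ * z := ⟨r * β r, h2 r, by group⟩
  obtain ⟨z', hz', hαr⟩ : ∃ z' ∈ center R, α r = r⁻¹ * z' := ⟨r * α r, h1 r, by group⟩
  have h3 : α (β r) = r * (z'⁻¹ * z) := by
    rw [hβr, map_mul, map_inv, hαr, hαZ z hz, _root_.mul_inv_rev, inv_inv, mem_center_iff.1 (inv_mem hz') r |>.symm,
      mul_assoc]
  obtain ⟨y, hy, hyr⟩ : ∃ y ∈ center R, α (β r) = r * y := ⟨z'⁻¹ * z, mul_mem (inv_mem hz') hz, h3⟩
  have h4 : α (β (α (β r))) = r := by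
    have h5 : (α * β) * (α * β) = 1 := by
      calc (α * β) * (α * β) = α * (β * α) * β := by group
        _ = (α * α) * (β * β) := by rw [← hαβ]; group
        _ = 1 := by rw [hα2, hβ2, mul_one]
    exact congrArg (fun γ : MulAut R => γ r) h5
  rw [hyr, map_mul, map_mul, hyr, hβZ y hy, hαZ y hy] at h4
  have h6 : y ^ 2 = 1 := by
    rw [pow_two]
    rw [mul_assoc] at h4
    exact mul_eq_left.1 h4
  rw [hyr, eq_one_of_sq hcard hcen h6, mul_one]

/-- Automorphisms of prime order at least five. -/
theorem eq_one_of_prime (α : MulAut R) {r : ℕ} (hr : r.Prime) (h5 : 5 ≤ r) (hα : α ^ r = 1)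
    (hZ : ∀ z ∈ center R, α z = z) : α = 1 := by
  classical
  have : Finite R := Nat.finite_of_card_ne_zero (by rw [hcard]; norm_num)
  have : Fact r.Prime := ⟨hr⟩
  have hfinα : IsOfFinOrder α := isOfFinOrder_iff_pow_eq_one.2 ⟨r, hr.pos, hα⟩
  have : Finite (zpowers α) := hfinα.finite_zpowers
  have hp : IsPGroup r (zpowers α) := by
    intro g
    refine ⟨1, ?_⟩
    obtain ⟨g, k, rfl⟩ := g
    apply Subtype.ext
    show (α ^ k) ^ r ^ 1 = 1
    rw [pow_one, ← zpow_natCast, ← zpow_mul, mul_comm, zpow_mul, zpow_natCast, hα, one_zpow]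
  have h1 := hp.card_modEq_card_fixedPoints R
  have h2 : Nat.card (MulAction.fixedPoints (zpowers α) R) =
      Nat.card (MonoidHom.eqLocus α.toMonoidHom (MonoidHom.id R)) := by
    apply Nat.card_congr
    refine Equiv.subtypeEquivRight fun x => ?_
    constructor
    · intro h
      exact h ⟨α, mem_zpowers α⟩
    · intro h g
      obtain ⟨g, k, rfl⟩ := g
      show (α ^ k) x = x
      have h3 : α x = x := h
      have h4 : x ∈ MulAction.fixedBy R α := h3
      have h5 : α ∈ MulAction.stabilizer (MulAut R) x := h3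
      exact (MulAction.stabilizer (MulAut R) x).zpow_mem h5 k
  rw [h2, hcard] at h1
  rcases card_fix_cases hcard hcen α hZ with h3 | h3 | h3
  · rw [h3] at h1
    have h4 : r ∣ 24 := by
      have := (Nat.modEq_iff_dvd' (by norm_num)).1 h1.symm
      norm_num at this
      exact this
    have h6 : r ∣ 2 ^ 3 * 3 := by norm_num; exact h4
    rcases hr.dvd_mul.1 h6 with h7 | h7
    · have := Nat.le_of_dvd (by norm_num) (hr.dvd_of_dvd_pow h7); omega
    · have := Nat.le_of_dvd (by norm_num) h7; omega
  · rw [h3] at h1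
    have h4 : r ∣ 18 := by
      have := (Nat.modEq_iff_dvd' (by norm_num)).1 h1.symm
      norm_num at this
      exact this
    have h6 : r ∣ 2 * 3 ^ 2 := by norm_num; exact h4
    rcases hr.dvd_mul.1 h6 with h7 | h7
    · have := Nat.le_of_dvd (by norm_num) h7; omega
    · have := Nat.le_of_dvd (by norm_num) (hr.dvd_of_dvd_pow h7); omega
  · exact h3

end

end Cfsg.Agent.H907.Mx
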