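import Mathlib
import Cfsg.Agent.H907.MxSymp
import Cfsg.Agent.H907.MxBase

/-!
Elements normalising an absolutely irreducible group of order 27 in `GL_3(F)`.
-/

set_option autoImplicit false
set_option linter.unusedSectionVars false

namespace Cfsg.Agent.H907.Mx

open Cfsg Cfsg.Geo Matrix Cfsg.Agent.H907
open scoped MatrixGroups

section

variable {F : Type*} [Field F] {R : Subgroup (GL (Fin 3) F)}
  (hirr : ActsAbsolutelyIrreducibly (matrixSet R))
include hirr

theorem scalar_of_comm {g : GL (Fin 3) F} (h : ∀ r ∈ R, g * r = r * g) :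
    ∃ c : F, (g : Matrix (Fin 3) (Fin 3) F) = c • (1 : Matrix (Fin 3) (Fin 3) F) := by
  apply hirr.2
  rintro _ ⟨r, hr, rfl⟩
  have := congrArg (fun z : GL (Fin 3) F => (z : Matrix (Fin 3) (Fin 3) F)) (h r hr)
  simpa using this

omit hirr in
theorem comm_of_scalar {g : GL (Fin 3) F} (h : ∃ c : F, (g : Matrix (Fin 3) (Fin 3) F) = c • (1 : Matrix (Fin 3) (Fin 3) F))
    (x : GL (Fin 3) F) : g * x = x * g := by
  obtain ⟨c, hc⟩ := h
  apply Units.ext
  rw [Units.val_mul, Units.val_mul, hc]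
  simp

/-- conjugation -/
noncomputable def cj (R : Subgroup (GL (Fin 3) F)) : ↥(subgroupNormalizer R) →* MulAut R where
  toFun g :=
    { toFun := fun r => ⟨g * r * (g : GL (Fin 3) F)⁻¹, (Subgroup.mem_normalizer_iff.1 g.2 r).1 r.2⟩
      invFun := fun r => ⟨(g : GL (Fin 3) F)⁻¹ * r * g, by
        have := (Subgroup.mem_normalizer_iff.1 ((subgroupNormalizer R).inv_mem g.2) r).1 r.2
        simpa using this⟩
      left_inv := fun r => by apply Subtype.ext; simp [mul_assoc]
      right_inv := fun r => by apply Subtype.ext; simp [mul_assoc]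
      map_mul' := fun r s => by apply Subtype.ext; simp [mul_assoc] }
  map_one' := by
    apply MulEquiv.ext
    intro r
    apply Subtype.ext
    show (1 : GL (Fin 3) F) * r * 1⁻¹ = r
    simp
  map_mul' g h := by
    apply MulEquiv.ext
    intro r
    apply Subtype.ext
    show ((g * h : GL (Fin 3) F)) * (r : GL (Fin 3) F) * ((g * h : GL (Fin 3) F))⁻¹ =
      g * (h * r * (h : GL (Fin 3) F)⁻¹) * (g : GL (Fin 3) F)⁻¹
    simp [mul_assoc]

omit hirr in
theorem cj_apply (g : ↥(subgroupNormalizer R)) (r : R) :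
    ((cj R g r : R) : GL (Fin 3) F) = g * r * (g : GL (Fin 3) F)⁻¹ := rfl

theorem scalar_of_cj {g : ↥(subgroupNormalizer R)} (h : cj R g = 1) :
    ∃ c : F, ((g : GL (Fin 3) F) : Matrix (Fin 3) (Fin 3) F) = c • (1 : Matrix (Fin 3) (Fin 3) F) := by
  apply scalar_of_comm hirr
  intro r hr
  have h1 := congrArg (fun γ : MulAut R => ((γ ⟨r, hr⟩ : R) : GL (Fin 3) F)) h
  have h2 : (g : GL (Fin 3) F) * r * (g : GL (Fin 3) F)⁻¹ = r := h1
  exact mul_inv_eq_iff_eq_mul.1 h2

theorem cj_center (g : ↥(subgroupNormalizer R)) :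
    ∀ z ∈ Subgroup.center R, cj R g z = z := by
  intro z hz
  apply Subtype.ext
  have h1 := scalar_of_comm hirr (g := z) (fun r hr => by
    have := Subgroup.mem_center_iff.1 hz ⟨r, hr⟩
    exact (congrArg Subtype.val this).symm)
  have h2 := comm_of_scalar h1 g
  rw [cj_apply, ← h2, mul_inv_cancel_right]

variable (hcard : Nat.card R = 27) (hcen : Nat.card (Subgroup.center R) = 3)
include hcard hcen

/-- **J7** for a Klein four-group. -/
theorem symp_no_klein {a b : GL (Fin 3) F} (ha : a ∈ subgroupNormalizer R) (hb : b ∈ subgroupNormalizer R)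
    (ha2 : a * a = 1) (hb2 : b * b = 1) (hab : a * b = b * a)
    (hna : ¬ ∃ c : F, (a : Matrix (Fin 3) (Fin 3) F) = c • (1 : Matrix (Fin 3) (Fin 3) F))
    (hnb : ¬ ∃ c : F, (b : Matrix (Fin 3) (Fin 3) F) = c • (1 : Matrix (Fin 3) (Fin 3) F))
    (hnab : ¬ ∃ c : F, ((a * b : GL (Fin 3) F) : Matrix (Fin 3) (Fin 3) F) = c • (1 : Matrix (Fin 3) (Fin 3) F)) :
    False := by
  apply hnab
  have key := scalar_of_cj hirr (g := ⟨a, ha⟩ * ⟨b, hb⟩)
  apply key
  rw [map_mul]
  refine no_klein hcard hcen _ _ ?_ ?_ ?_ (cj_center hirr _) (cj_center hirr _) ?_ ?_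
  · rw [← map_mul, show (⟨a, ha⟩ * ⟨a, ha⟩ : ↥(subgroupNormalizer R)) = 1 from Subtype.ext ha2, map_one]
  · rw [← map_mul, show (⟨b, hb⟩ * ⟨b, hb⟩ : ↥(subgroupNormalizer R)) = 1 from Subtype.ext hb2, map_one]
  · rw [← map_mul, ← map_mul]
    congr 1
    exact Subtype.ext hab
  · exact fun h => hna (scalar_of_cj hirr h)
  · exact fun h => hnb (scalar_of_cj hirr h)

/-- **J7** for elements of prime order at least five. -/
theorem symp_prime {g : GL (Fin 3) F} (hg : g ∈ subgroupNormalizer R) {r : ℕ} (hr : r.Prime) (h5 : 5 ≤ r)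
    (hgr : g ^ r = 1) :
    ∃ c : F, (g : Matrix (Fin 3) (Fin 3) F) = c • (1 : Matrix (Fin 3) (Fin 3) F) := by
  have key := scalar_of_cj hirr (g := ⟨g, hg⟩)
  apply key
  apply eq_one_of_prime hcard hcen _ hr h5 ?_ (cj_center hirr _)
  rw [← map_pow, show (⟨g, hg⟩ ^ r : ↥(subgroupNormalizer R)) = 1 from Subtype.ext hgr, map_one]

end

end Cfsg.Agent.H907.Mx
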