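import Mathlib
import Cfsg.Agent.H907.SU3Mono

set_option autoImplicit false
set_option maxRecDepth 100000
set_option linter.unusedSectionVars false

/-!
The subgroup `3.M_10` of `SU_3(5)` as stabiliser of a set of 36 lines, and the extraspecial group of order 27.
-/

namespace Cfsg.Agent.H907.Mdl.SU35T

open Cfsg Cfsg.Geo Matrix Cfsg.Agent.H907 Cfsg.Agent.H918 Cfsg.Agent.H907.SU3 Cfsg.Agent.LieClassical.HermBasic
open scoped MatrixGroups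

def S36 : List V := [((1,0),(0,1),(1,2)),
  ((1,0),(0,1),(2,1)),
  ((1,0),(0,1),(3,4)),
  ((1,0),(0,1),(4,1)),
  ((1,0),(1,0),(1,4)),
  ((1,0),(1,0),(3,4)),
  ((1,0),(1,0),(4,1)),
  ((1,0),(1,0),(4,3)),
  ((1,0),(1,2),(0,1)),
  ((1,0),(1,2),(4,4)),
  ((1,0),(1,3),(1,3)),
  ((1,0),(1,3),(2,3)),
  ((1,0),(1,4),(1,0)),
  ((1,0),(1,4),(4,4)),
  ((1,0),(2,1),(0,1)),
  ((1,0),(2,1),(4,4)),
  ((1,0),(2,3),(1,3)),
  ((1,0),(2,3),(2,4)),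
  ((1,0),(2,4),(2,3)),
  ((1,0),(2,4),(2,4)),
  ((1,0),(3,1),(3,2)),
  ((1,0),(3,1),(4,2)),
  ((1,0),(3,2),(3,1)),
  ((1,0),(3,2),(3,2)),
  ((1,0),(3,4),(0,1)),
  ((1,0),(3,4),(1,0)),
  ((1,0),(4,1),(0,1)),
  ((1,0),(4,1),(1,0)),
  ((1,0),(4,2),(3,1)),
  ((1,0),(4,2),(4,2)),
  ((1,0),(4,3),(1,0)),
  ((1,0),(4,3),(4,4)),
  ((1,0),(4,4),(1,2)),
  ((1,0),(4,4),(1,4)),
  ((1,0),(4,4),(2,1)),
  ((1,0),(4,4),(4,3))]
def EL : List M := [(((1,0),(0,0),(0,0)), ((0,0),(1,0),(0,0)), ((0,0),(0,0),(1,0))),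
  (((0,0),(0,0),(1,0)), ((1,0),(0,0),(0,0)), ((0,0),(1,0),(0,0))),
  (((0,0),(1,0),(0,0)), ((0,0),(0,0),(1,0)), ((1,0),(0,0),(0,0))),
  (((1,0),(0,0),(0,0)), ((0,0),(4,4),(0,0)), ((0,0),(0,0),(0,1))),
  (((0,0),(0,0),(1,0)), ((4,4),(0,0),(0,0)), ((0,0),(0,1),(0,0))),
  (((0,0),(1,0),(0,0)), ((0,0),(0,0),(4,4)), ((0,1),(0,0),(0,0))),
  (((1,0),(0,0),(0,0)), ((0,0),(0,1),(0,0)), ((0,0),(0,0),(4,4))),
  (((0,0),(0,0),(1,0)), ((0,1),(0,0),(0,0)), ((0,0),(4,4),(0,0))),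
  (((0,0),(1,0),(0,0)), ((0,0),(0,0),(0,1)), ((4,4),(0,0),(0,0))),
  (((0,1),(0,0),(0,0)), ((0,0),(0,1),(0,0)), ((0,0),(0,0),(0,1))),
  (((0,0),(0,0),(0,1)), ((0,1),(0,0),(0,0)), ((0,0),(0,1),(0,0))),
  (((0,0),(0,1),(0,0)), ((0,0),(0,0),(0,1)), ((0,1),(0,0),(0,0))),
  (((0,1),(0,0),(0,0)), ((0,0),(1,0),(0,0)), ((0,0),(0,0),(4,4))),
  (((0,0),(0,0),(0,1)), ((1,0),(0,0),(0,0)), ((0,0),(4,4),(0,0))),
  (((0,0),(0,1),(0,0)), ((0,0),(0,0),(1,0)), ((4,4),(0,0),(0,0))),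
  (((0,1),(0,0),(0,0)), ((0,0),(4,4),(0,0)), ((0,0),(0,0),(1,0))),
  (((0,0),(0,0),(0,1)), ((4,4),(0,0),(0,0)), ((0,0),(1,0),(0,0))),
  (((0,0),(0,1),(0,0)), ((0,0),(0,0),(4,4)), ((1,0),(0,0),(0,0))),
  (((4,4),(0,0),(0,0)), ((0,0),(4,4),(0,0)), ((0,0),(0,0),(4,4))),
  (((0,0),(0,0),(4,4)), ((4,4),(0,0),(0,0)), ((0,0),(4,4),(0,0))),
  (((0,0),(4,4),(0,0)), ((0,0),(0,0),(4,4)), ((4,4),(0,0),(0,0))),
  (((4,4),(0,0),(0,0)), ((0,0),(0,1),(0,0)), ((0,0),(0,0),(1,0))),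
  (((0,0),(0,0),(4,4)), ((0,1),(0,0),(0,0)), ((0,0),(1,0),(0,0))),
  (((0,0),(4,4),(0,0)), ((0,0),(0,0),(0,1)), ((1,0),(0,0),(0,0))),
  (((4,4),(0,0),(0,0)), ((0,0),(1,0),(0,0)), ((0,0),(0,0),(0,1))),
  (((0,0),(0,0),(4,4)), ((1,0),(0,0),(0,0)), ((0,0),(0,1),(0,0))),
  (((0,0),(4,4),(0,0)), ((0,0),(0,0),(1,0)), ((0,1),(0,0),(0,0)))]
def NL : List M := [(((3,1),(3,1),(3,1)), ((3,1),(4,2),(3,2)), ((3,1),(3,2),(4,2))),
  (((1,3),(1,3),(1,3)), ((1,3),(2,4),(2,3)), ((1,3),(2,3),(2,4))),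
  (((1,0),(0,0),(0,0)), ((0,0),(1,0),(0,0)), ((0,0),(0,0),(1,0))),
  (((3,1),(3,1),(4,2)), ((3,2),(3,1),(3,2)), ((3,1),(3,2),(3,2))),
  (((1,3),(1,3),(2,4)), ((1,3),(2,4),(1,3)), ((2,3),(2,4),(2,4))),
  (((4,0),(0,0),(0,0)), ((0,0),(0,0),(4,0)), ((0,0),(4,0),(0,0))),
  (((3,1),(3,1),(3,2)), ((4,2),(3,2),(3,2)), ((3,1),(3,2),(3,1))),
  (((1,3),(1,3),(2,3)), ((1,3),(2,4),(2,4)), ((2,4),(1,3),(2,4))),
  (((3,1),(3,1),(3,1)), ((4,2),(3,2),(3,1)), ((3,2),(4,2),(3,1))),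
  (((1,3),(1,3),(1,3)), ((2,4),(2,3),(1,3)), ((2,3),(2,4),(1,3))),
  (((0,0),(0,0),(1,0)), ((1,0),(0,0),(0,0)), ((0,0),(1,0),(0,0))),
  (((3,1),(3,1),(4,2)), ((3,1),(4,2),(3,1)), ((3,2),(4,2),(4,2))),
  (((1,3),(1,3),(2,4)), ((2,4),(2,3),(2,4)), ((2,4),(1,3),(1,3))),
  (((0,0),(0,0),(4,0)), ((0,0),(4,0),(0,0)), ((4,0),(0,0),(0,0))),
  (((3,1),(3,1),(3,2)), ((3,2),(3,1),(3,1)), ((3,2),(4,2),(3,2))),
  (((1,3),(1,3),(2,3)), ((2,4),(2,3),(2,3)), ((1,3),(2,3),(1,3))),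
  (((3,1),(3,1),(3,1)), ((3,2),(3,1),(4,2)), ((4,2),(3,1),(3,2))),
  (((1,3),(1,3),(1,3)), ((2,3),(1,3),(2,4)), ((2,4),(1,3),(2,3))),
  (((0,0),(1,0),(0,0)), ((0,0),(0,0),(1,0)), ((1,0),(0,0),(0,0))),
  (((3,1),(3,1),(4,2)), ((4,2),(3,2),(4,2)), ((4,2),(3,1),(3,1))),
  (((1,3),(1,3),(2,4)), ((2,3),(1,3),(2,3)), ((1,3),(2,3),(2,3))),
  (((0,0),(4,0),(0,0)), ((4,0),(0,0),(0,0)), ((0,0),(0,0),(4,0))),
  (((3,1),(3,1),(3,2)), ((3,1),(4,2),(4,2)), ((4,2),(3,1),(4,2))),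
  (((1,3),(1,3),(2,3)), ((2,3),(1,3),(1,3)), ((2,3),(2,4),(2,3)))]
def mA : M := (((1,0),(0,0),(0,0)), ((0,0),(4,4),(0,0)), ((0,0),(0,0),(0,1)))
def mB : M := (((0,0),(0,0),(1,0)), ((1,0),(0,0),(0,0)), ((0,0),(1,0),(0,0)))
def mg : M := (((4,0),(0,0),(0,0)), ((0,0),(4,0),(0,0)), ((0,0),(0,0),(1,0)))
def mx : M := (((0,0),(1,4),(1,4)), ((2,1),(2,0),(3,0)), ((2,1),(3,0),(2,0)))
def v₀ : V := ((1,0),(0,1),(1,2))

theorem okS36 : okS c5 S36 = true := by decide +kernel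
theorem chk_mA : chk c5 S36 mA = true := by decide +kernel
theorem chk_mB : chk c5 S36 mB = true := by decide +kernel
theorem chk_mx : chk c5 S36 mx = true := by decide +kernel
theorem chk_NL : (NL.all (chk c5 S36)) = true := by decide +kernel
theorem isSU_NL : (NL.all (isSU c5)) = true := by decide +kernel
theorem isSU_EL : (EL.all (isSU c5)) = true := by decide +kernel

theorem EL_one : (EL.any fun m => meq I3 m) = true := by decide +kernel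
theorem EL_mul : (EL.all fun a => EL.all fun b => (fun c => EL.any fun m => meq c m) (mm c5 a b)) = true := by
  decide +kernel
theorem EL_inv : (EL.all fun a => EL.any fun m => meq (star c5 a) m) = true := by decide +kernel

/-- pairwise distinct under the semantics -/
def distinct : List M → Bool
  | [] => true
  | a :: l => l.all (fun b => mne c5 a b) && distinct l

theorem EL_distinct : distinct EL = true := by decide +kernel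

/-- each member of `EL` of trace zero is a conjugate of `mA` under `NL` -/
theorem EL_conj : (EL.all fun m => !(kz (mtrace c5 m)) || NL.any fun n => meq (mm c5 n mA) (mm c5 m n)) = true := by
  decide +kernel

theorem NL_norm : (NL.all fun n => EL.all fun e =>
    (fun c => EL.any fun m => meq c m) (mm c5 (mm c5 (star c5 n) e) n)) = true := by decide +kernel

def cubeEntry (x : K) : Bool := kz x || keq (kpow c5 x 3) (1, 0)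

/-- all entries of members of `EL` are zero or cube roots of unity -/
theorem EL_cube : (EL.all fun m => cubeEntry m.1.1 && cubeEntry m.1.2.1 && cubeEntry m.1.2.2 &&
    cubeEntry m.2.1.1 && cubeEntry m.2.1.2.1 && cubeEntry m.2.1.2.2 &&
    cubeEntry m.2.2.1 && cubeEntry m.2.2.2.1 && cubeEntry m.2.2.2.2) = true := by decide +kernel

/-- `mx` does not normalise the group `EL` -/
theorem mx_not : (EL.all fun m => mne c5 (mm c5 mx mA) (mm c5 m mx)) = true := by decide +kernel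

end Cfsg.Agent.H907.Mdl.SU35T
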