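import Mathlib
import Cfsg.Agent.H907.SU3TenData

set_option autoImplicit false
set_option linter.unusedSectionVars false

/-!
The normaliser of an extraspecial group of order 27 is not maximal in `SU_3(5)`.
-/

namespace Cfsg.Agent.H907.Mdl.SU35T

open Cfsg Cfsg.Geo Matrix Cfsg.Agent.H907 Cfsg.Agent.H918 Cfsg.Agent.H907.SU3 Cfsg.Agent.LieClassical.HermBasic
open scoped MatrixGroups

section R0

variable {F : Type*} [Field F] [Fintype F] {θ : F} (hg : Good c5 θ) (hF : Fintype.card F = 5 ^ 2)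

/-- the explicit extraspecial group -/
def R0 (hg : Good c5 θ) (_hF : Fintype.card F = 5 ^ 2) : Subgroup (GL (Fin 3) F) where
  carrier := {g | ∃ m ∈ EL, (g : Matrix (Fin 3) (Fin 3) F) = toM θ m}
  mul_mem' := by
    rintro a b ⟨m, hm, ha⟩ ⟨n, hn, hb⟩
    have h1 := EL_mul
    simp only [List.all_eq_true, List.any_eq_true] at h1
    obtain ⟨k, hk, hmk⟩ := h1 m hm n hn
    exact ⟨k, hk, by rw [Units.val_mul, ha, hb, ← toM_mm hg, toM_congr hmk]⟩
  one_mem' := by
    have h1 := EL_one
    simp only [List.any_eq_true] at h1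
    obtain ⟨k, hk, hmk⟩ := h1
    exact ⟨k, hk, by rw [Units.val_one, ← toM_I3 hg, toM_congr hmk]⟩
  inv_mem' := by
    rintro a ⟨m, hm, ha⟩
    have h1 := EL_inv
    simp only [List.all_eq_true, List.any_eq_true] at h1
    obtain ⟨k, hk, hmk⟩ := h1 m hm
    refine ⟨k, hk, ?_⟩
    have h2 := isSU_EL
    rw [List.all_eq_true] at h2
    have h3 := h2 m hm
    simp only [isSU, Bool.and_eq_true] at h3
    have h4 : mm c5 (star c5 m) m = I3 := meq_eq (by simpa [meq] using h3.1)
    have h5 : toM θ k * (a : Matrix (Fin 3) (Fin 3) F) = 1 := by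
      rw [ha, ← toM_congr hmk, ← toM_mm hg, h4, toM_I3 hg]
    calc ((a⁻¹ : GL (Fin 3) F) : Matrix (Fin 3) (Fin 3) F) =
        (toM θ k * (a : Matrix (Fin 3) (Fin 3) F)) * ((a⁻¹ : GL (Fin 3) F) : Matrix (Fin 3) (Fin 3) F) := by
          rw [h5, one_mul]
      _ = toM θ k := by rw [mul_assoc, ← Units.val_mul, mul_inv_cancel, Units.val_one, mul_one]

theorem mem_R0 {g : GL (Fin 3) F} : g ∈ R0 hg hF ↔ ∃ m ∈ EL, (g : Matrix (Fin 3) (Fin 3) F) = toM θ m := Iff.rfl

theorem R0_le : R0 hg hF ≤ SUg 3 F 5 := by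
  rintro g ⟨m, hm, hgm⟩
  have h2 := isSU_EL
  rw [List.all_eq_true] at h2
  obtain ⟨h, hh, hhm⟩ := exists_SU hg hF (h2 m hm)
  have : g = h := Units.ext (by rw [hgm, hhm])
  rw [this]; exact hh

omit [Fintype F] in
theorem distinct_nodup (hg : Good c5 θ) {l : List M} (h : distinct l = true) : (l.map (toM θ)).Nodup := by
  induction l with
  | nil => exact List.nodup_nil
  | cons a l ih =>
    simp only [distinct, Bool.and_eq_true, List.all_eq_true] at h
    rw [List.map_cons, List.nodup_cons]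
    refine ⟨?_, ih h.2⟩
    intro hmem
    rw [List.mem_map] at hmem
    obtain ⟨b, hb, hab⟩ := hmem
    exact mne_ne hg (h.1 b hb) hab.symm

theorem card_R0 : Nat.card (R0 hg hF) = 27 := by
  classical
  have h1 := distinct_nodup hg EL_distinct
  have h2 : Nat.card (R0 hg hF) = ((EL.map (toM θ)).toFinset).card := by
    let f : R0 hg hF → {x // x ∈ (EL.map (toM θ)).toFinset} := fun g =>
      ⟨((g : GL (Fin 3) F) : Matrix (Fin 3) (Fin 3) F), by
        obtain ⟨m, hm, hgm⟩ := g.2
        rw [List.mem_toFinset, List.mem_map]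
        exact ⟨m, hm, hgm.symm⟩⟩
    have hf : Function.Bijective f := by
      constructor
      · intro a b hab
        exact Subtype.ext (Units.ext (congrArg Subtype.val hab))
      · rintro ⟨x, hx⟩
        rw [List.mem_toFinset, List.mem_map] at hx
        obtain ⟨m, hm, rfl⟩ := hx
        have h3 := isSU_EL
        rw [List.all_eq_true] at h3
        obtain ⟨h, hh, hhm⟩ := exists_SU hg hF (h3 m hm)
        exact ⟨⟨h, m, hm, hhm⟩, Subtype.ext hhm⟩
    rw [Nat.card_congr (Equiv.ofBijective f hf), Nat.card_eq_fintype_card, Fintype.card_coe]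
  rw [h2, List.toFinset_card_of_nodup h1, List.length_map]
  decide

/-- an element of `SU_3(5)` normalising the explicit group lies in the stabiliser of the 36 lines -/
theorem mem_of_normalises {h : GL (Fin 3) F} (hS : h ∈ SUg 3 F 5)
    (hn : ∀ r ∈ R0 hg hF, h * r * h⁻¹ ∈ R0 hg hF) : h ∈ stab (lineSet θ S36) := by
  obtain ⟨A, hAS, hA⟩ := exists_SU hg hF (m := mA) (by decide +kernel)
  obtain ⟨B, hBS, hB⟩ := exists_SU hg hF (m := mB) (by decide +kernel)
  have hAR : A ∈ R0 hg hF := ⟨mA, by decide +kernel, hA⟩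
  have hBR : B ∈ R0 hg hF := ⟨mB, by decide +kernel, hB⟩
  have hAL : A ∈ stab (lineSet θ S36) := mem_stab_of_chk hg okS36 chk_mA hA
  obtain ⟨m, hm, hAm⟩ := hn A hAR
  -- the trace of `m` vanishes
  have ht : kz (mtrace c5 m) = true := by
    have h0 : ev θ (mtrace c5 m) = 0 := by
      rw [ev_mtrace hg, ← hAm, Units.val_mul, Units.val_mul]
      rw [Matrix.trace_units_conj h (A : Matrix (Fin 3) (Fin 3) F), hA, ← ev_mtrace hg]
      have : mtrace c5 mA = (0, 0) := by decide
      rw [this, ev_zero hg]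
    exact ev_eq_zero hg (kred_kadd hg _ _) h0
  have h1 := EL_conj
  simp only [List.all_eq_true] at h1
  have h2 := h1 m hm
  rw [ht] at h2
  simp only [Bool.not_true, Bool.false_or, List.any_eq_true] at h2
  obtain ⟨n, hnN, hnm⟩ := h2
  have h3 := isSU_NL
  rw [List.all_eq_true] at h3
  obtain ⟨N, hNS, hN⟩ := exists_SU hg hF (h3 n hnN)
  have h4 := chk_NL
  rw [List.all_eq_true] at h4
  have hNL : N ∈ stab (lineSet θ S36) := mem_stab_of_chk hg okS36 (h4 n hnN) hN
  -- `d = N⁻¹ h` commutes with `A`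
  have h5 : N * A = h * A * h⁻¹ * N := by
    apply Units.ext
    rw [Units.val_mul, Units.val_mul (h * A * h⁻¹), hAm, hN, hA, ← toM_mm hg, ← toM_mm hg]
    exact toM_congr hnm
  obtain ⟨d, hd⟩ : ∃ d, d = N⁻¹ * h := ⟨_, rfl⟩
  have hdA : d * A = A * d := by
    rw [hd]
    have h6 : h * A = N * A * N⁻¹ * h := by rw [h5]; group
    calc N⁻¹ * h * A = N⁻¹ * (h * A) := by group
      _ = A * (N⁻¹ * h) := by rw [h6]; group
  have hdS : d ∈ SUg 3 F 5 := by
    rw [hd]; exact (SUg 3 F 5).mul_mem ((SUg 3 F 5).inv_mem hNS) hS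
  have hr := SU35.root hg
  have h3' : θ ^ 3 = 1 := by linear_combination (θ - 1) * hr
  have h5' : (5 : F) = 0 := by
    have := cast_p hg
    simp only [c5] at this
    exact_mod_cast this
  have hθ1 : θ ≠ 1 := by
    intro h0
    have := hg.indep 1 4 (by decide) (by decide) (by rw [h0]; push_cast; linear_combination h5')
    exact absurd this.1 (by decide)
  have hθ0 : θ ≠ 0 := by
    intro h0
    rw [h0] at h3'
    norm_num at h3'
  have e00 : ev θ ((0, 0) : K) = 0 := ev_zero hg
  have e10 : ev θ ((1, 0) : K) = 1 := ev_one hg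
  have e01 : ev θ ((0, 1) : K) = θ := by simp [ev]
  have e44 : ev θ ((4, 4) : K) = θ ^ 2 := by
    simp [ev]; linear_combination (1 + θ) * h5' - hr
  have hAd : (A : Matrix (Fin 3) (Fin 3) F) = Matrix.diagonal ![1, θ ^ 2, θ] := by
    rw [hA]
    ext i j
    fin_cases i <;> fin_cases j <;> simp [toM, toV, mA, e00, e10, e01, e44]
  -- `d` is diagonal
  have hdd : ∀ i j, i ≠ j → (d : Matrix (Fin 3) (Fin 3) F) i j = 0 := by
    intro i j hij
    have h6 := congrArg (fun z : GL (Fin 3) F => (z : Matrix (Fin 3) (Fin 3) F) i j) hdA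
    simp only [Units.val_mul, hAd, Matrix.mul_diagonal, Matrix.diagonal_mul] at h6
    have h7 : (![1, θ ^ 2, θ] : Fin 3 → F) j - (![1, θ ^ 2, θ] : Fin 3 → F) i ≠ 0 := by
      rw [sub_ne_zero]
      have n1 : θ ^ 2 ≠ 1 := by
        intro h0
        apply hθ1
        calc θ = θ ^ 2 * θ := by rw [h0, one_mul]
          _ = 1 := by linear_combination h3'
      have n2 : θ ^ 2 ≠ θ := by
        intro h0
        apply hθ1
        apply mul_left_cancel₀ hθ0
        linear_combination h0
      have hall : ∀ i j : Fin 3, i ≠ j → (![1, θ ^ 2, θ] : Fin 3 → F) j ≠ (![1, θ ^ 2, θ] : Fin 3 → F) i := by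
        intro i j
        fin_cases i <;> fin_cases j <;> intro h <;>
          first
            | exact absurd rfl h
            | exact hθ1
            | exact Ne.symm hθ1
            | exact n1
            | exact n1.symm
            | exact n2
            | exact n2.symm
      exact hall i j hij
    have h8 : (d : Matrix (Fin 3) (Fin 3) F) i j *
        ((![1, θ ^ 2, θ] : Fin 3 → F) j - (![1, θ ^ 2, θ] : Fin 3 → F) i) = 0 := by
      linear_combination h6
    exact (mul_eq_zero.1 h8).resolve_right h7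
  have hdiag : (d : Matrix (Fin 3) (Fin 3) F) = Matrix.diagonal (fun i => (d : Matrix (Fin 3) (Fin 3) F) i i) := by
    ext i j
    rcases eq_or_ne i j with rfl | hij
    · simp
    · rw [Matrix.diagonal_apply_ne _ hij, hdd i j hij]
  obtain ⟨δ, hδ⟩ : ∃ δ : Fin 3 → F, (d : Matrix (Fin 3) (Fin 3) F) = Matrix.diagonal δ := ⟨_, hdiag⟩
  -- `d B d⁻¹` lies in the explicit group
  have hdB : d * B * d⁻¹ ∈ R0 hg hF := by
    obtain ⟨e, he, hBe⟩ := hn B hBR
    have h7 := NL_norm
    simp only [List.all_eq_true, List.any_eq_true] at h7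
    obtain ⟨k, hk, hmk⟩ := h7 n hnN e he
    refine ⟨k, hk, ?_⟩
    have h8 : d * B * d⁻¹ = N⁻¹ * (h * B * h⁻¹) * N := by rw [hd]; group
    have h9 : ((N⁻¹ : GL (Fin 3) F) : Matrix (Fin 3) (Fin 3) F) = toM θ (star c5 n) := by
      have h10 := h3 n hnN
      simp only [isSU, Bool.and_eq_true] at h10
      have h11 : mm c5 (star c5 n) n = I3 := meq_eq (by simpa [meq] using h10.1)
      have h12 : toM θ (star c5 n) * (N : Matrix (Fin 3) (Fin 3) F) = 1 := by
        rw [hN, ← toM_mm hg, h11, toM_I3 hg]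
      calc ((N⁻¹ : GL (Fin 3) F) : Matrix (Fin 3) (Fin 3) F) =
          (toM θ (star c5 n) * (N : Matrix (Fin 3) (Fin 3) F)) * ((N⁻¹ : GL (Fin 3) F) : Matrix (Fin 3) (Fin 3) F) := by
            rw [h12, one_mul]
        _ = toM θ (star c5 n) := by rw [mul_assoc, ← Units.val_mul, mul_inv_cancel, Units.val_one, mul_one]
    rw [h8, Units.val_mul, Units.val_mul, h9, hBe, hN, ← toM_mm hg, ← toM_mm hg]
    exact toM_congr hmk
  obtain ⟨k, hk, hkm⟩ := hdB
  have hcube : ∀ i j, toM θ k i j = 0 ∨ (toM θ k i j) ^ 3 = 1 := by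
    have h7 := EL_cube
    simp only [List.all_eq_true, Bool.and_eq_true] at h7
    obtain ⟨⟨⟨⟨⟨⟨⟨⟨h00, h01⟩, h02⟩, h10⟩, h11⟩, h12⟩, h20⟩, h21⟩, h22⟩ := h7 k hk
    have h8 : ∀ x : K, cubeEntry x = true → ev θ x = 0 ∨ (ev θ x) ^ 3 = 1 := by
      intro x hx
      simp only [cubeEntry, Bool.or_eq_true] at hx
      rcases hx with hx | hx
      · left; rw [SU35.kz_eq hx, ev_zero hg]
      · right; rw [← ev_kpow hg, keq_eq hx, ev_one hg]
    intro i j
    fin_cases i <;> fin_cases j
    · exact h8 _ h00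
    · exact h8 _ h01
    · exact h8 _ h02
    · exact h8 _ h10
    · exact h8 _ h11
    · exact h8 _ h12
    · exact h8 _ h20
    · exact h8 _ h21
    · exact h8 _ h22
  have hδ0 : ∀ i, δ i ≠ 0 := by
    intro i h0
    have h7 := (mem_SUg.1 hdS).2
    rw [hδ, Matrix.det_diagonal] at h7
    rw [Finset.prod_eq_zero (Finset.mem_univ i) h0] at h7
    exact zero_ne_one h7
  have hprod : δ 0 * δ 1 * δ 2 = 1 := by
    have h7 := (mem_SUg.1 hdS).2
    rw [hδ, Matrix.det_diagonal, Fin.prod_univ_three] at h7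
    exact h7
  -- entries of `d B`
  have hent : ∀ i j, δ i * (B : Matrix (Fin 3) (Fin 3) F) i j = toM θ k i j * δ j := by
    intro i j
    have h7 : (d : Matrix (Fin 3) (Fin 3) F) * (B : Matrix (Fin 3) (Fin 3) F) =
        toM θ k * (d : Matrix (Fin 3) (Fin 3) F) := by
      rw [← hkm, ← Units.val_mul, ← Units.val_mul, inv_mul_cancel_right]
    have h8 := congrFun (congrFun h7 i) j
    rwa [hδ, Matrix.diagonal_mul, Matrix.mul_diagonal] at h8
  have hB10 : (B : Matrix (Fin 3) (Fin 3) F) 1 0 = 1 := by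
    rw [hB]; simp [toM, toV, mB, e10]
  have hB21 : (B : Matrix (Fin 3) (Fin 3) F) 2 1 = 1 := by
    rw [hB]; simp [toM, toV, mB, e10]
  have c01 : δ 1 ^ 3 = δ 0 ^ 3 := by
    have h7 := hent 1 0
    rw [hB10, mul_one] at h7
    rcases hcube 1 0 with h8 | h8
    · rw [h8, zero_mul] at h7; exact absurd h7 (hδ0 1)
    · rw [h7, mul_pow, h8, one_mul]
  have c12 : δ 2 ^ 3 = δ 1 ^ 3 := by
    have h7 := hent 2 1
    rw [hB21, mul_one] at h7
    rcases hcube 2 1 with h8 | h8
    · rw [h8, zero_mul] at h7; exact absurd h7 (hδ0 2)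
    · rw [h7, mul_pow, h8, one_mul]
  have c6 : δ 0 ^ 6 = 1 := by
    have h7 := (mem_SUg.1 hdS).1 (Pi.single 0 1) (Pi.single 0 1)
    rw [hδ] at h7
    have h8 : Matrix.diagonal δ *ᵥ (Pi.single 0 1 : Fin 3 → F) = δ 0 • Pi.single 0 1 := by
      ext i; simp [Matrix.mulVec_diagonal, Pi.single_apply]
      split_ifs with h
      · rw [h]
      · rfl
    rw [h8, herm_smul_left, herm_smul_right, herm_single_right hF] at h7
    simp only [Pi.single_eq_same, one_pow, mul_one] at h7
    rw [← h7]; ring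
  have c0 : δ 0 ^ 3 = 1 := by
    have h7 : (δ 0 * δ 1 * δ 2) ^ 3 = 1 := by rw [hprod, one_pow]
    rw [mul_pow, mul_pow, c12, c01] at h7
    linear_combination h7 - (δ 0 ^ 3) * c6
  have hroots : ∀ x : F, x ^ 3 = 1 → ∃ a : ℕ, x = θ ^ a := by
    intro x hx
    have h7 : (x - 1) * (x - θ) * (x - θ ^ 2) = 0 := by
      linear_combination hx + (-x ^ 2 + x * θ) * hr - h3'
    rcases mul_eq_zero.1 h7 with h7 | h7
    · rcases mul_eq_zero.1 h7 with h7 | h7
      · exact ⟨0, by rw [pow_zero]; exact sub_eq_zero.1 h7⟩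
      · exact ⟨1, by rw [pow_one]; exact sub_eq_zero.1 h7⟩
    · exact ⟨2, sub_eq_zero.1 h7⟩
  obtain ⟨a, ha⟩ := hroots _ c0
  obtain ⟨b, hb⟩ := hroots _ (c01.trans c0)
  have hθa : θ ^ a ≠ 0 := pow_ne_zero _ hθ0
  have hfin : d = Cfsg.Agent.H914.scaleGL (θ ^ a) hθa (A ^ (2 * b + a)) := by
    apply Units.ext
    rw [Cfsg.Agent.H914.scaleGL_val, Units.val_pow_eq_pow_val, hAd, Matrix.diagonal_pow, hδ, ← Matrix.diagonal_smul]
    congr 1
    ext i
    fin_cases i
    · simp [ha]
    · simp only [Fin.mk_one, Fin.isValue, Pi.smul_apply, Pi.pow_apply, Matrix.cons_val_one, Matrix.cons_val_zero,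
        smul_eq_mul]
      rw [hb, ← pow_mul, ← pow_add, show a + 2 * (2 * b + a) = b + 3 * (b + a) by ring, pow_add, pow_mul θ 3, h3',
        one_pow, mul_one]
    · simp only [Fin.reduceFinMk, Pi.smul_apply, Pi.pow_apply, Matrix.cons_val, smul_eq_mul]
      rw [ha, hb] at hprod
      have hne : θ ^ a * θ ^ b ≠ 0 := mul_ne_zero hθa (pow_ne_zero _ hθ0)
      apply mul_left_cancel₀ hne
      rw [hprod, ← pow_add, ← pow_add, ← pow_add, show a + b + (a + (2 * b + a)) = 3 * (a + b) by ring, pow_mul, h3',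
        one_pow]
  have hdL : d ∈ stab (lineSet θ S36) := by
    rw [hfin, SU35.scale_mem_stab]
    exact (stab _).pow_mem hAL _
  have : h = N * d := by rw [hd]; group
  rw [this]
  exact (stab _).mul_mem hNL hdL

end R0

/-- `6 det x = (tr x)³ - 3 tr x tr x² + 2 tr x³` -/
theorem six_det {F : Type*} [Field F] (x : Matrix (Fin 3) (Fin 3) F) :
    6 * x.det = x.trace ^ 3 - 3 * x.trace * (x ^ 2).trace + 2 * (x ^ 3).trace := by
  rw [Matrix.det_fin_three, pow_succ x 2, pow_two x]
  simp only [Matrix.trace, Matrix.diag, Fin.sum_univ_three, Matrix.mul_apply]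
  ring

/-- A symplectic type group of order 27 in the similarity group lies in `SU_3(q)`, `q ≡ 2 mod 3` odd. -/
theorem symp_le_SUg {F : Type*} [Field F] [Fintype F] {q : ℕ} (hF : Fintype.card F = q ^ 2) (h6 : (6 : F) ≠ 0)
    (hq' : ¬ 3 ∣ q - 1) {R : Subgroup (GL (Fin 3) F)} (hR : IsSymplecticTypeGroup 3 R)
    (hirr : ActsAbsolutelyIrreducibly (matrixSet R)) (hsim : R ≤ similarityGroup (hermForm 3 F q))
    (hcard : Nat.card R = 27) (hcen : Nat.card (Subgroup.center R) = 3) : R ≤ SUg 3 F q := by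
  have hfin : Finite R := Nat.finite_of_card_ne_zero (by rw [hcard]; norm_num)
  have hexp : ∀ x ∈ R, x ^ 3 = 1 := by
    intro x hx
    have h1 : (⟨x, hx⟩ : R) ^ (3 * Nat.gcd 2 3) = 1 := by
      rw [← hR.exponent_eq]; exact Monoid.pow_exponent_eq_one _
    have h2 : 3 * Nat.gcd 2 3 = 3 := by decide
    rw [h2] at h1
    exact congrArg Subtype.val h1
  -- the quotient by the centre has order nine, so commutators are central
  have hquot : Nat.card (R ⧸ Subgroup.center R) = 3 ^ 2 := by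
    have h1 := Subgroup.card_eq_card_quotient_mul_card_subgroup (Subgroup.center R)
    rw [hcard, hcen] at h1
    omega
  have hcomm : ∀ x y : R, x * y * x⁻¹ * y⁻¹ ∈ Subgroup.center R := by
    intro x y
    have : Fact (Nat.Prime 3) := ⟨Nat.prime_three⟩
    have hc : ∀ a b : R ⧸ Subgroup.center R, a * b = b * a :=
      (IsPGroup.isMulCommutative_of_card_eq_prime_sq hquot).is_comm.comm
    rw [← QuotientGroup.eq_one_iff]
    simp only [QuotientGroup.mk_mul, QuotientGroup.mk_inv]
    rw [hc (x : R ⧸ Subgroup.center R) y]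
    group
  have hscal : ∀ z ∈ Subgroup.center R, ∃ c : F, ((z : GL (Fin 3) F) : Matrix (Fin 3) (Fin 3) F) = c • 1 := by
    intro z hz
    apply hirr.2
    rintro _ ⟨g, hgR, rfl⟩
    have h1 := (Subgroup.mem_center_iff.1 hz) ⟨g, hgR⟩
    have h2 := congrArg (fun w : R => ((w : GL (Fin 3) F) : Matrix (Fin 3) (Fin 3) F)) h1
    simpa using h2.symm
  intro x hx
  have hx3 : (x : Matrix (Fin 3) (Fin 3) F) ^ 3 = 1 := by
    rw [← Units.val_pow_eq_pow_val, hexp x hx, Units.val_one]
  rw [mem_SUg]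
  constructor
  · -- the multiplier
    obtain ⟨c, hc⟩ := hsim hx
    have hc1 : (c : F) = 1 := by
      obtain ⟨v, hv⟩ := exists_herm_ne_zero hF (u := (Pi.single 0 1 : Fin 3 → F)) (by
        intro h0
        have := congrFun h0 0
        simp at this)
      have hc3 : (c : F) ^ 3 = 1 := by
        have h1 := hc ((x : Matrix (Fin 3) (Fin 3) F) *ᵥ ((x : Matrix (Fin 3) (Fin 3) F) *ᵥ Pi.single 0 1))
          ((x : Matrix (Fin 3) (Fin 3) F) *ᵥ ((x : Matrix (Fin 3) (Fin 3) F) *ᵥ v))
        have h2 : ∀ w : Fin 3 → F, (x : Matrix (Fin 3) (Fin 3) F) *ᵥ ((x : Matrix (Fin 3) (Fin 3) F) *ᵥ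
            ((x : Matrix (Fin 3) (Fin 3) F) *ᵥ w)) = w := by
          intro w
          rw [Matrix.mulVec_mulVec, Matrix.mulVec_mulVec]
          have : (x : Matrix (Fin 3) (Fin 3) F) * ((x : Matrix (Fin 3) (Fin 3) F) * (x : Matrix (Fin 3) (Fin 3) F)) = 1 := by
            rw [← hx3]; simp only [pow_succ, pow_zero, one_mul, mul_assoc]
          rw [mul_assoc, this, Matrix.one_mulVec]
        rw [h2, h2, hc, hc] at h1
        have h3 : ((c : F) ^ 3 - 1) * hermForm 3 F q (Pi.single 0 1) v = 0 := by linear_combination -h1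
        exact sub_eq_zero.1 ((mul_eq_zero.1 h3).resolve_right hv)
      have hcq : (c : F) ^ q = c := by
        have h1 := hc v (Pi.single 0 1)
        rw [herm_swap hF, hc, mul_pow, ← herm_swap hF] at h1
        have hv' : hermForm 3 F q v (Pi.single 0 1) ≠ 0 := fun h => hv (herm_eq_zero_swap hF h)
        exact mul_right_cancel₀ hv' h1
      have hq := two_le hF
      have hcq1 : c ^ (q - 1) = 1 := by
        apply Units.ext
        rw [Units.val_pow_eq_pow_val, Units.val_one]
        apply mul_left_cancel₀ c.ne_zero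
        rw [mul_one, ← pow_succ', Nat.sub_add_cancel (by omega), hcq]
      have hc3' : c ^ 3 = 1 := Units.ext (by rw [Units.val_pow_eq_pow_val, hc3, Units.val_one])
      have h1 := orderOf_dvd_of_pow_eq_one hc3'
      rcases (Nat.dvd_prime Nat.prime_three).1 h1 with h | h
      · rw [orderOf_eq_one_iff.1 h, Units.val_one]
      · exact absurd (h ▸ orderOf_dvd_of_pow_eq_one hcq1) hq'
    intro u v
    rw [hc, hc1, one_mul]
  · -- the determinant
    have h6d := six_det (x : Matrix (Fin 3) (Fin 3) F)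
    have ht3 : ((x : Matrix (Fin 3) (Fin 3) F) ^ 3).trace = 3 := by
      rw [hx3]; simp
    by_cases hxc : (⟨x, hx⟩ : R) ∈ Subgroup.center R
    · obtain ⟨c, hc⟩ := hscal _ hxc
      have hc' : (x : Matrix (Fin 3) (Fin 3) F) = c • 1 := hc
      rw [hc'] at hx3 ⊢
      rw [Matrix.det_smul, Matrix.det_one, Fintype.card_fin, mul_one]
      rw [smul_pow, one_pow] at hx3
      have := congrFun (congrFun hx3 0) 0
      simpa using this
    · rw [Subgroup.mem_center_iff] at hxc
      push Not at hxc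
      obtain ⟨⟨y, hy⟩, hxy⟩ := hxc
      obtain ⟨c, hc⟩ := hscal _ (hcomm ⟨y, hy⟩ ⟨x, hx⟩)
      have hc' : ((y * x * y⁻¹ * x⁻¹ : GL (Fin 3) F) : Matrix (Fin 3) (Fin 3) F) = c • 1 := hc
      have hyx : (y : Matrix (Fin 3) (Fin 3) F) * (x : Matrix (Fin 3) (Fin 3) F) *
          ((y⁻¹ : GL (Fin 3) F) : Matrix (Fin 3) (Fin 3) F) = c • (x : Matrix (Fin 3) (Fin 3) F) := by
        have h1 : y * x * y⁻¹ = (y * x * y⁻¹ * x⁻¹) * x := by group
        rw [← Units.val_mul, ← Units.val_mul, h1, Units.val_mul, hc', Matrix.smul_mul, Matrix.one_mul]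
      have hc1 : c ≠ 1 := by
        rintro rfl
        apply hxy
        apply Subtype.ext
        apply Units.ext
        show ((y * x : GL (Fin 3) F) : Matrix (Fin 3) (Fin 3) F) = ((x * y : GL (Fin 3) F) : Matrix (Fin 3) (Fin 3) F)
        rw [one_smul] at hyx
        have h1 : y * x = (y * x * y⁻¹) * y := by group
        rw [h1, Units.val_mul, Units.val_mul, Units.val_mul, hyx, Units.val_mul]
      have hc3 : c ^ 3 = 1 := by
        have h1 : (c • (x : Matrix (Fin 3) (Fin 3) F)) ^ 3 = 1 := by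
          rw [← hyx]
          have h2 : (y * x * y⁻¹) ^ 3 = 1 := by
            have : (y * x * y⁻¹) ^ 3 = y * x ^ 3 * y⁻¹ := by
              rw [← MulAut.conj_apply, ← map_pow, MulAut.conj_apply]
            rw [this, hexp x hx, mul_one, mul_inv_cancel]
          have h3 := congrArg Units.val h2
          rw [Units.val_pow_eq_pow_val, Units.val_mul, Units.val_mul, Units.val_one] at h3
          exact h3
        rw [smul_pow, hx3] at h1
        have := congrFun (congrFun h1 0) 0
        simpa using this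
      have hc2 : c ^ 2 ≠ 1 := by
        intro h
        apply hc1
        calc c = c ^ 3 := by rw [pow_succ, h, one_mul]
          _ = 1 := hc3
      have ht1 : (x : Matrix (Fin 3) (Fin 3) F).trace = 0 := by
        have h1 := congrArg Matrix.trace hyx
        rw [Matrix.trace_units_conj y (x : Matrix (Fin 3) (Fin 3) F), Matrix.trace_smul, smul_eq_mul] at h1
        have h2 : (c - 1) * (x : Matrix (Fin 3) (Fin 3) F).trace = 0 := by linear_combination -h1
        exact (mul_eq_zero.1 h2).resolve_left (sub_ne_zero.2 hc1)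
      have ht2 : ((x : Matrix (Fin 3) (Fin 3) F) ^ 2).trace = 0 := by
        have h0 : (y : Matrix (Fin 3) (Fin 3) F) * ((x : Matrix (Fin 3) (Fin 3) F) ^ 2) *
            ((y⁻¹ : GL (Fin 3) F) : Matrix (Fin 3) (Fin 3) F) = c ^ 2 • (x : Matrix (Fin 3) (Fin 3) F) ^ 2 := by
          rw [← smul_pow, ← hyx]
          have h1 : y * x ^ 2 * y⁻¹ = (y * x * y⁻¹) ^ 2 := by
            rw [← MulAut.conj_apply, map_pow, MulAut.conj_apply]
          have h2 := congrArg Units.val h1
          rw [Units.val_pow_eq_pow_val, Units.val_mul, Units.val_mul, Units.val_mul, Units.val_mul,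
            Units.val_pow_eq_pow_val] at h2
          exact h2
        have h1 := congrArg Matrix.trace h0
        rw [Matrix.trace_units_conj y, Matrix.trace_smul, smul_eq_mul] at h1
        have h2 : (c ^ 2 - 1) * ((x : Matrix (Fin 3) (Fin 3) F) ^ 2).trace = 0 := by linear_combination -h1
        exact (mul_eq_zero.1 h2).resolve_left (sub_ne_zero.2 hc2)
      rw [ht1, ht2, ht3] at h6d
      have h7 : 6 * ((x : Matrix (Fin 3) (Fin 3) F).det - 1) = 0 := by linear_combination h6d
      exact sub_eq_zero.1 ((mul_eq_zero.1 h7).resolve_left h6)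

/-- the normaliser of an extraspecial group of order 27 is not maximal in `SU_3(5)` -/
theorem c6_excl {F : Type*} [Field F] [Fintype F] (hF : Fintype.card F = 5 ^ 2) {R : Subgroup (GL (Fin 3) F)}
    (hR : IsSymplecticTypeGroup 3 R) (hirr : ActsAbsolutelyIrreducibly (matrixSet R))
    (hsim : R ≤ similarityGroup (hermForm 3 F 5)) (hcard : Nat.card R = 27)
    (hcen : Nat.card (Subgroup.center R) = 3)
    (hH : IsMaximalIn (SUg 3 F 5) (subgroupNormalizer R ⊓ SUg 3 F 5)) : False := by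
  obtain ⟨θ, hg⟩ := exists_good5 hF
  have h5 : (5 : F) = 0 := by
    have := cast_p hg
    simp only [c5] at this
    exact_mod_cast this
  have h6 : (6 : F) ≠ 0 := by
    intro h
    have : (1 : F) = 0 := by linear_combination h - h5
    exact one_ne_zero this
  have hRS := symp_le_SUg hF h6 (by decide) hR hirr hsim hcard hcen
  have hR0S := R0_le hg hF
  have hR0c := card_R0 hg hF
  obtain ⟨s, hsS, hs⟩ := exists_conj_of_card (r := 3) (k := 3) (S := SUg 3 F 5) Nat.prime_three hRS hR0S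
    (by rw [hcard]; norm_num) (by rw [hR0c]; norm_num) (by rw [card_SUg hF]; norm_num)
  have hs' : ∀ b ∈ R0 hg hF, s⁻¹ * b * s ∈ R := by
    have hfin : Finite R := Nat.finite_of_card_ne_zero (by rw [hcard]; norm_num)
    have hfin0 : Finite (R0 hg hF) := Nat.finite_of_card_ne_zero (by rw [hR0c]; norm_num)
    have h1 : R.map (MulAut.conj s).toMonoidHom ≤ R0 hg hF := by
      rintro _ ⟨a, ha, rfl⟩
      exact hs a ha
    have h2 : R.map (MulAut.conj s).toMonoidHom = R0 hg hF := by
      apply Subgroup.eq_of_le_of_card_ge h1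
      rw [hR0c, ← hcard]
      exact (Nat.card_congr (R.equivMapOfInjective _ (MulAut.conj s).injective).toEquiv).le
    intro b hb
    rw [← h2] at hb
    obtain ⟨a, ha, rfl⟩ := hb
    have : s⁻¹ * (MulAut.conj s).toMonoidHom a * s = a := by
      simp [MulAut.conj_apply, mul_assoc]
    rw [this]; exact ha
  obtain ⟨X, hXS, hX⟩ := exists_SU hg hF (m := mx) (by decide +kernel)
  have hXL : X ∈ stab (lineSet θ S36) := mem_stab_of_chk hg okS36 chk_mx hX
  obtain ⟨G, hGS, hG⟩ := exists_SU hg hF (m := mg) (by decide +kernel)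
  have hGL : G ∉ stab (lineSet θ S36) :=
    not_mem_stab_of_chk hg (m := mg) (v := v₀) (by decide +kernel) (by decide +kernel) hG
  refine excl hF hH (P := s⁻¹) (inv_mem hsS.1) (L := stab (lineSet θ S36)) ?_ ⟨G, hGS, hGL⟩ ⟨X, hXS, hXL, ?_⟩
  · rintro h ⟨hhN, hhS⟩
    rw [inv_inv]
    apply mem_of_normalises hg hF ((SUg 3 F 5).mul_mem ((SUg 3 F 5).mul_mem hsS hhS) ((SUg 3 F 5).inv_mem hsS))
    intro r hr
    have h1 := hs' r hr
    have h2 : h * (s⁻¹ * r * s) * h⁻¹ ∈ R := by
      have h3 := (Subgroup.mem_normalizer_iff.1 hhN (s⁻¹ * r * s)).1 h1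
      exact h3
    have h4 := hs _ h2
    have h5 : s * h * s⁻¹ * r * (s * h * s⁻¹)⁻¹ = s * (h * (s⁻¹ * r * s) * h⁻¹) * s⁻¹ := by group
    rw [h5]; exact h4
  · rintro ⟨hN, -⟩
    rw [inv_inv] at hN
    obtain ⟨A, hAS, hA⟩ := exists_SU hg hF (m := mA) (by decide +kernel)
    have hAR : A ∈ R0 hg hF := ⟨mA, by decide +kernel, hA⟩
    have h1 := hs' A hAR
    have h2 := (Subgroup.mem_normalizer_iff.1 hN (s⁻¹ * A * s)).1 h1
    have h3 := hs _ h2
    have h4 : s * (s⁻¹ * X * s * (s⁻¹ * A * s) * (s⁻¹ * X * s)⁻¹) * s⁻¹ = X * A * X⁻¹ := by group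
    rw [h4] at h3
    obtain ⟨m, hm, hXm⟩ := h3
    have h5 := mx_not
    rw [List.all_eq_true] at h5
    apply mne_ne hg (h5 m hm)
    rw [toM_mm hg, toM_mm hg, ← hX, ← hA, ← hXm, ← Units.val_mul, ← Units.val_mul, inv_mul_cancel_right]

end Cfsg.Agent.H907.Mdl.SU35T
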