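import Mathlib
import Cfsg.Agent.H907.ModelTools

set_option autoImplicit false
set_option maxRecDepth 100000

/-!
The subgroup `L_2(7)` of `SU_3(3)` as stabiliser of a set of 21 lines; the normaliser of a field subalgebra of
degree three is not maximal in `SU_3(3)`.
-/

namespace Cfsg.Agent.H907.Mdl.SU33

open Cfsg Cfsg.Geo Matrix Cfsg.Agent.H907 Cfsg.Agent.H918
open scoped MatrixGroups

def S21 : List V := [((0,0),(1,0),(1,0)),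
  ((1,0),(0,0),(0,2)),
  ((1,0),(0,1),(0,0)),
  ((1,0),(0,2),(1,1)),
  ((1,0),(0,2),(1,2)),
  ((1,0),(0,2),(2,1)),
  ((1,0),(0,2),(2,2)),
  ((1,0),(1,0),(2,1)),
  ((1,0),(1,1),(0,1)),
  ((1,0),(1,1),(1,2)),
  ((1,0),(1,1),(2,2)),
  ((1,0),(1,2),(0,1)),
  ((1,0),(1,2),(2,0)),
  ((1,0),(1,2),(2,1)),
  ((1,0),(2,0),(1,1)),
  ((1,0),(2,1),(0,1)),
  ((1,0),(2,1),(1,2)),
  ((1,0),(2,1),(2,2)),
  ((1,0),(2,2),(0,1)),
  ((1,0),(2,2),(1,0)),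
  ((1,0),(2,2),(1,1))]
def mx : M := (((2,0),(0,0),(0,0)), ((0,0),(0,0),(1,0)), ((0,0),(1,0),(0,0)))
def my : M := (((0,0),(0,0),(1,0)), ((1,1),(1,1),(0,0)), ((2,1),(1,2),(0,0)))
def mb : M := (((2,0),(1,2),(0,2)), ((0,2),(2,2),(1,0)), ((2,2),(0,0),(2,1)))
def mg : M := (((2,0),(0,0),(0,0)), ((0,0),(2,0),(0,0)), ((0,0),(0,0),(1,0)))
def v₀ : V := ((0,0),(1,0),(1,0))

/-- the normaliser of a field subalgebra of degree three is not maximal in `SU_3(3)` -/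
theorem c3_excl {F : Type*} [Field F] [Fintype F] (hF : Fintype.card F = 3 ^ 2)
    {K : Subalgebra F (Matrix (Fin 3) (Fin 3) F)} (hK : IsFieldSubalgebra 3 K)
    (hadj : IsAdjointClosedFor (hermForm 3 F 3) K)
    (hH : IsMaximalIn (SUg 3 F 3) (subalgebraNormalizer K ⊓ SUg 3 F 3)) : False := by
  obtain ⟨θ, hg⟩ := exists_good3 hF
  refine c3_excl_model hg (c := c3) hF (by decide) (by decide) (by decide) (S := S21) (x := mx) (y := my) (b := mb)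
    (z := my) (g₀ := mg) (v₀ := v₀) ?_ ?_ ?_ ?_ ?_ ?_ ?_ ?_ ?_ ?_ ?_ ?_ ?_ ?_ ?_ ?_ ?_ ?_ ?_ ?_ ?_ ?_ hK hadj hH
  all_goals decide +kernel

end Cfsg.Agent.H907.Mdl.SU33
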