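import Mathlib
import Cfsg.Agent.S5663
import Cfsg.Agent.H918.UWrap
import Cfsg.Agent.H907.SU3Ten
import Cfsg.Agent.H907.SU3Real
import Cfsg.Agent.H907.SU3Three

set_option autoImplicit false

/-!
The maximal subgroups of `SU_3(q)`: statement S5778.
-/

namespace Cfsg.Agent.H907.SU3

open Cfsg Cfsg.Geo Matrix Cfsg.Agent.H907 Cfsg.Agent.H918 Cfsg.Agent.LieClassical.HermBasic Cfsg.Agent.H914
  Cfsg.Agent.H907.Mdl
open scoped MatrixGroups

/-- numerical data of class 6 in dimension three -/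
theorem minimal_three {F : Type*} [Field F] [Fintype F] {q p e : ℕ} (hF : Fintype.card F = q ^ 2)
    (h : IsMinimalFieldFor 3 p e F) : p.Prime ∧ q = p ∧ p % 3 = 2 := by
  obtain ⟨hp, -, hc, h3, hd⟩ := h
  have hq := two_le hF
  have hpp := hp.two_le
  -- `p` is not divisible by three
  have he0 : e ≠ 0 := by
    rintro rfl
    rw [hF, pow_zero] at hc
    nlinarith
  have hp3 : p % 3 ≠ 0 := by
    intro h0
    have h1 : 3 ∣ p ^ e := dvd_pow (Nat.dvd_of_mod_eq_zero h0) he0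
    have h2 : 1 ≤ p ^ e := Nat.one_le_pow _ _ (by omega)
    omega
  have h31 : p % 3 = 1 ∨ p % 3 = 2 := by omega
  rcases h31 with h31 | h31
  · exfalso
    -- then `e = 1`, and `p` is a square
    have he1 : e = 1 := by
      by_contra hne
      exact hd 1 one_pos (by omega) (by rw [pow_one]; omega)
    rw [he1, pow_one, hF] at hc
    have h4 : ¬ (q ^ 2).Prime := by
      rw [pow_two]; exact Nat.not_prime_mul (by omega) (by omega)
    exact h4 (hc ▸ hp)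
  · refine ⟨hp, ?_, h31⟩
    have he2 : e = 2 := by
      rcases Nat.lt_trichotomy e 2 with h5 | h5 | h5
      · exfalso
        have he1 : e = 1 := by omega
        rw [he1, pow_one] at h3
        omega
      · exact h5
      · exfalso
        apply hd 2 two_pos h5
        obtain ⟨m, hm⟩ : ∃ m, p = 3 * m + 2 := ⟨p / 3, by omega⟩
        rw [hm]
        refine ⟨3 * m * m + 4 * m + 1, ?_⟩
        have : (3 * m + 2) ^ 2 = 3 * (3 * m * m + 4 * m + 1) + 1 := by ring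
        omega
    rw [he2, hF] at hc
    exact Nat.pow_left_injective two_ne_zero hc

theorem su3_cases {F : Type*} [Field F] [Fintype F] (q : ℕ) (hF : Fintype.card F = q ^ 2) (hq : 3 ≤ q) (H : Subgroup (Matrix.GeneralLinearGroup (Fin 3) F)) (hH : Cfsg.Geo.IsMaximalIn (Cfsg.GU 3 F q ⊓ Cfsg.Geo.specialLinear (Fin 3) F) H) :
    (∃ W : Submodule F (Fin 3 → F), W ≠ ⊥ ∧ Cfsg.Geo.IsTotallySingularFor (Cfsg.hermForm 3 F q) W ∧ H = Cfsg.Geo.subspaceStabilizer W ⊓ (Cfsg.GU 3 F q ⊓ Cfsg.Geo.specialLinear (Fin 3) F)) ∨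
    (∃ W : Submodule F (Fin 3 → F), W ≠ ⊥ ∧ Cfsg.Geo.IsNondegenerateOn (Cfsg.hermForm 3 F q) W ∧ 2 * Module.finrank F W < 3 ∧ H = Cfsg.Geo.subspaceStabilizer W ⊓ (Cfsg.GU 3 F q ⊓ Cfsg.Geo.specialLinear (Fin 3) F)) ∨
    (q ≠ 5 ∧ ∃ D : Fin 3 → Submodule F (Fin 3 → F), Cfsg.Geo.IsNondegenerateMDecomposition (Cfsg.hermForm 3 F q) 1 D ∧ H = Cfsg.Geo.decompositionStabilizer D ⊓ (Cfsg.GU 3 F q ⊓ Cfsg.Geo.specialLinear (Fin 3) F)) ∨
    (q ≠ 3 ∧ q ≠ 5 ∧ ∃ K : Subalgebra F (Matrix (Fin 3) (Fin 3) F), Cfsg.Geo.IsFieldSubalgebra 3 K ∧ Cfsg.Geo.IsAdjointClosedFor (Cfsg.hermForm 3 F q) K ∧ H = Cfsg.Geo.subalgebraNormalizer K ⊓ (Cfsg.GU 3 F q ⊓ Cfsg.Geo.specialLinear (Fin 3) F)) ∨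
    (∃ (F₀ : Subfield F) (r : ℕ) (P : Matrix.GeneralLinearGroup (Fin 3) F), r.Prime ∧ Odd r ∧ Fintype.card F = Nat.card F₀ ^ r ∧ Cfsg.Geo.IsFormRationalStructure (Cfsg.hermForm 3 F q) F₀ 1 P ∧ H = Cfsg.Geo.subfieldSubgroup F₀ P ⊓ (Cfsg.GU 3 F q ⊓ Cfsg.Geo.specialLinear (Fin 3) F)) ∨
    (Odd q ∧ 7 ≤ q ∧ ∃ (F₀ : Subfield F) (P : Matrix.GeneralLinearGroup (Fin 3) F), Fintype.card F = Nat.card F₀ ^ 2 ∧ Cfsg.Geo.IsFormRationalStructure (Cfsg.hermForm 3 F q) F₀ 1 P ∧ H = Cfsg.Geo.subfieldSubgroup F₀ P ⊓ (Cfsg.GU 3 F q ⊓ Cfsg.Geo.specialLinear (Fin 3) F)) ∨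
    (∃ (p : ℕ) (R : Subgroup (Matrix.GeneralLinearGroup (Fin 3) F)), p.Prime ∧ q = p ∧ p % 3 = 2 ∧ 11 ≤ p ∧ Cfsg.Geo.IsSymplecticTypeGroup 3 R ∧ Cfsg.Geo.ActsAbsolutelyIrreducibly (Cfsg.Geo.matrixSet R) ∧ R ≤ Cfsg.Geo.similarityGroup (Cfsg.hermForm 3 F q) ∧ Nat.card R = 27 ∧ Nat.card (Subgroup.center R) = 3 ∧ H = Cfsg.Geo.subgroupNormalizer R ⊓ (Cfsg.GU 3 F q ⊓ Cfsg.Geo.specialLinear (Fin 3) F)) ∨
    Cfsg.Geo.InUnitaryResidualClass H := by
  have h32 : ¬ (3 = 3 ∧ q = 2) := by omega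
  have hpow : ∀ k t : ℕ, 3 ≤ k → 2 ≤ t → k ^ t ≠ 3 := by
    intro k t hk ht h
    have h1 : 3 ^ 2 ≤ k ^ t := (Nat.pow_le_pow_left hk 2).trans (Nat.pow_le_pow_right (by omega) ht)
    omega
  have hcases := unitary_maximal_cases hF (n := 3) (by norm_num) h32 hH
    (fun k t e P hk ht hkt => absurd hkt (hpow k t hk ht))
    (Cfsg.Agent.S5663.result 3 q hF (by norm_num) h32 H hH.1.le (sup_scalars_ne hF (by norm_num) h32 hH))
  rcases hcases with h | h | h | h | h | h | h | h | h | h | h | h | h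
  · exact Or.inl h
  · exact Or.inr (Or.inl h)
  · obtain ⟨t, k, D, htk, ht, hD, hHD⟩ := h
    have hk : k = 1 := by
      rcases Nat.lt_trichotomy k 1 with h | h | h
      · have : k = 0 := by omega
        subst this; omega
      · exact h
      · exfalso; nlinarith
    subst hk
    have ht3 : t = 3 := by omega
    subst ht3
    refine Or.inr (Or.inr (Or.inl ⟨?_, D, hD, hHD⟩))
    rintro rfl
    rw [hHD] at hH
    exact SU35.c2_excl hF hD hH
  · obtain ⟨k, D, hk, -⟩ := h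
    omega
  · exact Or.inr (Or.inr (Or.inr (Or.inr (Or.inl h))))
  · obtain ⟨F₀, P, hodd, hc, hP, hHP⟩ := h
    by_cases h7 : 7 ≤ q
    · exact Or.inr (Or.inr (Or.inr (Or.inr (Or.inr (Or.inl ⟨hodd, h7, F₀, P, hc, hP, hHP⟩)))))
    · have h35 : q = 3 ∨ q = 5 := by
        obtain ⟨m, hm⟩ := hodd
        omega
      rcases h35 with rfl | rfl
      · obtain ⟨D, hD, hle⟩ := c5_three hF hc hP
        refine Or.inr (Or.inr (Or.inl ⟨by norm_num, D, hD, ?_⟩))
        apply eq_inf_of_maximal hH (by rw [hHP]; exact hle)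
        exact SUg_not_le_decompositionStabilizer hF (by norm_num) h32 hD.decomp
      · exfalso
        rw [hHP] at hH
        exact c5_excl_five hF hc hP hH
  · obtain ⟨F₀, P, ζ, hev, -⟩ := h
    exact absurd hev (by decide)
  · obtain ⟨r, R, p, e, k, hR, hirr, hsim, hrp, hmin, hodd, hcen, hk, hcard, h3, hHR⟩ := h
    have hr3 : r = 3 := by
      have h1 : r ∣ 3 := by rw [h3]; exact dvd_pow_self r (by omega)
      exact (Nat.prime_dvd_prime_iff_eq hR.prime Nat.prime_three).1 h1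
    subst hr3
    have hk1 : k = 1 := by
      have : (3 : ℕ) ^ 1 = 3 ^ k := by rw [pow_one]; exact h3
      exact (Nat.pow_right_injective (le_refl 2 |>.trans (by norm_num)) this).symm
    subst hk1
    rw [hcen] at hmin
    obtain ⟨hp, hqp, hp3⟩ := minimal_three hF hmin
    have hcard' : Nat.card R = 27 := by rw [hcard]; norm_num
    by_cases h11 : 11 ≤ p
    · exact Or.inr (Or.inr (Or.inr (Or.inr (Or.inr (Or.inr (Or.inl
        ⟨p, R, hp, hqp, hp3, h11, hR, hirr, hsim, hcard', hcen, hHR⟩))))))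
    · exfalso
      have hp5 : q = 5 := by
        have h8 : p = 5 ∨ p = 8 := by omega
        rcases h8 with h8 | h8
        · omega
        · rw [h8] at hp; exact absurd hp (by norm_num)
      subst hp5
      rw [hHR] at hH
      exact SU35T.c6_excl hF hR hirr hsim hcard' hcen hH
  · obtain ⟨R, p, k, -, -, -, -, -, -, -, -, h3, -⟩ := h
    exfalso
    rcases Nat.eq_zero_or_pos k with hk | hk
    · rw [hk, pow_zero] at h3; omega
    · have : 2 ∣ 3 := by rw [h3]; exact dvd_pow_self 2 (by omega)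
      omega
  · obtain ⟨r, K, hr, hodd, hr3, hK, hadj, hHK⟩ := h
    have hr3' : r = 3 := (Nat.prime_dvd_prime_iff_eq hr Nat.prime_three).1 hr3
    subst hr3'
    refine Or.inr (Or.inr (Or.inr (Or.inl ⟨?_, ?_, K, hK, hadj, hHK⟩)))
    · rintro rfl
      rw [hHK] at hH
      exact SU33.c3_excl hF hK hadj hH
    · rintro rfl
      rw [hHK] at hH
      exact SU35.c3_excl hF hK hadj hH
  · obtain ⟨n₁, n₂, -, -, -, -, h3, h1, h2, -⟩ := h
    exfalso
    nlinarith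
  · obtain ⟨k, t, -, -, -, h3, hk, ht, -⟩ := h
    exact absurd h3 (hpow k t hk ht)
  · exact Or.inr (Or.inr (Or.inr (Or.inr (Or.inr (Or.inr (Or.inr h))))))

end Cfsg.Agent.H907.SU3
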