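import Mathlib
import Cfsg.Prelude.Def_Transfer

/-!
A subgroup of `GL_3(F)`, `F` of characteristic 2, which contains an involution has a non-trivial elementary abelian
TI-subgroup `B` weakly closed in `N(B)`: the elations with a given axis, or those with a given centre.
-/

set_option autoImplicit false

universe u

namespace Cfsg.Agent.H907.Even

open Subgroup Matrix

section linalg

variable {F : Type u} [Field F]

theorem no_four {φ₁ φ₂ c c' : Fin 3 → F} (h1 : LinearIndependent F ![φ₁, φ₂]) (h2 : LinearIndependent F ![c, c'])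
    (h11 : φ₁ ⬝ᵥ c = 0) (h12 : φ₁ ⬝ᵥ c' = 0) (h21 : φ₂ ⬝ᵥ c = 0) (h22 : φ₂ ⬝ᵥ c' = 0) : False := by
  let M : Matrix (Fin 2) (Fin 3) F := Matrix.of ![φ₁, φ₂]
  have hM : M.rank = 2 := by
    have := LinearIndependent.rank_matrix (M := M) h1
    rwa [Fintype.card_fin] at this
  have hsub : Submodule.span F (Set.range ![c, c']) ≤ LinearMap.ker M.mulVecLin := by
    rw [Submodule.span_le]
    rintro _ ⟨i, rfl⟩
    rw [SetLike.mem_coe, LinearMap.mem_ker, Matrix.mulVecLin_apply]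
    funext j
    fin_cases i <;> fin_cases j
    · exact h11
    · exact h21
    · exact h12
    · exact h22
  have h3 := Submodule.finrank_mono hsub
  rw [finrank_span_eq_card h2, Fintype.card_fin] at h3
  have h4 := LinearMap.finrank_range_add_finrank_ker M.mulVecLin
  have h5 : Module.finrank F (LinearMap.range M.mulVecLin) = 2 := hM
  rw [h5, Module.finrank_fin_fun] at h4
  omega

theorem exists_rank_one {N : Matrix (Fin 3) (Fin 3) F} (hN : N * N = 0) :
    ∃ u φ : Fin 3 → F, N = vecMulVec u φ := by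
  have hle : LinearMap.range N.mulVecLin ≤ LinearMap.ker N.mulVecLin := by
    rintro _ ⟨v, rfl⟩
    rw [LinearMap.mem_ker, Matrix.mulVecLin_apply, Matrix.mulVecLin_apply, Matrix.mulVec_mulVec, hN,
      Matrix.zero_mulVec]
  have h1 := Submodule.finrank_mono hle
  have h4 := LinearMap.finrank_range_add_finrank_ker N.mulVecLin
  rw [Module.finrank_fin_fun] at h4
  have h5 : Module.finrank F (LinearMap.range N.mulVecLin) ≤ 1 := by omega
  obtain ⟨u, hu⟩ := finrank_le_one_iff.1 h5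
  choose f hf using hu
  refine ⟨u, fun j => f ⟨N.mulVecLin (Pi.single j 1), ⟨_, rfl⟩⟩, ?_⟩
  ext i j
  have h6 := congrArg (fun w : LinearMap.range N.mulVecLin => (w : Fin 3 → F) i)
    (hf ⟨N.mulVecLin (Pi.single j 1), ⟨_, rfl⟩⟩)
  simp only [SetLike.val_smul, Pi.smul_apply, smul_eq_mul, Matrix.mulVecLin_apply, Matrix.mulVec_single_one] at h6
  rw [Matrix.vecMulVec_apply, mul_comm]
  refine h6.symm.trans ?_
  congr 2
  apply Subtype.ext
  show N.col j = N.mulVecLin (Pi.single j 1)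
  rw [Matrix.mulVecLin_apply, Matrix.mulVec_single_one]

theorem vecMulVec_eq_zero {u φ : Fin 3 → F} (h : vecMulVec u φ = 0) : u = 0 ∨ φ = 0 := by
  by_contra hcon
  push Not at hcon
  obtain ⟨i, hi⟩ := Function.ne_iff.1 hcon.1
  obtain ⟨j, hj⟩ := Function.ne_iff.1 hcon.2
  have := congrFun (congrFun h i) j
  rw [Matrix.vecMulVec_apply, Matrix.zero_apply] at this
  rcases mul_eq_zero.1 this with h | h
  · exact hi h
  · exact hj h

theorem mul_self_vecMulVec (u φ u' φ' : Fin 3 → F) :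
    vecMulVec u φ * vecMulVec u' φ' = (φ ⬝ᵥ u') • vecMulVec u φ' := by
  rw [Matrix.vecMulVec_mul_vecMulVec, Matrix.vecMulVec_smul]

/-- Proportional factors. -/
theorem prop_of_vecMulVec_eq {u φ u' φ' : Fin 3 → F} (h : vecMulVec u φ = vecMulVec u' φ') (hu : u ≠ 0) (hφ : φ ≠ 0) :
    (∃ a : F, a • φ' = φ) ∧ ∃ a : F, a • u' = u := by
  obtain ⟨i, hi⟩ := Function.ne_iff.1 hu
  obtain ⟨j, hj⟩ := Function.ne_iff.1 hφ
  constructor
  · refine ⟨(u i)⁻¹ * u' i, ?_⟩
    funext k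
    have := congrFun (congrFun h i) k
    rw [Matrix.vecMulVec_apply, Matrix.vecMulVec_apply] at this
    rw [Pi.smul_apply, smul_eq_mul, mul_assoc, ← this, ← mul_assoc, inv_mul_cancel₀ hi, one_mul]
  · refine ⟨(φ j)⁻¹ * φ' j, ?_⟩
    funext k
    have := congrFun (congrFun h k) j
    rw [Matrix.vecMulVec_apply, Matrix.vecMulVec_apply] at this
    rw [Pi.smul_apply, smul_eq_mul, mul_assoc, mul_comm (φ' j), ← this, mul_comm (u k), ← mul_assoc,
      inv_mul_cancel₀ hj, one_mul]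

end linalg

section groups

variable {F : Type u} [Field F] {P : Subgroup (GL (Fin 3) F)}

/-- The matrix of an element. -/
abbrev mx (g : P) : Matrix (Fin 3) (Fin 3) F := ((g : GL (Fin 3) F) : Matrix (Fin 3) (Fin 3) F)

theorem mx_mul (g h : P) : mx (g * h) = mx g * mx h := rfl

theorem mx_inv_mul (g : P) : mx g⁻¹ * mx g = 1 := by
  rw [← mx_mul, inv_mul_cancel]; rfl

theorem mx_mul_inv (g : P) : mx g * mx g⁻¹ = 1 := by
  rw [← mx_mul, mul_inv_cancel]; rfl

theorem mx_inj {g h : P} (e : mx g = mx h) : g = h := Subtype.ext (Units.ext e)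

/-- `g = 1 + u φᵀ` with `φ(u) = 0`. -/
def El (g : P) (u φ : Fin 3 → F) : Prop := φ ⬝ᵥ u = 0 ∧ mx g = 1 + vecMulVec u φ

theorem El.conj {g : P} {u φ : Fin 3 → F} (h : El g u φ) (k : P) : El (k * g * k⁻¹) (mx k *ᵥ u) (φ ᵥ* mx k⁻¹) := by
  constructor
  · rw [← Matrix.dotProduct_mulVec, Matrix.mulVec_mulVec, mx_inv_mul, Matrix.one_mulVec, h.1]
  · rw [mx_mul, mx_mul, h.2, Matrix.mul_add, Matrix.add_mul, Matrix.mul_one, mx_mul_inv, Matrix.mul_vecMulVec,
      Matrix.vecMulVec_mul]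

theorem vecMul_ne {k : P} {φ : Fin 3 → F} (hφ : φ ≠ 0) : φ ᵥ* mx k ≠ 0 := by
  intro h
  apply hφ
  have := congrArg (fun w => w ᵥ* mx k⁻¹) h
  simp only [Matrix.vecMul_vecMul, mx_mul_inv, Matrix.vecMul_one, Matrix.zero_vecMul] at this
  exact this

theorem mulVec_ne {k : P} {u : Fin 3 → F} (hu : u ≠ 0) : mx k *ᵥ u ≠ 0 := by
  intro h
  apply hu
  have := congrArg (fun w => mx k⁻¹ *ᵥ w) h
  simp only [Matrix.mulVec_mulVec, mx_inv_mul, Matrix.one_mulVec, Matrix.mulVec_zero] at this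
  exact this

/-- The elations of `P` with axis `ker φ`. -/
def bax (P : Subgroup (GL (Fin 3) F)) (φ : Fin 3 → F) : Subgroup P where
  carrier := {g | ∃ u, El g u φ}
  one_mem' := ⟨0, by simp, by simp [mx]⟩
  mul_mem' := by
    rintro g h ⟨u, hu, eu⟩ ⟨v, hv, ev⟩
    refine ⟨u + v, by rw [dotProduct_add, hu, hv, add_zero], ?_⟩
    rw [mx_mul, eu, ev]
    simp only [Matrix.add_mul, Matrix.mul_add, Matrix.one_mul, Matrix.mul_one, mul_self_vecMulVec, hv,
      zero_smul, add_zero, Matrix.add_vecMulVec]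
    abel
  inv_mem' := by
    rintro g ⟨u, hu, eu⟩
    refine ⟨-u, by rw [dotProduct_neg, hu, neg_zero], ?_⟩
    have h1 : (1 + vecMulVec (-u) φ) * mx g = 1 := by
      rw [eu]
      simp only [Matrix.add_mul, Matrix.mul_add, Matrix.one_mul, Matrix.mul_one, mul_self_vecMulVec, hu,
        zero_smul, Matrix.neg_vecMulVec, Matrix.one_mul, add_zero, Matrix.neg_mul, neg_zero]
      abel
    calc mx g⁻¹ = ((1 + vecMulVec (-u) φ) * mx g) * mx g⁻¹ := by rw [h1, Matrix.one_mul]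
      _ = 1 + vecMulVec (-u) φ := by rw [Matrix.mul_assoc, mx_mul_inv, Matrix.mul_one]

/-- The elations of `P` with centre `c`. -/
def bce (P : Subgroup (GL (Fin 3) F)) (c : Fin 3 → F) : Subgroup P where
  carrier := {g | ∃ φ, El g c φ}
  one_mem' := ⟨0, by simp, by simp [mx]⟩
  mul_mem' := by
    rintro g h ⟨u, hu, eu⟩ ⟨v, hv, ev⟩
    refine ⟨u + v, by rw [add_dotProduct, hu, hv, add_zero], ?_⟩
    rw [mx_mul, eu, ev]
    simp only [Matrix.add_mul, Matrix.mul_add, Matrix.one_mul, Matrix.mul_one, mul_self_vecMulVec, hu,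
      zero_smul, add_zero, Matrix.vecMulVec_add]
    abel
  inv_mem' := by
    rintro g ⟨u, hu, eu⟩
    refine ⟨-u, by rw [neg_dotProduct, hu, neg_zero], ?_⟩
    have h1 : (1 + vecMulVec c (-u)) * mx g = 1 := by
      rw [eu]
      simp only [Matrix.add_mul, Matrix.mul_add, Matrix.one_mul, Matrix.mul_one, mul_self_vecMulVec, hu,
        zero_smul, Matrix.vecMulVec_neg, Matrix.one_mul, add_zero, Matrix.neg_mul, neg_zero]
      abel
    calc mx g⁻¹ = ((1 + vecMulVec c (-u)) * mx g) * mx g⁻¹ := by rw [h1, Matrix.one_mul]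
      _ = 1 + vecMulVec c (-u) := by rw [Matrix.mul_assoc, mx_mul_inv, Matrix.mul_one]

theorem mem_bax {g : P} {φ : Fin 3 → F} : g ∈ bax P φ ↔ ∃ u, El g u φ := Iff.rfl

theorem mem_bce {g : P} {c : Fin 3 → F} : g ∈ bce P c ↔ ∃ φ, El g c φ := Iff.rfl

theorem elem_bax (h2 : (2 : F) = 0) (φ : Fin 3 → F) : Cfsg.IsElementaryAbelian 2 (bax P φ) := by
  constructor
  · refine ⟨⟨?_⟩⟩
    rintro ⟨g, u, hu, eu⟩ ⟨h, v, hv, ev⟩
    apply Subtype.ext
    apply mx_inj
    show mx g * mx h = mx h * mx g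
    rw [eu, ev]
    simp only [Matrix.add_mul, Matrix.mul_add, Matrix.one_mul, Matrix.mul_one, mul_self_vecMulVec, hv, hu,
      zero_smul, add_zero]
    abel
  · rintro g ⟨u, hu, eu⟩
    apply mx_inj
    rw [pow_two, mx_mul, eu]
    simp only [Matrix.add_mul, Matrix.mul_add, Matrix.one_mul, Matrix.mul_one, mul_self_vecMulVec, hu,
      zero_smul, add_zero]
    have : vecMulVec u φ + vecMulVec u φ = 0 := by
      rw [← two_smul F, h2, zero_smul]
    rw [add_assoc, this, add_zero]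
    rfl

theorem elem_bce (h2 : (2 : F) = 0) (c : Fin 3 → F) : Cfsg.IsElementaryAbelian 2 (bce P c) := by
  constructor
  · refine ⟨⟨?_⟩⟩
    rintro ⟨g, u, hu, eu⟩ ⟨h, v, hv, ev⟩
    apply Subtype.ext
    apply mx_inj
    show mx g * mx h = mx h * mx g
    rw [eu, ev]
    simp only [Matrix.add_mul, Matrix.mul_add, Matrix.one_mul, Matrix.mul_one, mul_self_vecMulVec, hv, hu,
      zero_smul, add_zero]
    abel
  · rintro g ⟨u, hu, eu⟩
    apply mx_inj
    rw [pow_two, mx_mul, eu]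
    simp only [Matrix.add_mul, Matrix.mul_add, Matrix.one_mul, Matrix.mul_one, mul_self_vecMulVec, hu,
      zero_smul, add_zero]
    have : vecMulVec c u + vecMulVec c u = 0 := by
      rw [← two_smul F, h2, zero_smul]
    rw [add_assoc, this, add_zero]
    rfl

theorem El.smul_left {g : P} {u φ : Fin 3 → F} {a : F} (h : El g (a • u) φ) : El g u (a • φ) := by
  refine ⟨by rw [smul_dotProduct, ← dotProduct_smul]; exact h.1, ?_⟩
  rw [h.2, Matrix.smul_vecMulVec, Matrix.vecMulVec_smul]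

theorem El.smul_right {g : P} {u φ : Fin 3 → F} {a : F} (h : El g u (a • φ)) : El g (a • u) φ := by
  refine ⟨by rw [dotProduct_smul, ← smul_dotProduct]; exact h.1, ?_⟩
  rw [h.2, Matrix.smul_vecMulVec, Matrix.vecMulVec_smul]

theorem map_bax (k : P) (φ : Fin 3 → F) :
    (bax P φ).map (MulAut.conj k).toMonoidHom = bax P (φ ᵥ* mx k⁻¹) := by
  apply le_antisymm
  · rintro _ ⟨g, ⟨u, hu⟩, rfl⟩
    exact ⟨_, hu.conj k⟩
  · rintro g ⟨u, hu⟩
    refine ⟨k⁻¹ * g * k, ?_, by simp [mul_assoc]⟩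
    have h1 := hu.conj k⁻¹
    rw [inv_inv] at h1
    rw [Matrix.vecMul_vecMul, mx_inv_mul, Matrix.vecMul_one] at h1
    exact ⟨_, h1⟩

theorem map_bce (k : P) (c : Fin 3 → F) :
    (bce P c).map (MulAut.conj k).toMonoidHom = bce P (mx k *ᵥ c) := by
  apply le_antisymm
  · rintro _ ⟨g, ⟨u, hu⟩, rfl⟩
    exact ⟨_, hu.conj k⟩
  · rintro g ⟨u, hu⟩
    refine ⟨k⁻¹ * g * k, ?_, by simp [mul_assoc]⟩
    have h1 := hu.conj k⁻¹
    rw [inv_inv] at h1
    rw [Matrix.mulVec_mulVec, mx_inv_mul, Matrix.one_mulVec] at h1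
    exact ⟨_, h1⟩

theorem bax_smul {a : F} (ha : a ≠ 0) (φ : Fin 3 → F) : bax P (a • φ) = bax P φ := by
  ext g
  constructor
  · rintro ⟨u, hu⟩
    exact ⟨_, hu.smul_right⟩
  · rintro ⟨u, hu⟩
    refine ⟨a⁻¹ • u, ?_⟩
    have : El g u (a⁻¹ • (a • φ)) := by rwa [smul_smul, inv_mul_cancel₀ ha, one_smul]
    exact this.smul_right

theorem bce_smul {a : F} (ha : a ≠ 0) (c : Fin 3 → F) : bce P (a • c) = bce P c := by
  ext g
  constructor
  · rintro ⟨u, hu⟩
    exact ⟨_, hu.smul_left⟩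
  · rintro ⟨u, hu⟩
    refine ⟨a⁻¹ • u, ?_⟩
    have : El g (a⁻¹ • (a • c)) u := by rwa [smul_smul, inv_mul_cancel₀ ha, one_smul]
    exact this.smul_left

theorem ti_bax {φ φ' : Fin 3 → F} (h : ¬ ∃ a : F, a • φ' = φ) : bax P φ' ⊓ bax P φ = ⊥ := by
  rw [eq_bot_iff]
  rintro g ⟨⟨u', hu'⟩, ⟨u, hu⟩⟩
  rw [Subgroup.mem_bot]
  by_contra hg
  have h1 : vecMulVec u φ = vecMulVec u' φ' := by
    have := hu.2.symm.trans hu'.2
    exact add_left_cancel this
  have hne : vecMulVec u φ ≠ 0 := by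
    intro h0
    apply hg
    apply mx_inj
    rw [hu.2, h0, add_zero]
    rfl
  have hu0 : u ≠ 0 := by rintro rfl; exact hne (by simp)
  have hφ0 : φ ≠ 0 := by rintro rfl; exact hne (by simp)
  exact h (prop_of_vecMulVec_eq h1 hu0 hφ0).1

theorem ti_bce {c c' : Fin 3 → F} (h : ¬ ∃ a : F, a • c' = c) : bce P c' ⊓ bce P c = ⊥ := by
  rw [eq_bot_iff]
  rintro g ⟨⟨u', hu'⟩, ⟨u, hu⟩⟩
  rw [Subgroup.mem_bot]
  by_contra hg
  have h1 : vecMulVec c u = vecMulVec c' u' := by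
    have := hu.2.symm.trans hu'.2
    exact add_left_cancel this
  have hne : vecMulVec c u ≠ 0 := by
    intro h0
    apply hg
    apply mx_inj
    rw [hu.2, h0, add_zero]
    rfl
  have hu0 : u ≠ 0 := by rintro rfl; exact hne (by simp)
  have hφ0 : c ≠ 0 := by rintro rfl; exact hne (by simp)
  exact h (prop_of_vecMulVec_eq h1 hφ0 hu0).2

theorem El.ne_one {g : P} {u φ : Fin 3 → F} (h : El g u φ) (hu : u ≠ 0) (hφ : φ ≠ 0) : g ≠ 1 := by
  rintro rfl
  have h1 : vecMulVec u φ = 0 := by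
    have h2 := h.2
    have h3 : (1 : Matrix (Fin 3) (Fin 3) F) = 1 + vecMulVec u φ := h2
    exact (left_eq_add.1 h3)
  rcases vecMulVec_eq_zero h1 with h | h
  · exact hu h
  · exact hφ h

/-- Elations with the same centre and two independent axes. -/
theorem case_one (h2 : (2 : F) = 0) {c φ₁ φ₂ : Fin 3 → F} (hc : c ≠ 0) (hi : LinearIndependent F ![φ₁, φ₂])
    {g₁ g₂ : P} (hg₁ : El g₁ c φ₁) (hg₂ : El g₂ c φ₂) :
    ∃ B : Subgroup P, Cfsg.IsElementaryAbelian 2 B ∧ B ≠ ⊥ ∧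
      (∀ g : P, B.map (MulAut.conj g).toMonoidHom = B ∨ B.map (MulAut.conj g).toMonoidHom ⊓ B = ⊥) ∧
      (∀ g : P, B.map (MulAut.conj g).toMonoidHom ≤ Subgroup.normalizer (B : Set P) →
        B.map (MulAut.conj g).toMonoidHom = B) := by
  have hφ₁ : φ₁ ≠ 0 := hi.ne_zero 0
  have hmap : ∀ k : P, (∃ a : F, a • (mx k *ᵥ c) = c) → (bce P c).map (MulAut.conj k).toMonoidHom = bce P c := by
    rintro k ⟨a, ha⟩
    have ha0 : a ≠ 0 := by rintro rfl; rw [zero_smul] at ha; exact hc ha.symm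
    rw [map_bce, ← bce_smul ha0, ha]
  refine ⟨bce P c, elem_bce h2 c, ?_, ?_, ?_⟩
  · intro h
    have : g₁ ∈ bce P c := ⟨_, hg₁⟩
    rw [h] at this
    exact hg₁.ne_one hc hφ₁ this
  · intro k
    by_cases h : ∃ a : F, a • (mx k *ᵥ c) = c
    · exact Or.inl (hmap k h)
    · right
      rw [map_bce]
      exact ti_bce h
  · intro k hk
    by_contra hne
    have h : ¬ ∃ a : F, a • (mx k *ᵥ c) = c := fun h => hne (hmap k h)
    have hind : LinearIndependent F ![mx k *ᵥ c, c] := by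
      rw [LinearIndependent.pair_iff' (mulVec_ne hc)]
      intro a ha
      exact h ⟨a, ha⟩
    have hvan : ∀ (g : P) (φ : Fin 3 → F), El g c φ → (φ ᵥ* mx k⁻¹) ⬝ᵥ c = 0 := by
      intro g φ hg
      have h1 : k * g * k⁻¹ ∈ Subgroup.normalizer (bce P c : Set P) := hk ⟨g, ⟨_, hg⟩, rfl⟩
      have h3 : (k * g * k⁻¹) * g₁ * (k * g * k⁻¹)⁻¹ ∈ bce P c :=
        (Subgroup.mem_normalizer_iff.1 h1 g₁).1 ⟨_, hg₁⟩
      obtain ⟨ψ, hψ⟩ := h3
      have h4 := hg₁.conj (k * g * k⁻¹)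
      have h5 : vecMulVec (mx (k * g * k⁻¹) *ᵥ c) (φ₁ ᵥ* mx (k * g * k⁻¹)⁻¹) = vecMulVec c ψ :=
        add_left_cancel (h4.2.symm.trans hψ.2)
      obtain ⟨a, ha⟩ := (prop_of_vecMulVec_eq h5 (mulVec_ne hc) (vecMul_ne hφ₁)).2
      have h6 := (hg.conj k).2
      rw [h6, Matrix.add_mulVec, Matrix.one_mulVec, Matrix.vecMulVec_mulVec] at ha
      by_contra h7
      rw [LinearIndependent.pair_iff] at hind
      have h8 := hind ((φ ᵥ* mx k⁻¹) ⬝ᵥ c) (1 - a) (by
        rw [sub_smul, one_smul, ha]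
        simp only [op_smul_eq_smul]
        abel)
      exact h7 h8.1
    have hind2 : LinearIndependent F ![φ₁ ᵥ* mx k⁻¹, φ₂ ᵥ* mx k⁻¹] := by
      rw [LinearIndependent.pair_iff] at hi ⊢
      intro s t hst
      apply hi s t
      have := congrArg (fun w => w ᵥ* mx k) hst
      simp only [Matrix.add_vecMul, Matrix.smul_vecMul, Matrix.vecMul_vecMul, mx_inv_mul, Matrix.vecMul_one,
        Matrix.zero_vecMul] at this
      exact this
    exact no_four hind2 hind (hg₁.conj k).1 (hvan g₁ φ₁ hg₁) (hg₂.conj k).1 (hvan g₂ φ₂ hg₂)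

theorem exists_ti (h2 : (2 : F) = 0) {g : P} (hg1 : g ≠ 1) (hg : g ^ 2 = 1) :
    ∃ B : Subgroup P, Cfsg.IsElementaryAbelian 2 B ∧ B ≠ ⊥ ∧
      (∀ g : P, B.map (MulAut.conj g).toMonoidHom = B ∨ B.map (MulAut.conj g).toMonoidHom ⊓ B = ⊥) ∧
      (∀ g : P, B.map (MulAut.conj g).toMonoidHom ≤ Subgroup.normalizer (B : Set P) →
        B.map (MulAut.conj g).toMonoidHom = B) := by
  classical
  -- an elation
  obtain ⟨u₀, φ₀, hel⟩ : ∃ u₀ φ₀, El g u₀ φ₀ := by
    have hN : (mx g - 1) * (mx g - 1) = 0 := by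
      have h3 : mx g * mx g = 1 := by
        rw [← mx_mul, ← pow_two, hg]; rfl
      rw [Matrix.sub_mul, Matrix.mul_sub, Matrix.mul_one, Matrix.one_mul, h3]
      have h4 : (1 : Matrix (Fin 3) (Fin 3) F) - mx g - (mx g - 1) = (2 : F) • (1 - mx g) := by
        rw [two_smul]; abel
      rw [h4, h2, zero_smul]
    obtain ⟨u, φ, h⟩ := exists_rank_one hN
    refine ⟨u, φ, ?_, ?_⟩
    · rw [h, mul_self_vecMulVec] at hN
      rcases smul_eq_zero.1 hN with h5 | h5
      · exact h5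
      · exfalso
        apply hg1
        apply mx_inj
        rw [h5] at h
        exact sub_eq_zero.1 h
    · rw [← h]; abel
  have hu₀ : u₀ ≠ 0 := by
    rintro rfl
    apply hg1
    apply mx_inj
    rw [hel.2]
    simp [mx]
  have hφ₀ : φ₀ ≠ 0 := by
    rintro rfl
    apply hg1
    apply mx_inj
    rw [hel.2]
    simp [mx]
  by_cases hone : ∃ (c φ₁ φ₂ : Fin 3 → F) (g₁ g₂ : P), c ≠ 0 ∧ LinearIndependent F ![φ₁, φ₂] ∧ El g₁ c φ₁ ∧ El g₂ c φ₂
  · obtain ⟨c, φ₁, φ₂, g₁, g₂, hc, hi, hg₁, hg₂⟩ := hone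
    exact case_one h2 hc hi hg₁ hg₂
  · have hmap : ∀ k : P, (∃ a : F, a • (φ₀ ᵥ* mx k⁻¹) = φ₀) →
        (bax P φ₀).map (MulAut.conj k).toMonoidHom = bax P φ₀ := by
      rintro k ⟨a, ha⟩
      have ha0 : a ≠ 0 := by rintro rfl; rw [zero_smul] at ha; exact hφ₀ ha.symm
      rw [map_bax, ← bax_smul ha0, ha]
    refine ⟨bax P φ₀, elem_bax h2 φ₀, ?_, ?_, ?_⟩
    · intro h
      have : g ∈ bax P φ₀ := ⟨_, hel⟩
      rw [h] at this
      exact hg1 this
    · intro k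
      by_cases h : ∃ a : F, a • (φ₀ ᵥ* mx k⁻¹) = φ₀
      · exact Or.inl (hmap k h)
      · right
        rw [map_bax]
        exact ti_bax h
    · intro k hk
      by_contra hne
      have h : ¬ ∃ a : F, a • (φ₀ ᵥ* mx k⁻¹) = φ₀ := fun h => hne (hmap k h)
      apply hone
      set φ₁ := φ₀ ᵥ* mx k⁻¹ with hφ₁
      set u₁ := mx k *ᵥ u₀ with hu₁
      have hind : LinearIndependent F ![φ₁, φ₀] := by
        rw [LinearIndependent.pair_iff' (vecMul_ne hφ₀)]
        intro a ha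
        exact h ⟨a, ha⟩
      have hel1 : El (k * g * k⁻¹) u₁ φ₁ := hel.conj k
      have h1 : k * g * k⁻¹ ∈ Subgroup.normalizer (bax P φ₀ : Set P) := hk ⟨g, ⟨_, hel⟩, rfl⟩
      have h3 : (k * g * k⁻¹)⁻¹ * g * (k * g * k⁻¹)⁻¹⁻¹ ∈ bax P φ₀ :=
        (Subgroup.mem_normalizer_iff.1 (Subgroup.inv_mem _ h1) g).1 ⟨_, hel⟩
      obtain ⟨ψ, hψ⟩ := h3
      have h4 := hel.conj (k * g * k⁻¹)⁻¹
      rw [inv_inv] at h4
      have h5 := add_left_cancel (h4.2.symm.trans hψ.2)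
      obtain ⟨a, ha⟩ := (prop_of_vecMulVec_eq h5 (mulVec_ne hu₀) (vecMul_ne hφ₀)).1
      rw [hel1.2, Matrix.vecMul_add, Matrix.vecMul_one, Matrix.vecMul_vecMulVec] at ha
      have h6 : φ₀ ⬝ᵥ u₁ = 0 := by
        have hp := LinearIndependent.pair_iff.1 hind
        have h8 := hp (φ₀ ⬝ᵥ u₁) (1 - a) (by
          rw [sub_smul, one_smul, ha]
          abel)
        exact h8.1
      have hu₁0 : u₁ ≠ 0 := mulVec_ne hu₀
      by_cases h7 : φ₁ ⬝ᵥ u₀ = 0
      · -- both centres lie on both axes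
        have h8 : ∃ a : F, a • u₀ = u₁ := by
          by_contra hcon
          have hind2 : LinearIndependent F ![u₀, u₁] := by
            rw [LinearIndependent.pair_iff' hu₀]
            intro a ha
            exact hcon ⟨a, ha⟩
          exact no_four hind hind2 h7 hel1.1 hel.1 h6
        obtain ⟨b, hb⟩ := h8
        rw [← hb] at hel1
        have h9 := hel1.smul_left
        refine ⟨u₀, _, _, _, _, hu₀, ?_, h9, hel⟩
        have hb0 : b ≠ 0 := by rintro rfl; rw [zero_smul] at hb; exact hu₁0 hb.symm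
        rw [LinearIndependent.pair_iff' (smul_ne_zero hb0 (vecMul_ne hφ₀))]
        intro a ha
        rw [smul_smul] at ha
        exact h ⟨_, ha⟩
      · -- the product
        have h9 : El (g * ((k * g * k⁻¹) * g * (k * g * k⁻¹)⁻¹)) ((φ₁ ⬝ᵥ u₀) • u₁) φ₀ := by
          have h10 := hel.conj (k * g * k⁻¹)
          have h11 : φ₀ ᵥ* mx (k * g * k⁻¹)⁻¹ = φ₀ := by
            have h12 : φ₀ ᵥ* mx (k * g * k⁻¹) = φ₀ := by
              rw [hel1.2, Matrix.vecMul_add, Matrix.vecMul_one, Matrix.vecMul_vecMulVec, h6, zero_smul, add_zero]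
            calc φ₀ ᵥ* mx (k * g * k⁻¹)⁻¹ = (φ₀ ᵥ* mx (k * g * k⁻¹)) ᵥ* mx (k * g * k⁻¹)⁻¹ := by rw [h12]
              _ = φ₀ := by rw [Matrix.vecMul_vecMul, mx_mul_inv, Matrix.vecMul_one]
          rw [h11, hel1.2, Matrix.add_mulVec, Matrix.one_mulVec, Matrix.vecMulVec_mulVec] at h10
          simp only [op_smul_eq_smul] at h10
          constructor
          · rw [dotProduct_smul, h6, smul_zero]
          · rw [mx_mul, hel.2, h10.2]
            simp only [Matrix.add_mul, Matrix.mul_add, Matrix.one_mul, Matrix.mul_one, Matrix.add_vecMulVec,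
              mul_self_vecMulVec, hel.1, h6, zero_smul, add_zero, Matrix.smul_vecMulVec,
              Matrix.mul_smul]
            have h13 : vecMulVec u₀ φ₀ + vecMulVec u₀ φ₀ = 0 := by
              rw [← two_smul F, h2, zero_smul]
            calc 1 + vecMulVec u₀ φ₀ + (vecMulVec u₀ φ₀ + (φ₁ ⬝ᵥ u₀) • vecMulVec u₁ φ₀)
                = 1 + (vecMulVec u₀ φ₀ + vecMulVec u₀ φ₀) + (φ₁ ⬝ᵥ u₀) • vecMulVec u₁ φ₀ := by abel
              _ = _ := by rw [h13, add_zero]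
        have h14 := h9.smul_left
        refine ⟨u₁, _, _, _, _, hu₁0, ?_, hel1, h14⟩
        rw [LinearIndependent.pair_iff' (vecMul_ne hφ₀)]
        intro a ha
        apply h
        refine ⟨(φ₁ ⬝ᵥ u₀)⁻¹ * a, ?_⟩
        rw [← smul_smul, ha, smul_smul, inv_mul_cancel₀ h7, one_smul]

end groups

end Cfsg.Agent.H907.Even
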