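import Cfsg.Agent.H907.EvenWrap
import Cfsg.Agent.H907.EvenTI
import Cfsg.Agent.S0205
import Cfsg.Agent.H890.XSL
import Cfsg.Agent.H890.XSpor
import Cfsg.Agent.H912.Bd4
import Cfsg.Agent.H906.ZLemma
import Cfsg.Agent.OddCyclic.T1SzFacts

/-!
Characteristic 2: the simple groups `P / Z` for perfect absolutely irreducible subgroups `P` of `GL_3(F)`.
-/

set_option autoImplicit false

universe u

namespace Cfsg.Agent.H907.Even

open Subgroup Cfsg.Geo Cfsg.Agent.H912.Bd

variable {F : Type u} [Field F] [Finite F] {P : Subgroup (GL (Fin 3) F)}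

/-- Transport of a pair `x, y` with `x` of prime order, conjugate to a different power of itself, along a homomorphism
with central kernel. -/
theorem transport {C G : Type*} [Group C] [Group G] (f : C →* G) (hker : f.ker ≤ center C) {r k : ℕ} (hr : r.Prime)
    (hk : ¬ k ≡ 1 [MOD r]) {x y : C} (hx : orderOf x = r) (hxy : y * x * y⁻¹ = x ^ k) :
    ∃ x y : G, orderOf x = r ∧ y * x * y⁻¹ = x ^ k := by
  refine ⟨f x, f y, ?_, by rw [← map_inv, ← map_mul, ← map_mul, hxy, map_pow]⟩
  have : Fact r.Prime := ⟨hr⟩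
  refine orderOf_eq_prime ?_ ?_
  · rw [← map_pow, ← hx, pow_orderOf_eq_one, map_one]
  · intro h
    have h1 := Subgroup.mem_center_iff.1 (hker h) y
    rw [h1, mul_inv_cancel_right] at hxy
    apply hk
    rw [← hx]
    apply Nat.ModEq.symm
    rw [← pow_eq_pow_iff_modEq, pow_one]
    exact hxy

/-- A homomorphism onto a group with central kernel, from a group with trivial centre, is an isomorphism. -/
theorem equiv_of_center {C G : Type*} [Group C] [Group G] (f : C →* G) (hf : Function.Surjective f)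
    (hker : f.ker ≤ center C) (hc : center C = ⊥) : Nonempty (G ≃* C) := by
  have hinj : Function.Injective f := by
    rw [← MonoidHom.ker_eq_bot_iff, eq_bot_iff, ← hc]
    exact hker
  exact ⟨(MulEquiv.ofBijective f ⟨hinj, hf⟩).symm⟩

theorem center_of_equiv {C D : Type*} [Group C] [Group D] (e : C ≃* D) (h : center D = ⊥) : center C = ⊥ := by
  rw [eq_bot_iff]
  intro x hx
  have : e x ∈ center D := by
    rw [Subgroup.mem_center_iff]
    intro y
    obtain ⟨y, rfl⟩ := e.surjective y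
    rw [← map_mul, ← map_mul, Subgroup.mem_center_iff.1 hx y]
  rw [h, Subgroup.mem_bot] at this
  exact (map_eq_one_iff e e.injective).1 this

theorem center_of_equiv_quot {C S : Type*} [Group C] [Group S] (e : C ≃* S ⧸ center S) (hC : commutator C = ⊤) :
    center C = ⊥ :=
  center_of_equiv e (center_quot_eq_bot (commutator_of_surjective hC e.toMonoidHom e.surjective))

/-- **Socles in characteristic 2.** -/
theorem socle_even (h2 : (2 : F) = 0) (hperf : ⁅P, P⁆ = P)
    (hsimp : IsSimpleGroup (P ⧸ (scalars (Fin 3) F).subgroupOf P))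
    (hnab : ¬ IsMulCommutative (P ⧸ (scalars (Fin 3) F).subgroupOf P)) :
    (∃ (K : Type) (_ : Field K) (_ : Fintype K), ringChar K = 2 ∧
      Nonempty ((P ⧸ (scalars (Fin 3) F).subgroupOf P) ≃* Matrix.ProjectiveSpecialLinearGroup (Fin 2) K)) ∨
    (∃ (K : Type) (_ : Field K) (_ : Fintype K), ringChar K = 2 ∧
      Nonempty ((P ⧸ (scalars (Fin 3) F).subgroupOf P) ≃* Matrix.ProjectiveSpecialLinearGroup (Fin 3) K)) ∨
    (∃ (K : Type) (_ : Field K) (_ : Fintype K) (m : ℕ), Fintype.card K = 4 ^ m ∧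
      Nonempty ((P ⧸ (scalars (Fin 3) F).subgroupOf P) ≃* Cfsg.PSU 3 K (2 ^ m))) ∨
    Nonempty ((P ⧸ (scalars (Fin 3) F).subgroupOf P) ≃* ↥(alternatingGroup (Fin 6))) := by
  classical
  have hker : (QuotientGroup.mk' ((scalars (Fin 3) F).subgroupOf P)).ker ≤ center P := by
    rw [QuotientGroup.ker_mk']
    exact H906.scalars_le_center
  have hcomm : commutator P = ⊤ := H906.commutator_eq_top_of_bracket hperf
  have hz2 : ∀ z ∈ (QuotientGroup.mk' ((scalars (Fin 3) F).subgroupOf P)).ker, z ^ 2 = 1 → z = 1 := by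
    intro z hz hz2
    rw [QuotientGroup.ker_mk'] at hz
    have h3 := H906.scalar_pow_three (H906.le_specialLinear hperf) z.2 hz
    have h4 : z ^ 3 = 1 := Subtype.ext h3
    calc z = z ^ 3 * (z ^ 2)⁻¹ := by group
      _ = 1 := by rw [h4, hz2]; group
  -- even order
  obtain ⟨g, hg1, hg⟩ : ∃ g : P, g ≠ 1 ∧ g ^ 2 = 1 := by
    have hev : 2 ∣ Nat.card P := by
      by_contra hodd
      have h1 : Odd (Nat.card P) := Nat.odd_iff.2 (by omega)
      have h3 : Group.IsSolvable P := Cfsg.Agent.S0205.result h1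
      have h4 : Group.IsSolvable (P ⧸ (scalars (Fin 3) F).subgroupOf P) := by
        exact Group.isSolvable_of_surjective (QuotientGroup.mk'_surjective ((scalars (Fin 3) F).subgroupOf P))
      apply hnab
      have h5 := IsSimpleGroup.comm_iff_isSolvable.2 h4
      exact ⟨⟨h5⟩⟩
    have : Fact (Nat.Prime 2) := ⟨Nat.prime_two⟩
    obtain ⟨g, hg⟩ := exists_prime_orderOf_dvd_card' 2 hev
    refine ⟨g, ?_, ?_⟩
    · rintro rfl
      rw [orderOf_one] at hg
      omega
    · rw [← hg, pow_orderOf_eq_one]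
  obtain ⟨B, hB, hne, hti, hwc⟩ := exists_ti h2 hg1 hg
  obtain ⟨C, _, f, hfin, hf, hkf, hC, hlist⟩ := wrap (QuotientGroup.mk' ((scalars (Fin 3) F).subgroupOf P))
    (QuotientGroup.mk'_surjective _) hker hz2 hcomm hnab B hB hne hti hwc
  have h2' : ∀ r : ℕ, r.Prime → r ≠ 2 → (r : F) ≠ 0 := by
    intro r hr hr2 h0
    have : CharP F 2 := CharTwo.of_one_ne_zero_of_two_eq_zero one_ne_zero h2
    have h3 := (CharP.cast_eq_zero_iff F 2 r).1 h0
    rcases (Nat.dvd_prime hr).1 h3 with h | h
    · omega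
    · exact hr2 h.symm
  have key : ∀ (r k m : ℕ), r.Prime → r ≠ 2 → ¬ r ∣ 3 → 3 < m → (∀ i < m, 0 < i → k ^ i % r ≠ 1 % r) →
      (∃ x y : P ⧸ (scalars (Fin 3) F).subgroupOf P, orderOf x = r ∧ y * x * y⁻¹ = x ^ k) → False := by
    rintro r k m hr hr2 hr3 hm hk ⟨x, y, hx, hxy⟩
    have h3 : PR F 3 r (P ⧸ (scalars (Fin 3) F).subgroupOf P) := PR.of_perfect P hperf hr hr3 (MulEquiv.refl _)
    have h4 : Bd F r m (P ⧸ (scalars (Fin 3) F).subgroupOf P) := bd_of_prime hr (h2' r hr hr2) hx hxy m hk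
    have := h4 3 h3
    omega
  have five : (∃ x y : C, orderOf x = 5 ∧ y * x * y⁻¹ = x ^ 2) → False := by
    rintro ⟨x, y, hx, hxy⟩
    refine key 5 2 4 (by norm_num) (by norm_num) (by norm_num) (by norm_num) (by decide) ?_
    exact transport f hkf (by norm_num) (by decide) hx hxy
  have eleven : (∃ x y : C, orderOf x = 11 ∧ y * x * y⁻¹ = x ^ 3) → False := by
    rintro ⟨x, y, hx, hxy⟩
    refine key 11 3 4 (by norm_num) (by norm_num) (by norm_num) (by norm_num) (by decide) ?_
    exact transport f hkf (by norm_num) (by decide) hx hxy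
  rcases hlist with h | h | h | h | h | h | h
  · obtain ⟨K, iK, iF, n, hK, hn, ⟨e⟩⟩ := h
    rcases Nat.lt_or_ge n 4 with h4 | h4
    · have hcC : center C = ⊥ := center_of_equiv_quot e hC
      obtain ⟨e'⟩ := equiv_of_center f hf hkf hcC
      interval_cases n
      · exact Or.inl ⟨K, iK, iF, hK, ⟨e'.trans e⟩⟩
      · exact Or.inr (Or.inl ⟨K, iK, iF, hK, ⟨e'.trans e⟩⟩)
    · exfalso
      obtain ⟨x, y, hx, hxy⟩ := H890.XSL.exists_PSL (F := K) hK h4
      exact five (H890.XSpor.of_injective e.symm.toMonoidHom e.symm.injective ⟨x, y, hx, hxy⟩)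
  · exfalso
    have : Fact (Nat.Prime 2) := ⟨Nat.prime_two⟩
    obtain ⟨y, s, -, -, hy, -, -, -, -, -, hs⟩ := Cfsg.Agent.OddCyclic.T1SzFacts.exists_five h (default : Sylow 2 C)
    exact five ⟨y, s⁻¹, hy, by rw [inv_inv]; exact hs⟩
  · obtain ⟨K, iK, iF, m, hK, ⟨e⟩⟩ := h
    have hcC : center C = ⊥ := center_of_equiv_quot e hC
    obtain ⟨e'⟩ := equiv_of_center f hf hkf hcC
    exact Or.inr (Or.inr (Or.inl ⟨K, iK, iF, m, hK, ⟨e'.trans e⟩⟩))
  · obtain ⟨k, h6, h9, ⟨e⟩⟩ := h
    rcases Nat.lt_or_ge k 7 with h7 | h7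
    · have hk : k = 6 := by omega
      subst hk
      have hs : IsSimpleGroup ↥(alternatingGroup (Fin 6)) :=
        alternatingGroup.isSimpleGroup (by rw [Nat.card_eq_fintype_card, Fintype.card_fin]; norm_num)
      have hna : ¬ IsMulCommutative ↥(alternatingGroup (Fin 6)) := by
        intro h
        have h1 := eq_one_of_comm hC (by
          refine ⟨⟨fun a b => ?_⟩⟩
          apply e.injective
          rw [map_mul, map_mul]
          exact h.is_comm.comm _ _)
        obtain ⟨a, ha⟩ := exists_ne (1 : ↥(alternatingGroup (Fin 6)))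
        apply ha
        have := h1 (e.symm a)
        rw [← e.apply_symm_apply a, this, map_one]
      have hcC : center C = ⊥ := center_of_equiv e (center_simple hna)
      obtain ⟨e'⟩ := equiv_of_center f hf hkf hcC
      exact Or.inr (Or.inr (Or.inr ⟨e'.trans e⟩))
    · exfalso
      exact five (H890.XSpor.of_injective e.symm.toMonoidHom e.symm.injective (H890.XSpor.exists_five_alt h7))
  · exact (eleven (H890.XSpor.exists_eleven_M22 h)).elim
  · exact (eleven (H890.XSpor.exists_eleven_M23 h)).elim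
  · exact (eleven (H890.XSpor.exists_eleven_M24 h)).elim

end Cfsg.Agent.H907.Even
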