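import Mathlib
import Cfsg.Agent.H824.ProdLem

/-!
No subgroup of order 288 in the automorphism group of the alternating group of degree six.
-/

set_option autoImplicit false

namespace Cfsg.Agent.H907.Mx

theorem simple_card_dvd {S : Type*} [Group S] [Finite S] [IsSimpleGroup S] {M : Subgroup S} (hM : M ≠ ⊤) :
    Nat.card S ∣ (M.index).factorial := by
  have h1 : (MulAction.toPermHom S (S ⧸ M)).ker = ⊥ := by
    rw [← Subgroup.normalCore_eq_ker]
    rcases (inferInstance : IsSimpleGroup S).eq_bot_or_eq_top_of_normal M.normalCore inferInstance with h | h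
    · exact h
    · exact absurd (top_le_iff.1 (h ▸ M.normalCore_le)) hM
  have h2 : Function.Injective (MulAction.toPermHom S (S ⧸ M)) := (MonoidHom.ker_eq_bot_iff _).1 h1
  have h3 := Subgroup.card_dvd_of_injective _ h2
  rwa [Nat.card_perm, ← Subgroup.index_eq_card] at h3

theorem relIndex_mul_card' {G : Type*} [Group G] {H K : Subgroup G} (h : H ≤ K) :
    H.relIndex K * Nat.card H = Nat.card K := by
  have := Subgroup.relIndex_mul_relIndex (⊥ : Subgroup G) H K bot_le h
  rw [Subgroup.relIndex_bot_left, Subgroup.relIndex_bot_left] at this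
  rw [mul_comm]; exact this

/-- The inner automorphisms. -/
theorem inn_card : Nat.card (MulAut.conj (G := alternatingGroup (Fin 6))).range = 360 := by
  rw [← Cfsg.Agent.H824.ProdLem.card_a6]
  refine (Nat.card_congr (MonoidHom.ofInjective ?_).toEquiv).symm
  rw [injective_iff_map_eq_one]
  intro a ha
  apply Cfsg.Agent.H824.ProdLem.center_a6
  intro x
  have := congrArg (fun z : MulAut (alternatingGroup (Fin 6)) => z x) ha
  simp only [MulAut.conj_apply, MulAut.one_apply] at this
  exact mul_inv_eq_iff_eq_mul.1 this

theorem no_288 (B : Subgroup (MulAut (alternatingGroup (Fin 6)))) : Nat.card B ≠ 288 := by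
  intro hB
  set N := (MulAut.conj (G := alternatingGroup (Fin 6))).range with hN
  have hNn : N.Normal := by
    refine ⟨?_⟩
    rintro _ ⟨a, rfl⟩ g
    refine ⟨g a, ?_⟩
    ext x : 1
    rw [MulAut.conj_apply, MulAut.mul_apply, MulAut.mul_apply, MulAut.conj_apply, map_mul, map_mul,
      MulAut.apply_inv_self, map_inv]
  have hNc : Nat.card N = 360 := inn_card
  have hA := Cfsg.Agent.H824.ProdLem.card_aut_a6
  have hfin : Finite (MulAut (alternatingGroup (Fin 6))) := Nat.finite_of_card_ne_zero (by rw [hA]; norm_num)
  have h1 : Nat.card (B ⊔ N : Subgroup _) ∣ 1440 := hA ▸ Subgroup.card_subgroup_dvd_card _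
  have h2 : 288 ∣ Nat.card (B ⊔ N : Subgroup _) := hB ▸ Subgroup.card_dvd_of_le le_sup_left
  have h3 : 360 ∣ Nat.card (B ⊔ N : Subgroup _) := hNc ▸ Subgroup.card_dvd_of_le le_sup_right
  have h4 : Nat.card (B ⊔ N : Subgroup _) = 1440 := by
    apply Nat.dvd_antisymm h1
    have : Nat.lcm 288 360 ∣ Nat.card (B ⊔ N : Subgroup _) := Nat.lcm_dvd h2 h3
    exact this
  -- `|B ⊓ N| = 72`
  have h5 : N.relIndex B * 360 = 1440 := by
    have h6 : N.relIndex (B ⊔ N) * Nat.card N = Nat.card (B ⊔ N : Subgroup _) :=
      relIndex_mul_card' le_sup_right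
    rw [Subgroup.relIndex_sup_right, hNc, h4] at h6
    exact h6
  have h7 : N.relIndex B * Nat.card (N ⊓ B : Subgroup _) = Nat.card B := by
    rw [← Subgroup.inf_relIndex_right]
    exact relIndex_mul_card' inf_le_right
  have h8 : Nat.card (N ⊓ B : Subgroup _) = 72 := by
    have : N.relIndex B = 4 := by omega
    rw [this, hB] at h7
    omega
  -- index five in a simple group of order 360
  have hs : IsSimpleGroup N := by
    have hs6 := Cfsg.Agent.H824.ProdLem.simple_a6
    have e : alternatingGroup (Fin 6) ≃* N := MonoidHom.ofInjective (by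
      rw [injective_iff_map_eq_one]
      intro a ha
      apply Cfsg.Agent.H824.ProdLem.center_a6
      intro x
      have := congrArg (fun z : MulAut (alternatingGroup (Fin 6)) => z x) ha
      simp only [MulAut.conj_apply, MulAut.one_apply] at this
      exact mul_inv_eq_iff_eq_mul.1 this)
    have : Nontrivial N := e.symm.toEquiv.nontrivial
    exact IsSimpleGroup.isSimpleGroup_of_surjective e.toMonoidHom e.surjective
  have h9 : (B.subgroupOf N).index = 5 := by
    have h10 : Nat.card (B.subgroupOf N) = 72 := by
      rw [← h8, inf_comm, ← Subgroup.subgroupOf_map_subtype]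
      exact Nat.card_congr ((B.subgroupOf N).equivMapOfInjective _ N.subtype_injective).toEquiv
    have h11 := (B.subgroupOf N).card_mul_index
    rw [h10, hNc] at h11
    omega
  have h12 : B.subgroupOf N ≠ ⊤ := by
    intro h
    rw [h, Subgroup.index_top] at h9
    omega
  have h13 := simple_card_dvd h12
  rw [h9, hNc] at h13
  exact absurd h13 (by decide)

end Cfsg.Agent.H907.Mx
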