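import Mathlib
import Cfsg.Agent.H907.MxBase
import Cfsg.Agent.H930.GUSubG

/-!
Transport of the geometric subgroups of `SU_3(q)` along a unitary matrix.
-/

set_option autoImplicit false
set_option linter.unusedSectionVars false
set_option linter.unusedSimpArgs false

namespace Cfsg.Agent.H907.Mx

open Cfsg Cfsg.Geo Matrix Cfsg.Agent.H907 Cfsg.Agent.H918 Cfsg.Agent.H907.SU3 Cfsg.Agent.LieClassical.HermBasic
open Cfsg.Agent.H930.GUSub Cfsg.Agent.H873.Sub
open scoped MatrixGroups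

variable {F : Type*} [Field F] [Fintype F] {q : ℕ} {P : GL (Fin 3) F}

theorem inf_map (hP : P ∈ Cfsg.GU 3 F q) {A B : Subgroup (GL (Fin 3) F)} (h : A = B.map (MulAut.conj P).toMonoidHom) :
    A ⊓ SUg 3 F q = (B ⊓ SUg 3 F q).map (MulAut.conj P).toMonoidHom := by
  rw [Subgroup.map_inf _ _ _ (MulAut.conj P).injective, SUg_map hP, h]

theorem card_of_map (hP : P ∈ Cfsg.GU 3 F q) {A B : Subgroup (GL (Fin 3) F)}
    (h : A = B.map (MulAut.conj P).toMonoidHom) :
    Nat.card ↥(A ⊓ SUg 3 F q) = Nat.card ↥(B ⊓ SUg 3 F q) := by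
  rw [inf_map hP h]
  exact (Nat.card_congr ((B ⊓ SUg 3 F q).equivMapOfInjective _ (MulAut.conj P).injective).toEquiv).symm

theorem isMaximalIn_of_map (hP : P ∈ Cfsg.GU 3 F q) {A B : Subgroup (GL (Fin 3) F)}
    (h : A = B.map (MulAut.conj P).toMonoidHom) (hB : IsMaximalIn (SUg 3 F q) (B ⊓ SUg 3 F q)) :
    IsMaximalIn (SUg 3 F q) (A ⊓ SUg 3 F q) := by
  rw [inf_map hP h]
  exact isMaximalIn_map (MulAut.conj P) (SUg_map hP) hB

/-- The standard decomposition. -/
def stdD (F : Type*) [Field F] : Fin 3 → Submodule F (Fin 3 → F) := fun i => F ∙ (Pi.single i 1 : Fin 3 → F)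

theorem dec_map (P : GL (Fin 3) F) :
    decompositionStabilizer (fun i => F ∙ ((P : Matrix (Fin 3) (Fin 3) F) *ᵥ Pi.single i 1)) =
      (decompositionStabilizer (stdD F)).map (MulAut.conj P).toMonoidHom := by
  have hD : ∀ i, F ∙ ((P : Matrix (Fin 3) (Fin 3) F) *ᵥ Pi.single i 1) =
      (stdD F i).map (Matrix.toLin' (P : Matrix (Fin 3) (Fin 3) F)) := by
    intro i
    rw [stdD, Submodule.map_span, Set.image_singleton, Matrix.toLin'_apply]
  have hinj : Function.Injective (Submodule.map (Matrix.toLin' (P : Matrix (Fin 3) (Fin 3) F))) := by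
    apply Submodule.map_injective_of_injective
    intro u v h
    rw [Matrix.toLin'_apply, Matrix.toLin'_apply] at h
    exact mulVec_injective P h
  ext g
  constructor
  · rintro ⟨σ, hσ⟩
    refine ⟨P⁻¹ * g * P, ⟨σ, fun i => ?_⟩, by simp [MulAut.conj_apply, mul_assoc]⟩
    apply hinj
    have h1 : (F ∙ ((P : Matrix (Fin 3) (Fin 3) F) *ᵥ Pi.single i 1)).map (Matrix.toLin' (g : Matrix (Fin 3) (Fin 3) F)) =
        F ∙ ((P : Matrix (Fin 3) (Fin 3) F) *ᵥ Pi.single (σ i) 1) := hσ i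
    rw [hD, hD] at h1
    rw [← h1, ← Submodule.map_comp, ← Submodule.map_comp, ← Matrix.toLin'_mul, ← Matrix.toLin'_mul,
      ← Units.val_mul, ← Units.val_mul]
    congr 3
    group
  · rintro ⟨x, ⟨σ, hσ⟩, rfl⟩
    refine ⟨σ, fun i => ?_⟩
    show (F ∙ ((P : Matrix (Fin 3) (Fin 3) F) *ᵥ Pi.single i 1)).map (Matrix.toLin' _) =
        F ∙ ((P : Matrix (Fin 3) (Fin 3) F) *ᵥ Pi.single (σ i) 1)
    rw [hD, hD, ← hσ i, ← Submodule.map_comp, ← Submodule.map_comp, ← Matrix.toLin'_mul, ← Matrix.toLin'_mul,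
      ← Units.val_mul, ← Units.val_mul]
    congr 3
    show P * x * P⁻¹ * P = P * x
    group

theorem sub_map (F₀ : Subfield F) (P : GL (Fin 3) F) :
    subfieldSubgroup F₀ P = (subfieldSubgroup F₀ (1 : GL (Fin 3) F)).map (MulAut.conj P).toMonoidHom := by
  rw [subfieldSubgroup, subfieldSubgroup, Subgroup.map_map]
  congr 1
  ext x
  simp [MulAut.conj_apply]

theorem norm_map (R : Subgroup (GL (Fin 3) F)) (P : GL (Fin 3) F) :
    subgroupNormalizer (R.map (MulAut.conj P).toMonoidHom) =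
      (subgroupNormalizer R).map (MulAut.conj P).toMonoidHom := by
  ext g
  simp only [subgroupNormalizer]
  constructor
  · intro hg
    refine ⟨P⁻¹ * g * P, ?_, by simp [MulAut.conj_apply, mul_assoc]⟩
    rw [SetLike.mem_coe, Subgroup.mem_normalizer_iff]
    intro r
    have h1 := Subgroup.mem_normalizer_iff.1 hg (P * r * P⁻¹)
    have h2 : ∀ s, P * s * P⁻¹ ∈ R.map (MulAut.conj P).toMonoidHom ↔ s ∈ R := by
      intro s
      constructor
      · rintro ⟨t, ht, hts⟩
        have h3 : P * t * P⁻¹ = P * s * P⁻¹ := hts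
        have h4 : t = s := by
          have := congrArg (fun z => P⁻¹ * z * P) h3
          simpa [mul_assoc] using this
        rw [← h4]; exact ht
      · intro hs
        exact ⟨s, hs, rfl⟩
    rw [h2] at h1
    rw [h1]
    have h5 : g * (P * r * P⁻¹) * g⁻¹ = P * (P⁻¹ * g * P * r * (P⁻¹ * g * P)⁻¹) * P⁻¹ := by group
    rw [h5, h2]
  · rintro ⟨x, hx, rfl⟩
    rw [Subgroup.mem_normalizer_iff]
    have hx' := Subgroup.mem_normalizer_iff.1 hx
    intro r
    have h2 : ∀ s, s ∈ R.map (MulAut.conj P).toMonoidHom ↔ P⁻¹ * s * P ∈ R := by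
      intro s
      constructor
      · rintro ⟨t, ht, rfl⟩
        have : P⁻¹ * (MulAut.conj P).toMonoidHom t * P = t := by simp [MulAut.conj_apply, mul_assoc]
        rw [this]; exact ht
      · intro hs
        exact ⟨_, hs, by simp [MulAut.conj_apply, mul_assoc]⟩
    rw [h2, h2]
    have h3 := hx' (P⁻¹ * r * P)
    rw [h3]
    have h4 : P⁻¹ * ((MulAut.conj P).toMonoidHom x * r * ((MulAut.conj P).toMonoidHom x)⁻¹) * P =
        x * (P⁻¹ * r * P) * x⁻¹ := by
      simp [MulAut.conj_apply, mul_assoc]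
    rw [h4]

end Cfsg.Agent.H907.Mx
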