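import Mathlib
import Cfsg.Agent.H907.MxJ2
import Cfsg.Agent.H907.MxMove
import Cfsg.Agent.H907.MxRes2
import Cfsg.Agent.H907.SU3Cases
import Cfsg.Agent.S5779

/-!
A criterion for the maximality of a subgroup of `SU_3(q)`.
-/

set_option autoImplicit false
set_option linter.unusedSectionVars false
set_option linter.unusedSimpArgs false

namespace Cfsg.Agent.H907.Mx

open Cfsg Cfsg.Geo Matrix Cfsg.Agent.H907 Cfsg.Agent.H918 Cfsg.Agent.H907.SU3 Cfsg.Agent.LieClassical.HermBasic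
open scoped MatrixGroups

variable {F : Type*} [Field F] [Fintype F] {q : ℕ}

/-- The frame of `P`. -/
def frm (P : GL (Fin 3) F) : Fin 3 → Submodule F (Fin 3 → F) :=
  fun i => F ∙ ((P : Matrix (Fin 3) (Fin 3) F) *ᵥ Pi.single i 1)

theorem ne_top_of_sing (hF : Fintype.card F = q ^ 2) {W : Submodule F (Fin 3 → F)}
    (h : IsTotallySingularFor (hermForm 3 F q) W) : W ≠ ⊤ := by
  rintro rfl
  have h1 := h (Pi.single 0 1) trivial (Pi.single 0 1) trivial
  rw [herm_single_right hF] at h1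
  simp at h1

theorem ne_top_of_finrank {W : Submodule F (Fin 3 → F)} (h : 2 * Module.finrank F W < 3) : W ≠ ⊤ := by
  rintro rfl
  rw [finrank_top, Module.finrank_fin_fun] at h
  omega

/-- **Maximality from the list of the maximal subgroups.** -/
theorem maximal_of (hF : Fintype.card F = q ^ 2) (hq : 3 ≤ q) (hq5 : q ≠ 5) {B : Subgroup (GL (Fin 3) F)}
    (hne : ¬ SUg 3 F q ≤ B)
    (h12 : ∀ W : Submodule F (Fin 3 → F), W ≠ ⊥ → W ≠ ⊤ → ¬ B ⊓ SUg 3 F q ≤ subspaceStabilizer W)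
    (h3 : ∀ P ∈ Cfsg.GU 3 F q, B ⊓ SUg 3 F q ≤ decompositionStabilizer (frm P) →
      decompositionStabilizer (frm P) ⊓ SUg 3 F q ≤ B)
    (h4 : ∀ K : Subalgebra F (Matrix (Fin 3) (Fin 3) F), IsFieldSubalgebra 3 K →
      IsAdjointClosedFor (hermForm 3 F q) K → q ≠ 3 → B ⊓ SUg 3 F q ≤ subalgebraNormalizer K →
      subalgebraNormalizer K ⊓ SUg 3 F q ≤ B)
    (h5 : ∀ (F₁ : Subfield F) (r : ℕ) (P : GL (Fin 3) F), r.Prime → Odd r → Fintype.card F = Nat.card F₁ ^ r →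
      IsFormRationalStructure (hermForm 3 F q) F₁ 1 P → B ⊓ SUg 3 F q ≤ subfieldSubgroup F₁ P →
      subfieldSubgroup F₁ P ⊓ SUg 3 F q ≤ B)
    (h6 : Odd q → 7 ≤ q → ∀ (F₁ : Subfield F) (P : GL (Fin 3) F), Fintype.card F = Nat.card F₁ ^ 2 →
      P ∈ Cfsg.GU 3 F q → B ⊓ SUg 3 F q ≤ subfieldSubgroup F₁ P → subfieldSubgroup F₁ P ⊓ SUg 3 F q ≤ B)
    (h7 : ∀ R : Subgroup (GL (Fin 3) F), q.Prime → q % 3 = 2 → 11 ≤ q → IsSymplecticTypeGroup 3 R →
      ActsAbsolutelyIrreducibly (matrixSet R) → R ≤ similarityGroup (hermForm 3 F q) → Nat.card R = 27 →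
      Nat.card (Subgroup.center R) = 3 → B ⊓ SUg 3 F q ≤ subgroupNormalizer R →
      subgroupNormalizer R ⊓ SUg 3 F q ≤ B)
    (h8 : ∀ H : Subgroup (GL (Fin 3) F), B ⊓ SUg 3 F q ≤ H → Nat.card H ∣ 1008 → q.Prime →
      q % 7 = 3 ∨ q % 7 = 5 ∨ q % 7 = 6 → False)
    (h9 : ∀ H P : Subgroup (GL (Fin 3) F), B ⊓ SUg 3 F q ≤ H → H ≤ SUg 3 F q → IsResidualCore H P →
      Nonempty (PQ P ≃* alternatingGroup (Fin 6)) → q.Prime → q % 15 = 11 ∨ q % 15 = 14 → False) :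
    IsMaximalIn (SUg 3 F q) (B ⊓ SUg 3 F q) := by
  apply isMaximalIn_of_forall inf_le_right (fun h => hne (h.trans inf_le_left))
  intro M hM hBM
  have hMS : M ≤ SUg 3 F q := hM.1.le
  rcases su3_cases q hF hq M hM with h | h | h | h | h | h | h | h
  · obtain ⟨W, hW0, hW, rfl⟩ := h
    exact absurd (hBM.trans inf_le_left) (h12 W hW0 (ne_top_of_sing hF hW))
  · obtain ⟨W, hW0, -, hW, rfl⟩ := h
    exact absurd (hBM.trans inf_le_left) (h12 W hW0 (ne_top_of_finrank hW))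
  · obtain ⟨-, D, hD, rfl⟩ := h
    obtain ⟨P, hP, hPD⟩ := exists_frame hF hD
    have hDf : D = frm P := funext hPD
    subst hDf
    exact le_inf (h3 P hP (hBM.trans inf_le_left)) inf_le_right
  · obtain ⟨hq3, -, K, hK, hadj, rfl⟩ := h
    exact le_inf (h4 K hK hadj hq3 (hBM.trans inf_le_left)) inf_le_right
  · obtain ⟨F₁, r, P, hr, hodd, hc, hP, rfl⟩ := h
    exact le_inf (h5 F₁ r P hr hodd hc hP (hBM.trans inf_le_left)) inf_le_right
  · obtain ⟨hodd, h7q, F₁, P, hc, hP, rfl⟩ := h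
    have h2 : (2 : F) ≠ 0 := by
      intro h0
      have h1 : ringChar F = 2 := by
        have := (CharP.cast_eq_zero_iff F (ringChar F) 2).1 (by exact_mod_cast h0)
        rcases (Nat.dvd_prime Nat.prime_two).1 this with h | h
        · exact absurd h (CharP.ringChar_ne_one)
        · exact h
      have h3 := FiniteField.even_card_of_char_two h1
      rw [hF] at h3
      have h4 := Nat.odd_iff.1 (hodd.pow (n := 2))
      omega
    obtain ⟨P', hP', he⟩ := exists_real_frame hF hc h2 hP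
    rw [he] at hBM ⊢
    exact le_inf (h6 hodd h7q F₁ P' hc hP' (hBM.trans inf_le_left)) inf_le_right
  · obtain ⟨p, R, hp, rfl, hp3, h11, hR, hirr, hsim, hcard, hcen, rfl⟩ := h
    exact le_inf (h7 R hp hp3 h11 hR hirr hsim hcard hcen (hBM.trans inf_le_left)) inf_le_right
  · obtain ⟨P, hP, hprime, hc⟩ := Cfsg.Agent.S5779.result q hF hq M hM h
    rcases hc with ⟨he, -, h7⟩ | ⟨he, h15⟩ | ⟨-, h5⟩
    · exact (h8 M hBM (card_dvd_l32 hP hMS he) hprime h7).elim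
    · exact (h9 M P hBM hMS hP he hprime (by omega)).elim
    · exact absurd h5 hq5

end Cfsg.Agent.H907.Mx
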