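import Mathlib
import Cfsg.Agent.H907.MxCases
import Cfsg.Agent.H907.MxSymp2
import Cfsg.Agent.H907.MxA6

/-!
The monomial subgroup of `SU_3(q)` is maximal.
-/

set_option autoImplicit false
set_option linter.unusedSectionVars false
set_option linter.unusedSimpArgs false

namespace Cfsg.Agent.H907.Mx

open Cfsg Cfsg.Geo Matrix Cfsg.Agent.H907 Cfsg.Agent.H918 Cfsg.Agent.H907.SU3 Cfsg.Agent.LieClassical.HermBasic
open scoped MatrixGroups

variable {F : Type*} [Field F] [Fintype F] {q : ℕ}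

theorem frm_one : frm (1 : GL (Fin 3) F) = stdD F := by
  funext i
  rw [frm, stdD, Units.val_one, Matrix.one_mulVec]

theorem mem_std_of_mono {g : GL (Fin 3) F} (hm : IsMono g) : g ∈ decompositionStabilizer (stdD F) := by
  have h1 := mem_decomp_of_mono (P := (1 : GL (Fin 3) F)) (h := g) (by simpa using hm)
  have h2 : (fun i => F ∙ (((1 : GL (Fin 3) F) : Matrix (Fin 3) (Fin 3) F) *ᵥ Pi.single i 1)) = stdD F := frm_one
  rwa [h2] at h1

theorem diag_single {δ : Fin 3 → F} (i : Fin 3) : Matrix.diagonal δ *ᵥ Pi.single i 1 = δ i • (Pi.single i 1 : Fin 3 → F) := by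
  ext j
  rw [Matrix.mulVec_diagonal]
  by_cases h : j = i
  · subst h; simp
  · simp [Pi.single_apply, h]

theorem isMono_diag {g : GL (Fin 3) F} {δ : Fin 3 → F} (h : (g : Matrix (Fin 3) (Fin 3) F) = Matrix.diagonal δ) :
    IsMono g := ⟨id, fun i => ⟨δ i, by rw [h, diag_single]; rfl⟩⟩

theorem isMono_cyc {g : GL (Fin 3) F} (h : (g : Matrix (Fin 3) (Fin 3) F) = !![0, 0, 1; 1, 0, 0; 0, 1, 0]) :
    IsMono g := ⟨fun i => i + 1, fun i => ⟨1, by rw [h, cyc_single, one_smul]⟩⟩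

theorem isMono_swp {g : GL (Fin 3) F} (h : (g : Matrix (Fin 3) (Fin 3) F) = !![0, 1, 0; 1, 0, 0; 0, 0, -1]) :
    IsMono g := by
  refine ⟨![1, 0, 2], fun i => ?_⟩
  rw [h]
  fin_cases i
  · refine ⟨1, ?_⟩
    ext j; fin_cases j <;> simp [Matrix.mulVec_single_one]
  · refine ⟨1, ?_⟩
    ext j; fin_cases j <;> simp [Matrix.mulVec_single_one]
  · refine ⟨-1, ?_⟩
    ext j; fin_cases j <;> simp [Matrix.mulVec_single_one]

theorem std_decomp (hF : Fintype.card F = q ^ 2) : IsNondegenerateMDecomposition (hermForm 3 F q) 1 (stdD F) := by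
  have := frame_decomp hF (P := (1 : GL (Fin 3) F)) (Subgroup.one_mem _)
  have h2 : (fun i => F ∙ (((1 : GL (Fin 3) F) : Matrix (Fin 3) (Fin 3) F) *ᵥ Pi.single i 1)) = stdD F := frm_one
  rwa [h2] at this

/-- Groups of the same type. -/
theorem same_type {A B : Subgroup (GL (Fin 3) F)} {P : GL (Fin 3) F} (hP : P ∈ Cfsg.GU 3 F q)
    (h : A = B.map (MulAut.conj P).toMonoidHom) (hle : B ⊓ SUg 3 F q ≤ A) : A ⊓ SUg 3 F q ≤ B :=
  (le_of_card_eq (le_inf hle inf_le_right) (card_of_map hP h)).trans inf_le_left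

/-! ### The order -/

/-- Diagonal matrices of determinant one. -/
def dg : Fˣ × Fˣ →* GL (Fin 3) F where
  toFun p := ⟨Matrix.diagonal ![(p.1 : F), p.2, ((p.1 * p.2)⁻¹ : Fˣ)],
    Matrix.diagonal ![((p.1⁻¹ : Fˣ) : F), (p.2⁻¹ : Fˣ), (p.1 * p.2 : Fˣ)], by
      rw [Matrix.diagonal_mul_diagonal, ← Matrix.diagonal_one]
      congr 1
      funext i
      fin_cases i
      · simp
      · simp
      · show (((p.1 * p.2)⁻¹ : Fˣ) : F) * ((p.1 * p.2 : Fˣ) : F) = 1
        rw [← Units.val_mul, inv_mul_cancel, Units.val_one], by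
      rw [Matrix.diagonal_mul_diagonal, ← Matrix.diagonal_one]
      congr 1
      funext i
      fin_cases i
      · simp
      · simp
      · show ((p.1 * p.2 : Fˣ) : F) * (((p.1 * p.2)⁻¹ : Fˣ) : F) = 1
        rw [← Units.val_mul, mul_inv_cancel, Units.val_one]⟩
  map_one' := by
    apply Units.ext
    show Matrix.diagonal _ = 1
    rw [← Matrix.diagonal_one]
    congr 1
    funext i
    fin_cases i <;> simp
  map_mul' p p' := by
    apply Units.ext
    show Matrix.diagonal _ = Matrix.diagonal _ * Matrix.diagonal _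
    rw [Matrix.diagonal_mul_diagonal]
    congr 1
    funext i
    fin_cases i
    · simp
    · simp
    · show (((p.1 * p'.1) * (p.2 * p'.2))⁻¹ : Fˣ).val = ((p.1 * p.2)⁻¹ : Fˣ).val * ((p'.1 * p'.2)⁻¹ : Fˣ).val
      rw [← Units.val_mul, ← _root_.mul_inv_rev]
      congr 2
      rw [mul_mul_mul_comm, mul_comm]

theorem dg_val (p : Fˣ × Fˣ) : ((dg p : GL (Fin 3) F) : Matrix (Fin 3) (Fin 3) F) =
    Matrix.diagonal ![(p.1 : F), p.2, ((p.1 * p.2)⁻¹ : Fˣ)] := rfl

theorem dg_injective : Function.Injective (dg (F := F)) := by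
  intro p p' h
  have h1 := congrArg (fun z : GL (Fin 3) F => (z : Matrix (Fin 3) (Fin 3) F) 0 0) h
  have h2 := congrArg (fun z : GL (Fin 3) F => (z : Matrix (Fin 3) (Fin 3) F) 1 1) h
  simp only [dg_val, Matrix.diagonal_apply_eq] at h1 h2
  exact Prod.ext (Units.ext h1) (Units.ext h2)

theorem dg_mem (hF : Fintype.card F = q ^ 2) {p : Fˣ × Fˣ} (h1 : p.1 ^ (q + 1) = 1) (h2 : p.2 ^ (q + 1) = 1) :
    dg p ∈ SUg 3 F q := by
  obtain ⟨g, hg, hgv⟩ := exists_diag hF (a := p.1) (b := p.2) (c := ((p.1 * p.2)⁻¹ : Fˣ))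
    (by rw [← Units.val_pow_eq_pow_val, h1, Units.val_one])
    (by rw [← Units.val_pow_eq_pow_val, h2, Units.val_one])
    (by rw [← Units.val_pow_eq_pow_val, inv_pow, mul_pow, h1, h2, one_mul, inv_one, Units.val_one])
    (by rw [← Units.val_mul, ← Units.val_mul, mul_inv_cancel, Units.val_one])
  have : dg p = g := Units.ext (by rw [dg_val, hgv])
  rw [this]; exact hg

theorem eq_dg_of_diag (hF : Fintype.card F = q ^ 2) {g : GL (Fin 3) F} (hg : g ∈ SUg 3 F q) {a : Fin 3 → F}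
    (ha : ∀ i, (g : Matrix (Fin 3) (Fin 3) F) *ᵥ Pi.single i 1 = a i • Pi.single i 1) :
    ∃ p : Fˣ × Fˣ, p.1 ^ (q + 1) = 1 ∧ p.2 ^ (q + 1) = 1 ∧ g = dg p := by
  have hgd : (g : Matrix (Fin 3) (Fin 3) F) = Matrix.diagonal a := by
    apply Matrix.ext_of_mulVec_single
    intro i
    rw [ha, diag_single]
  have hn : ∀ i, a i ^ (q + 1) = 1 := by
    intro i
    have h1 := mem_GU.1 hg.1 (Pi.single i 1) (Pi.single i 1)
    rw [ha, herm_smul_left, herm_smul_right, herm_single_right hF] at h1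
    simp only [Pi.single_eq_same, one_pow, mul_one] at h1
    rw [pow_succ, mul_comm]; exact h1
  have hdet : a 0 * a 1 * a 2 = 1 := by
    have := (mem_SUg.1 hg).2
    rwa [hgd, Matrix.det_diagonal, Fin.prod_univ_three] at this
  have h0 : ∀ i, a i ≠ 0 := by
    intro i h
    have := hn i
    rw [h, zero_pow (by omega)] at this
    exact zero_ne_one this
  refine ⟨(Units.mk0 (a 0) (h0 0), Units.mk0 (a 1) (h0 1)), Units.ext ?_, Units.ext ?_, Units.ext ?_⟩
  · rw [Units.val_pow_eq_pow_val, Units.val_mk0, hn, Units.val_one]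
  · rw [Units.val_pow_eq_pow_val, Units.val_mk0, hn, Units.val_one]
  · rw [dg_val, hgd]
    congr 1
    funext i
    fin_cases i
    · rfl
    · rfl
    · show a 2 = ((Units.mk0 (a 0) (h0 0) * Units.mk0 (a 1) (h0 1))⁻¹ : Fˣ)
      rw [Units.val_inv_eq_inv_val, Units.val_mul, Units.val_mk0, Units.val_mk0]
      exact eq_inv_of_mul_eq_one_right hdet

theorem card_std (hF : Fintype.card F = q ^ 2) :
    Nat.card ↥(decompositionStabilizer (stdD F) ⊓ SUg 3 F q) = 6 * (q + 1) ^ 2 := by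
  have hdec := (std_decomp hF).decomp
  obtain ⟨ψ, hψ⟩ := exists_permHom hdec
  have hinj := D_injective hdec
  set G₀ := decompositionStabilizer (stdD F) ⊓ SUg 3 F q with hG₀
  let ψ₀ : G₀ →* Equiv.Perm (Fin 3) := ψ.comp (Subgroup.inclusion inf_le_left)
  have hψ₀ : ∀ (g : G₀) (i j : Fin 3) (a : F), a ≠ 0 →
      ((g : GL (Fin 3) F) : Matrix (Fin 3) (Fin 3) F) *ᵥ Pi.single i 1 = a • Pi.single j 1 → ψ₀ g i = j := by
    intro g i j a ha h
    apply hinj
    have h0 : stdD F (ψ₀ g i) = _ := (hψ (Subgroup.inclusion inf_le_left g) i).symm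
    rw [h0]
    show Submodule.map (toLin' ((g : GL (Fin 3) F) : Matrix (Fin 3) (Fin 3) F)) (F ∙ (Pi.single i 1 : Fin 3 → F)) =
      F ∙ (Pi.single j 1 : Fin 3 → F)
    rw [Submodule.map_span, Set.image_singleton, Matrix.toLin'_apply, h]
    exact Submodule.span_singleton_smul_eq (IsUnit.mk0 _ ha) _
  have h1 : Nat.card G₀ = Nat.card ψ₀.range * Nat.card ψ₀.ker := by
    rw [Subgroup.card_eq_card_quotient_mul_card_subgroup ψ₀.ker,
      Nat.card_congr (QuotientGroup.quotientKerEquivRange ψ₀).toEquiv]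
  rw [h1]
  congr 1
  · -- the image
    have h6 : Nat.card ψ₀.range ∣ 6 := by
      have := Subgroup.card_subgroup_dvd_card ψ₀.range
      rwa [Nat.card_perm, Nat.card_fin] at this
    apply Nat.dvd_antisymm h6
    obtain ⟨c, hcS, hc⟩ := exists_cyc hF
    obtain ⟨s, hsS, hs⟩ := exists_swp hF
    let c₀ : G₀ := ⟨c, mem_std_of_mono (isMono_cyc hc), hcS⟩
    let s₀ : G₀ := ⟨s, mem_std_of_mono (isMono_swp hs), hsS⟩
    have hc1 : ∀ i, ψ₀ c₀ i = i + 1 := fun i => hψ₀ c₀ i _ 1 one_ne_zero (by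
      show (c : Matrix (Fin 3) (Fin 3) F) *ᵥ _ = _
      rw [hc, cyc_single, one_smul])
    have hs1 : ψ₀ s₀ 0 = 1 := hψ₀ s₀ 0 1 1 one_ne_zero (by
      show (s : Matrix (Fin 3) (Fin 3) F) *ᵥ _ = _
      rw [hs]; ext j; fin_cases j <;> simp [Matrix.mulVec_single_one])
    have hs2 : ψ₀ s₀ 1 = 0 := hψ₀ s₀ 1 0 1 one_ne_zero (by
      show (s : Matrix (Fin 3) (Fin 3) F) *ᵥ _ = _
      rw [hs]; ext j; fin_cases j <;> simp [Matrix.mulVec_single_one])
    have hs3 : ψ₀ s₀ 2 = 2 := hψ₀ s₀ 2 2 (-1) (by simp) (by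
      show (s : Matrix (Fin 3) (Fin 3) F) *ᵥ _ = _
      rw [hs]; ext j; fin_cases j <;> simp [Matrix.mulVec_single_one])
    have h3 : 3 ∣ Nat.card ψ₀.range := by
      have h4 : orderOf (⟨ψ₀ c₀, c₀, rfl⟩ : ψ₀.range) = 3 := by
        rw [← Subgroup.orderOf_coe]
        show orderOf (ψ₀ _) = _
        apply orderOf_eq_prime
        · ext i
          show ((ψ₀ c₀ (ψ₀ c₀ (ψ₀ c₀ i)) : Fin 3) : ℕ) = _
          rw [hc1, hc1, hc1]
          fin_cases i <;> rfl
        · intro h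
          have h5 := hc1 0
          rw [h] at h5
          exact absurd h5 (by decide)
      have h6 := orderOf_dvd_natCard (⟨ψ₀ c₀, c₀, rfl⟩ : ψ₀.range)
      rwa [h4] at h6
    have h2 : 2 ∣ Nat.card ψ₀.range := by
      have h4 : orderOf (⟨ψ₀ s₀, s₀, rfl⟩ : ψ₀.range) = 2 := by
        rw [← Subgroup.orderOf_coe]
        show orderOf (ψ₀ _) = _
        apply orderOf_eq_prime
        · ext i
          show ((ψ₀ s₀ (ψ₀ s₀ i) : Fin 3) : ℕ) = _
          fin_cases i
          · show ((ψ₀ s₀ (ψ₀ s₀ 0) : Fin 3) : ℕ) = _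
            rw [hs1, hs2]; rfl
          · show ((ψ₀ s₀ (ψ₀ s₀ 1) : Fin 3) : ℕ) = _
            rw [hs2, hs1]; rfl
          · show ((ψ₀ s₀ (ψ₀ s₀ 2) : Fin 3) : ℕ) = _
            rw [hs3, hs3]; rfl
        · intro h
          rw [h] at hs1
          exact absurd hs1 (by decide)
      have h6 := orderOf_dvd_natCard (⟨ψ₀ s₀, s₀, rfl⟩ : ψ₀.range)
      rwa [h4] at h6
    exact Nat.Coprime.mul_dvd_of_dvd_of_dvd (by norm_num : Nat.Coprime 2 3) h2 h3
  · -- the kernel
    obtain ⟨ζ, hζ⟩ := exists_orderOf_eq hF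
    have hζ0 : ζ ≠ 0 := by
      rintro rfl
      rw [orderOf_eq_zero_iff.2 (by
        intro h
        rw [isOfFinOrder_iff_pow_eq_one] at h
        obtain ⟨n, hn, h⟩ := h
        rw [zero_pow (by omega)] at h
        exact zero_ne_one h)] at hζ
      omega
    have hu : orderOf (Units.mk0 ζ hζ0) = q + 1 := by
      rw [← orderOf_units, Units.val_mk0, hζ]
    set U := Subgroup.zpowers (Units.mk0 ζ hζ0) with hU
    have hUc : Nat.card U = q + 1 := by rw [hU, Nat.card_zpowers, hu]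
    have hUp : ∀ z ∈ U, z ^ (q + 1) = 1 := by
      intro z hz
      have := pow_card_eq_one' (x := (⟨z, hz⟩ : U))
      rw [hUc] at this
      exact congrArg Subtype.val this
    have h3 : Nat.card ((U.prod U).map (dg (F := F))) = (q + 1) ^ 2 := by
      rw [Nat.card_congr ((U.prod U).equivMapOfInjective _ dg_injective).toEquiv.symm,
        Nat.card_congr (Subgroup.prodEquiv U U).toEquiv, Nat.card_prod, hUc, pow_two]
    have h4 : Nat.card ψ₀.ker = Nat.card (ψ₀.ker.map G₀.subtype) :=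
      Nat.card_congr (ψ₀.ker.equivMapOfInjective _ G₀.subtype_injective).toEquiv
    rw [h4, ← h3]
    congr 2
    apply le_antisymm
    · rintro _ ⟨g, hg, rfl⟩
      rw [SetLike.mem_coe, MonoidHom.mem_ker] at hg
      have h5 : ∀ i, ∃ a : F, ((g : GL (Fin 3) F) : Matrix (Fin 3) (Fin 3) F) *ᵥ Pi.single i 1 =
          a • Pi.single i 1 := by
        intro i
        have h6 : stdD F (ψ₀ g i) = _ := (hψ (Subgroup.inclusion inf_le_left g) i).symm
        have h7 : ((g : GL (Fin 3) F) : Matrix (Fin 3) (Fin 3) F) *ᵥ Pi.single i 1 ∈ stdD F (ψ₀ g i) := by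
          rw [h6]
          exact ⟨Pi.single i 1, Submodule.mem_span_singleton_self _, by
            rw [Matrix.toLin'_apply]; rfl⟩
        rw [hg] at h7
        obtain ⟨a, ha⟩ := Submodule.mem_span_singleton.1 h7
        exact ⟨a, ha.symm⟩
      choose a ha using h5
      obtain ⟨p, hp1, hp2, hp⟩ := eq_dg_of_diag hF g.2.2 ha
      refine ⟨p, Subgroup.mem_prod.2 ⟨?_, ?_⟩, hp.symm⟩
      · exact mem_zpowers_of_pow_eq_one (by rw [hu]; exact hp1)
      · exact mem_zpowers_of_pow_eq_one (by rw [hu]; exact hp2)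
    rintro _ ⟨p, hp, rfl⟩
    obtain ⟨hp1, hp2⟩ := Subgroup.mem_prod.1 hp
    have h5 : dg p ∈ G₀ := ⟨mem_std_of_mono (isMono_diag (dg_val p)), dg_mem hF (hUp _ hp1) (hUp _ hp2)⟩
    refine ⟨⟨dg p, h5⟩, ?_, rfl⟩
    rw [SetLike.mem_coe, MonoidHom.mem_ker]
    apply Equiv.ext
    intro i
    apply hψ₀ ⟨dg p, h5⟩ i i _ _ (by
      show ((dg p : GL (Fin 3) F) : Matrix (Fin 3) (Fin 3) F) *ᵥ _ = _
      rw [dg_val, diag_single])
    fin_cases i
    · exact p.1.ne_zero
    · exact p.2.ne_zero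
    · exact ((p.1 * p.2)⁻¹ : Fˣ).ne_zero

end Cfsg.Agent.H907.Mx
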