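import Mathlib
import Cfsg.Agent.H907.MxRow3

/-!
The monomial subgroup of `SU_3(q)` is maximal.
-/

set_option autoImplicit false
set_option linter.unusedSectionVars false
set_option linter.unusedSimpArgs false

namespace Cfsg.Agent.H907.Mx

open Cfsg Cfsg.Geo Matrix Cfsg.Agent.H907 Cfsg.Agent.H918 Cfsg.Agent.H907.SU3 Cfsg.Agent.LieClassical.HermBasic
open scoped MatrixGroups

variable {F : Type*} [Field F] [Fintype F] {q : ℕ}

/-- The image in the automorphism group. -/
theorem exists_image {H P G₀ : Subgroup (GL (Fin 3) F)} (hP : IsResidualCore H P) (hHS : H ≤ SUg 3 F q)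
    (hle : G₀ ≤ H) {X : Type*} [Group X] (e : PQ P ≃* X) :
    ∃ (B : Subgroup (MulAut X)) (k : ℕ), k ∣ 3 ∧ Nat.card G₀ = Nat.card B * k := by
  let f : G₀ →* MulAut X := (MulAut.congr e).toMonoidHom.comp ((cQ hP).comp (Subgroup.inclusion hle))
  refine ⟨f.range, Nat.card f.ker, ?_, ?_⟩
  · have h4 : Nat.card f.ker = Nat.card (f.ker.map G₀.subtype) :=
      Nat.card_congr (f.ker.equivMapOfInjective _ G₀.subtype_injective).toEquiv
    rw [h4]
    apply card_scalars_dvd (q := q)
    · rintro _ ⟨h, hh, rfl⟩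
      have h5 : MulAut.congr e (cQ hP (Subgroup.inclusion hle h)) = 1 := hh
      have h6 : cQ hP (Subgroup.inclusion hle h) = 1 := (MulAut.congr e).injective (by rw [h5, map_one])
      exact (cQ_ker hP).1 h6
    · rintro _ ⟨h, hh, rfl⟩
      exact hHS (hle h.2)
  · rw [Subgroup.card_eq_card_quotient_mul_card_subgroup f.ker,
      Nat.card_congr (QuotientGroup.quotientKerEquivRange f).toEquiv]

theorem two_ne (hF : Fintype.card F = q ^ 2) (hodd : Odd q) : (2 : F) ≠ 0 := by
  intro h0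
  have h1 : ringChar F = 2 := by
    have := (CharP.cast_eq_zero_iff F (ringChar F) 2).1 (by exact_mod_cast h0)
    rcases (Nat.dvd_prime Nat.prime_two).1 this with h | h
    · exact absurd h (CharP.ringChar_ne_one)
    · exact h
  have h3 := FiniteField.even_card_of_char_two h1
  rw [hF] at h3
  have h4 := Nat.odd_iff.1 (hodd.pow (n := 2))
  omega

theorem val_pow_diag {g : GL (Fin 3) F} {δ : Fin 3 → F} (h : (g : Matrix (Fin 3) (Fin 3) F) = Matrix.diagonal δ)
    (k : ℕ) : ((g ^ k : GL (Fin 3) F) : Matrix (Fin 3) (Fin 3) F) = Matrix.diagonal (δ ^ k) := by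
  rw [Units.val_pow_eq_pow_val, h, Matrix.diagonal_pow]

theorem val_inv_diag {g : GL (Fin 3) F} {δ : Fin 3 → F} (h : (g : Matrix (Fin 3) (Fin 3) F) = Matrix.diagonal δ) :
    ((g⁻¹ : GL (Fin 3) F) : Matrix (Fin 3) (Fin 3) F) = Matrix.diagonal fun i => (δ i)⁻¹ := by
  have hd : (Matrix.diagonal δ).det ≠ 0 := by
    rw [← h]
    exact ((Matrix.isUnit_iff_isUnit_det _).1 g.isUnit).ne_zero
  rw [Matrix.det_diagonal, Finset.prod_ne_zero_iff] at hd
  have h1 : (g : Matrix (Fin 3) (Fin 3) F) * Matrix.diagonal (fun i => (δ i)⁻¹) = 1 := by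
    rw [h, Matrix.diagonal_mul_diagonal, ← Matrix.diagonal_one]
    congr 1
    funext i
    exact mul_inv_cancel₀ (hd i (Finset.mem_univ _))
  calc ((g⁻¹ : GL (Fin 3) F) : Matrix (Fin 3) (Fin 3) F) =
      ((g⁻¹ : GL (Fin 3) F) : Matrix (Fin 3) (Fin 3) F) * ((g : Matrix (Fin 3) (Fin 3) F) *
        Matrix.diagonal (fun i => (δ i)⁻¹)) := by rw [h1, mul_one]
    _ = _ := by rw [← mul_assoc, ← Units.val_mul, inv_mul_cancel, Units.val_one, one_mul]

/-- **J4** for `diag(ζ, ζ⁻¹, 1)`. -/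
theorem cube_one_of_field (hF : Fintype.card F = q ^ 2) {K : Subalgebra F (Matrix (Fin 3) (Fin 3) F)}
    (hK : IsFieldSubalgebra 3 K) {g : GL (Fin 3) F} (hg : g ∈ subalgebraNormalizer K) {ζ : F}
    (hζ : ζ ^ (q + 1) = 1) (h : (g : Matrix (Fin 3) (Fin 3) F) = Matrix.diagonal ![ζ, ζ⁻¹, 1]) : ζ ^ 3 = 1 := by
  have hq := q_pos hF
  have hdvd : q + 1 ∣ Fintype.card F - 1 := by
    rw [hF]
    obtain ⟨k, rfl⟩ : ∃ k, q = k + 1 := ⟨q - 1, by omega⟩
    refine ⟨k, ?_⟩
    have : (k + 1) ^ 2 = (k + 1 + 1) * k + 1 := by ring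
    rw [this, Nat.add_sub_cancel]
  have h1 : g ^ (q + 1) = 1 := by
    apply Units.ext
    rw [val_pow_diag h, Units.val_one, ← Matrix.diagonal_one]
    congr 1
    funext i
    fin_cases i <;> simp [hζ]
  obtain ⟨c, hc⟩ := cube_scalar hK hg (by
    obtain ⟨k, hk⟩ := hdvd
    rw [hk, ← pow_mul, mul_comm 3, mul_assoc, pow_mul, h1, one_pow])
  rw [val_pow_diag h] at hc
  have h2 := congrFun (congrFun hc 0) 0
  have h3 := congrFun (congrFun hc 2) 2
  simp at h2 h3
  rw [h2, h3]

/-- **J5** for `diag(ζ, ζ⁻¹, 1)`. -/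
theorem pow_card_of_sub {F₁ : Subfield F} {r : ℕ} (hr : Odd r) (hcard : Fintype.card F = Nat.card F₁ ^ r)
    {P g : GL (Fin 3) F} (hg : g ∈ subfieldSubgroup F₁ P) {ζ : F} (h0 : ζ ≠ 0)
    (h : (g : Matrix (Fin 3) (Fin 3) F) = Matrix.diagonal ![ζ, ζ⁻¹, 1]) : ζ ^ Nat.card F₁ = ζ := by
  apply pow_card_of_trace hr hcard hg h0
  · rw [h, Matrix.trace_diagonal, Fin.sum_univ_three]
    simp; ring
  · rw [val_inv_diag h, Matrix.trace_diagonal, Fin.sum_univ_three]
    simp; ring

theorem injective_of {ζ : F} (h0 : ζ ≠ 0) (h2 : ζ ^ 2 ≠ 1) : Function.Injective ![ζ, ζ⁻¹, 1] := by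
  have h1 : ζ ≠ 1 := by rintro rfl; simp at h2
  have h3 : ζ ≠ ζ⁻¹ := by
    intro h
    apply h2
    rw [pow_two]
    nth_rw 2 [h]
    exact mul_inv_cancel₀ h0
  have h4 : ζ⁻¹ ≠ 1 := by
    intro h
    exact h1 (inv_eq_one.1 h)
  intro i j hij
  fin_cases i <;> fin_cases j <;> simp [h1, h3, h4, h1.symm, h3.symm, h4.symm] at hij ⊢

theorem pow_ne_one_of {ζ : F} {N k : ℕ} (h : orderOf ζ = N) (h0 : 0 < k) (h1 : k < N) : ζ ^ k ≠ 1 := by
  intro h2
  have := Nat.le_of_dvd h0 (orderOf_dvd_of_pow_eq_one h2)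
  omega

/-- **The monomial subgroup.** -/
theorem row3_std (hF : Fintype.card F = q ^ 2) (hq : 3 ≤ q) (hq5 : q ≠ 5) :
    IsMaximalIn (SUg 3 F q) (decompositionStabilizer (stdD F) ⊓ SUg 3 F q) := by
  have h32 : ¬ (3 = 3 ∧ q = 2) := by omega
  obtain ⟨ζ, hζ⟩ := exists_orderOf_eq hF
  have hζ1 : ζ ^ (q + 1) = 1 := hζ ▸ pow_orderOf_eq_one ζ
  have hζ0 : ζ ≠ 0 := by
    rintro rfl
    rw [zero_pow (by omega)] at hζ1
    exact zero_ne_one hζ1
  have hζi : (ζ⁻¹) ^ (q + 1) = 1 := by rw [inv_pow, hζ1, inv_one]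
  obtain ⟨x, hxS, hx⟩ := exists_diag hF hζ1 hζi (one_pow _) (by rw [mul_one]; exact mul_inv_cancel₀ hζ0)
  obtain ⟨y, hyS, hy⟩ := exists_diag hF (c := (ζ⁻¹) ^ 2) hζ1 hζ1 (by rw [← pow_mul, mul_comm, pow_mul, hζi, one_pow])
    (by field_simp)
  obtain ⟨c, hcS, hc⟩ := exists_cyc hF
  have hxB : x ∈ decompositionStabilizer (stdD F) ⊓ SUg 3 F q := ⟨mem_std_of_mono (isMono_diag hx), hxS⟩
  have hyB : y ∈ decompositionStabilizer (stdD F) ⊓ SUg 3 F q := ⟨mem_std_of_mono (isMono_diag hy), hyS⟩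
  have hcB : c ∈ decompositionStabilizer (stdD F) ⊓ SUg 3 F q := ⟨mem_std_of_mono (isMono_cyc hc), hcS⟩
  refine maximal_of hF hq hq5 (SUg_not_le_decompositionStabilizer hF (by norm_num) h32 (std_decomp hF).decomp)
    ?_ ?_ ?_ ?_ ?_ ?_ ?_ ?_
  · -- reducible
    intro W hW0 hW1 hle
    rcases irr_of (injective_of hζ0 (pow_ne_one_of hζ (by norm_num) (by omega))) hx hc
      (mulVec_mem_of_stab (hle hxB)) (mulVec_mem_of_stab (hle hcB)) with h | h
    · exact hW0 h
    · exact hW1 h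
  · -- decompositions
    intro P hP hle
    exact same_type hP (dec_map P) hle
  · -- fields
    intro K hK _ _ hle
    exact absurd (cube_one_of_field hF hK (hle hxB) hζ1 hx) (pow_ne_one_of hζ (by norm_num) (by omega))
  · -- subfields
    intro F₁ r P hr hodd hcard hP hle
    exfalso
    obtain ⟨q₁, hq₁, hqq, hN, -⟩ := orderOf_cube_dvd hF hodd hcard hP (hle hxB) hxS
    have h1 := pow_card_of_sub hodd hcard (hle hxB) hζ0 hx
    rw [hN] at h1
    have h2 : ζ ^ (q₁ ^ 2 - 1) = 1 := by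
      have h3 : ζ ^ (q₁ ^ 2 - 1) * ζ = 1 * ζ := by
        rw [← pow_succ, Nat.sub_add_cancel (Nat.one_le_pow _ _ (by omega)), h1, one_mul]
      exact mul_right_cancel₀ hζ0 h3
    have hr3 : 3 ≤ r := by
      have := hr.two_le
      rcases this.lt_or_eq with h | h
      · exact h
      · rw [← h] at hodd; exact absurd hodd (by decide)
    have h4 : q₁ ^ 2 < q := by rw [hqq]; exact Nat.pow_lt_pow_right (by omega) (by omega)
    have h5 : 1 < q₁ ^ 2 := Nat.one_lt_pow (by norm_num) (by omega)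
    exact pow_ne_one_of hζ (by omega) (by omega) h2
  · -- the real type
    intro hodd h7 F₁ P hcard hP hle
    exfalso
    have h1 := real_cube hF (two_ne hF hodd) hcard hP (hle hyB) hyS
    rw [val_pow_diag hy, ← Matrix.diagonal_one, Matrix.diagonal_sub, Matrix.det_diagonal, Fin.prod_univ_three] at h1
    simp only [Pi.pow_apply, Matrix.cons_val_zero, Matrix.cons_val_one, Matrix.cons_val_two, Matrix.head_cons,
      Matrix.tail_cons, mul_eq_zero, or_self, sub_eq_zero, Matrix.cons_val] at h1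
    have h6 : ζ ^ 6 = 1 := by
      rcases h1 with h1 | h1
      · rw [show 6 = 3 * 2 by norm_num, pow_mul, h1, one_pow]
      · rw [← pow_mul, inv_pow, inv_eq_one] at h1
        exact h1
    exact pow_ne_one_of hζ (by norm_num) (by omega) h6
  · -- symplectic type
    intro R hqp hq3 h11 hR hirr hsim hcard hcen hle
    exfalso
    have hodd : Odd q := hqp.odd_of_ne_two (by omega)
    have h2 := two_ne hF hodd
    have hn1 : (-1 : F) ^ (q + 1) = 1 := by
      rw [pow_succ, neg_pow_q hF, one_pow]; ring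
    have hne : (-1 : F) ≠ 1 := by
      intro h
      apply h2
      linear_combination -h
    obtain ⟨a, haS, ha⟩ := exists_diag hF hn1 hn1 (one_pow _) (by ring : (-1 : F) * -1 * 1 = 1)
    obtain ⟨b, hbS, hb⟩ := exists_diag hF (one_pow _) hn1 hn1 (by ring : (1 : F) * -1 * -1 = 1)
    have haB : a ∈ decompositionStabilizer (stdD F) ⊓ SUg 3 F q := ⟨mem_std_of_mono (isMono_diag ha), haS⟩
    have hbB : b ∈ decompositionStabilizer (stdD F) ⊓ SUg 3 F q := ⟨mem_std_of_mono (isMono_diag hb), hbS⟩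
    refine symp_no_klein hirr hcard hcen (hle haB) (hle hbB) ?_ ?_ ?_ ?_ ?_ ?_
    · apply Units.ext
      rw [Units.val_mul, ha, Matrix.diagonal_mul_diagonal, Units.val_one, ← Matrix.diagonal_one]
      congr 1
      funext i
      fin_cases i <;> simp
    · apply Units.ext
      rw [Units.val_mul, hb, Matrix.diagonal_mul_diagonal, Units.val_one, ← Matrix.diagonal_one]
      congr 1
      funext i
      fin_cases i <;> simp
    · apply Units.ext
      rw [Units.val_mul, Units.val_mul, ha, hb, Matrix.diagonal_mul_diagonal, Matrix.diagonal_mul_diagonal]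
      congr 1
      funext i
      fin_cases i <;> simp
    · rintro ⟨d, hd⟩
      rw [ha] at hd
      have h3 := congrFun (congrFun hd 0) 0
      have h4 := congrFun (congrFun hd 2) 2
      simp at h3 h4
      exact hne (h3.trans h4.symm)
    · rintro ⟨d, hd⟩
      rw [hb] at hd
      have h3 := congrFun (congrFun hd 0) 0
      have h4 := congrFun (congrFun hd 2) 2
      simp at h3 h4
      exact hne (h4.trans h3.symm)
    · rintro ⟨d, hd⟩
      rw [Units.val_mul, ha, hb, Matrix.diagonal_mul_diagonal] at hd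
      have h3 := congrFun (congrFun hd 0) 0
      have h4 := congrFun (congrFun hd 1) 1
      simp at h3 h4
      exact hne (h3.trans h4.symm)
  · -- `L₂(7)`
    intro H hle hcard hqp _
    have h1 : 6 * (q + 1) ^ 2 ∣ 1008 := by
      rw [← card_std hF]
      exact (Subgroup.card_dvd_of_le hle).trans hcard
    have h2 : q < 12 := by
      by_contra h
      have h3 := Nat.le_of_dvd (by norm_num) h1
      nlinarith
    interval_cases q <;> revert h1 <;> decide
  · -- `A₆`
    intro H P hle hHS hP he hqp h15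
    obtain ⟨e⟩ := he
    obtain ⟨B, k, hk, hBk⟩ := exists_image hP hHS hle e
    rw [card_std hF] at hBk
    have h1 : Nat.card B ∣ 1440 := by
      rw [← Cfsg.Agent.H824.ProdLem.card_aut_a6]
      exact Subgroup.card_subgroup_dvd_card _
    have h2 : 6 * (q + 1) ^ 2 ∣ 4320 := by
      rw [hBk, show 4320 = 1440 * 3 by norm_num]
      exact mul_dvd_mul h1 hk
    have h3 : q < 27 := by
      by_contra h
      have h3 := Nat.le_of_dvd (by norm_num) h2
      nlinarith
    have h4 : q = 11 := by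
      interval_cases q <;> omega
    subst h4
    rcases (Nat.dvd_prime Nat.prime_three).1 hk with rfl | rfl
    · rw [mul_one] at hBk
      rw [← hBk] at h1
      exact absurd h1 (by decide)
    · exact no_288 B (by omega)

end Cfsg.Agent.H907.Mx
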