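import Mathlib
import Cfsg.Agent.H907.MxRow3b

/-!
The normaliser of an extension field in `SU_3(q)` is maximal.
-/

set_option autoImplicit false
set_option linter.unusedSectionVars false
set_option linter.unusedSimpArgs false

namespace Cfsg.Agent.H907.Mx

open Cfsg Cfsg.Geo Matrix Cfsg.Agent.H907 Cfsg.Agent.H918 Cfsg.Agent.H907.SU3 Cfsg.Agent.LieClassical.HermBasic
open scoped MatrixGroups

/-! ### Arithmetic of `q² - q + 1` -/

section arith

theorem dd_eq (q : ℕ) (hq : 1 ≤ q) : q ^ 2 - q + 1 = q * (q - 1) + 1 := by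
  obtain ⟨k, rfl⟩ : ∃ k, q = k + 1 := ⟨q - 1, by omega⟩
  have : (k + 1) ^ 2 = (k + 1) * k + (k + 1) := by ring
  rw [this, Nat.add_sub_cancel, Nat.add_sub_cancel]

theorem dd_odd {q : ℕ} (hq : 1 ≤ q) : ¬ 2 ∣ q ^ 2 - q + 1 := by
  rw [dd_eq q hq]
  have : 2 ∣ q * (q - 1) := by
    rcases Nat.even_or_odd q with h | h
    · exact Dvd.dvd.mul_right h.two_dvd _
    · obtain ⟨k, rfl⟩ := h
      exact Dvd.dvd.mul_left ⟨k, by omega⟩ _
  omega

theorem dd_nine {q : ℕ} (hq : 1 ≤ q) : ¬ 9 ∣ q ^ 2 - q + 1 := by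
  rw [dd_eq q hq]
  obtain ⟨k, rfl⟩ : ∃ k, q = k + 1 := ⟨q - 1, by omega⟩
  rw [Nat.add_sub_cancel]
  intro h
  have h1 : ((k + 1) * k + 1) % 9 = 0 := Nat.mod_eq_zero_of_dvd h
  have h2 : k % 9 < 9 := Nat.mod_lt _ (by norm_num)
  rw [Nat.add_mod, Nat.mul_mod, Nat.add_mod k 1] at h1
  interval_cases k % 9 <;> omega

theorem dd_add {q : ℕ} (hq : 2 ≤ q) : q ^ 2 - q + 1 = (q + 1) * (q - 2) + 3 := by
  obtain ⟨k, rfl⟩ : ∃ k, q = k + 2 := ⟨q - 2, by omega⟩
  have : (k + 2) ^ 2 = (k + 2 + 1) * k + 2 + (k + 2) := by ring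
  rw [this, Nat.add_sub_cancel, Nat.add_sub_cancel]

theorem dd_coprime {q s : ℕ} (hq : 2 ≤ q) (hs : s.Prime) (h : s ∣ q ^ 2 - q + 1) (h3 : s ≠ 3) :
    ¬ s ∣ q ^ 3 * (q ^ 2 - 1) := by
  intro h1
  rcases hs.dvd_mul.1 h1 with h2 | h2
  · have h4 := hs.dvd_of_dvd_pow h2
    rw [dd_eq q (by omega)] at h
    exact hs.one_lt.ne' (Nat.dvd_one.1 ((Nat.dvd_add_right (h4.mul_right _)).1 h))
  · have h4 : q ^ 2 - 1 = (q - 1) * (q + 1) := by
      have := Nat.sq_sub_sq q 1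
      rw [one_pow] at this
      rw [this, mul_comm]
    rw [h4] at h2
    rcases hs.dvd_mul.1 h2 with h5 | h5
    · rw [dd_eq q (by omega)] at h
      exact hs.one_lt.ne' (Nat.dvd_one.1 ((Nat.dvd_add_right (h5.mul_left _)).1 h))
    · rw [dd_add hq] at h
      exact h3 ((Nat.prime_dvd_prime_iff_eq hs Nat.prime_three).1 ((Nat.dvd_add_right (h5.mul_right _)).1 h))

/-- the part prime to three -/
theorem dd_three {q : ℕ} (hq : 2 ≤ q) : ¬ 3 ∣ (q ^ 2 - q + 1) / Nat.gcd (q ^ 2 - q + 1) 3 := by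
  intro h
  have hd : Nat.gcd (q ^ 2 - q + 1) 3 ∣ q ^ 2 - q + 1 := Nat.gcd_dvd_left _ _
  rcases (Nat.dvd_prime Nat.prime_three).1 (Nat.gcd_dvd_right (q ^ 2 - q + 1) 3) with h1 | h1
  · rw [h1, Nat.div_one] at h
    have : 3 ∣ Nat.gcd (q ^ 2 - q + 1) 3 := Nat.dvd_gcd h dvd_rfl
    rw [h1] at this
    omega
  · rw [h1] at h hd
    apply dd_nine (q := q) (by omega)
    obtain ⟨m, hm⟩ := hd
    rw [hm, Nat.mul_div_cancel_left _ (by norm_num)] at h
    rw [hm]
    exact mul_dvd_mul_left 3 h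

end arith

variable {F : Type*} [Field F] [Fintype F] {q : ℕ}

section field

variable {K : Subalgebra F (Matrix (Fin 3) (Fin 3) F)} (hK : IsFieldSubalgebra 3 K)
include hK

theorem exists_big (hF : Fintype.card F = q ^ 2) (hadj : IsAdjointClosedFor (hermForm 3 F q) K) :
    ∃ y : GL (Fin 3) F, (y : Matrix (Fin 3) (Fin 3) F) ∈ K ∧ y ∈ SUg 3 F q ∧ orderOf y = q ^ 2 - q + 1 := by
  have hcyc := isCyclic_KU hK
  have hfin : Finite (KU hK) := inferInstance
  have hcard := card_KU hK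
  have hq := two_le hF
  obtain ⟨g, hg⟩ := IsCyclic.exists_ofOrder_eq_natCard (α := KU hK)
  have hdd := dd_eq q (by omega)
  have h3 : q ^ 3 + 1 = (q ^ 2 - q + 1) * (q + 1) := by
    rw [hdd]
    obtain ⟨k, rfl⟩ : ∃ k, q = k + 1 := ⟨q - 1, by omega⟩
    rw [Nat.add_sub_cancel]; ring
  have hdvd : q ^ 2 - q + 1 ∣ Nat.card (KU hK) := by
    rw [hcard, hF]
    have h4 : (q ^ 2) ^ 3 - 1 = (q ^ 3 + 1) * (q ^ 3 - 1) := by
      have : (q ^ 2) ^ 3 = (q ^ 3) ^ 2 := by ring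
      rw [this]
      have := Nat.sq_sub_sq (q ^ 3) 1
      simpa using this
    rw [h4, h3, mul_assoc]
    exact Dvd.intro _ rfl
  have hpos : 0 < Nat.card (KU hK) := Nat.card_pos
  set y : KU hK := g ^ (Nat.card (KU hK) / (q ^ 2 - q + 1)) with hy
  have hyo : orderOf y = q ^ 2 - q + 1 := by
    rw [hy, ← hg]
    exact orderOf_pow_orderOf_div (by rw [hg]; exact hpos.ne') (by rw [hg]; exact hdvd)
  have hyo' : orderOf (y : GL (Fin 3) F) = q ^ 2 - q + 1 := by
    rw [← hyo]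
    exact orderOf_injective (KU hK).subtype (Subgroup.subtype_injective _) y
  refine ⟨y, y.2, mem_SUg.2 ⟨?_, ?_⟩, hyo'⟩
  · refine mem_GU.1 ((mem_GU_iff_pow hF hK hadj y.2).2 ?_)
    rw [h3, pow_mul, ← hyo', pow_orderOf_eq_one, one_pow]
  · have h2 := pow_eq_det (K := K) (by rw [Fintype.card_fin]; exact hK) (x := ((y : GL (Fin 3) F) : Matrix (Fin 3) (Fin 3) F)) y.2
    rw [hF, Fintype.card_fin] at h2
    have h3 : ((q ^ 2) ^ 3 - 1) / (q ^ 2 - 1) = q ^ 4 + q ^ 2 + 1 := by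
      apply Nat.div_eq_of_eq_mul_left
      · have : 2 ^ 2 ≤ q ^ 2 := Nat.pow_le_pow_left hq 2
        omega
      · obtain ⟨m, hm⟩ : ∃ m, q ^ 2 = m + 1 := ⟨q ^ 2 - 1, by
          have : 2 ^ 2 ≤ q ^ 2 := Nat.pow_le_pow_left hq 2
          omega⟩
        have h4 : q ^ 4 = (m + 1) ^ 2 := by rw [← hm]; ring
        rw [h4, hm]
        have : (m + 1) ^ 3 - 1 = ((m + 1) ^ 2 + (m + 1) + 1) * m := by
          have : (m + 1) ^ 3 = ((m + 1) ^ 2 + (m + 1) + 1) * m + 1 := by ring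
          omega
        simpa using this
    have h6 : q ^ 4 + q ^ 2 + 1 = (q ^ 2 - q + 1) * (q ^ 2 + q + 1) := by
      rw [hdd]
      obtain ⟨k, rfl⟩ : ∃ k, q = k + 1 := ⟨q - 1, by omega⟩
      rw [Nat.add_sub_cancel]; ring
    rw [h3, h6, ← Units.val_pow_eq_pow_val, pow_mul, ← hyo', pow_orderOf_eq_one, one_pow, Units.val_one] at h2
    have h7 := congrFun (congrFun h2 0) 0
    simp at h7
    exact h7.symm

theorem irr_of_field {z : Matrix (Fin 3) (Fin 3) F} (hz : z ∈ K)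
    (hns : ¬ ∃ c : F, z = c • (1 : Matrix (Fin 3) (Fin 3) F)) {W : Submodule F (Fin 3 → F)}
    (hW : ∀ w ∈ W, z *ᵥ w ∈ W) : W = ⊥ ∨ W = ⊤ := by
  by_cases h0 : W = ⊥
  · exact Or.inl h0
  right
  obtain ⟨v, hvW, hv⟩ := Submodule.exists_mem_ne_zero_of_ne_bot h0
  -- `W` is invariant under `K`
  have h1 : Algebra.adjoin F {z} ≤ K := Algebra.adjoin_le (by simpa using hz)
  have h2 : ∀ m ∈ K, m ∈ Algebra.adjoin F {z} := by
    intro m hm
    apply mem_of_commute Nat.prime_three (Fintype.card_fin 3) (Algebra.adjoin F {z})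
      (fun a ha b hb => hK.comm a (h1 ha) b (h1 hb)) (by
        intro a ha h0
        obtain ⟨b, hb, hab⟩ := hK.inv a (h1 ha) h0
        exact IsUnit.of_mul_eq_one b hab) ⟨z, Algebra.subset_adjoin rfl, hns⟩
    exact adjoin_commute (S := {z}) (by simpa using hK.comm m hm z hz)
  have h3 : ∀ m ∈ Algebra.adjoin F {z}, ∀ w ∈ W, m *ᵥ w ∈ W := by
    intro m hm
    induction hm using Algebra.adjoin_induction with
    | mem x hx =>
      rw [Set.mem_singleton_iff] at hx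
      rw [hx]; exact hW
    | algebraMap r =>
      intro w hw
      rw [Algebra.algebraMap_eq_smul_one, Matrix.smul_mulVec, Matrix.one_mulVec]
      exact W.smul_mem _ hw
    | add x y _ _ hx hy =>
      intro w hw
      rw [Matrix.add_mulVec]
      exact W.add_mem (hx w hw) (hy w hw)
    | mul x y _ _ hx hy =>
      intro w hw
      rw [← Matrix.mulVec_mulVec]
      exact hx _ (hy w hw)
  let f : K →ₗ[F] (Fin 3 → F) :=
    { toFun := fun y => (y : Matrix (Fin 3) (Fin 3) F) *ᵥ v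
      map_add' := fun a b => by simp [Matrix.add_mulVec]
      map_smul' := fun c a => by simp [Matrix.smul_mulVec] }
  have hinj : Function.Injective f := by
    rw [injective_iff_map_eq_zero]
    intro a ha
    by_contra h0
    obtain ⟨y, hy, hay⟩ := hK.inv a a.2 (fun h => h0 (Subtype.ext h))
    apply hv
    have h2 : (a : Matrix (Fin 3) (Fin 3) F) *ᵥ v = 0 := ha
    have h3 : y *ᵥ ((a : Matrix (Fin 3) (Fin 3) F) *ᵥ v) = 0 := by rw [h2, Matrix.mulVec_zero]
    rwa [Matrix.mulVec_mulVec, hK.comm _ hy _ a.2, hay, Matrix.one_mulVec] at h3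
  have hsurj : Function.Surjective f := by
    have h1 : Module.finrank F K = Module.finrank F (Fin 3 → F) := by
      rw [hK.finrank_eq, Module.finrank_fin_fun]
    exact (LinearMap.injective_iff_surjective_of_finrank_eq_finrank h1).1 hinj
  rw [eq_top_iff]
  intro w _
  obtain ⟨k, rfl⟩ := hsurj w
  exact h3 k (h2 k k.2) v hvW

theorem eq_of_common {K' : Subalgebra F (Matrix (Fin 3) (Fin 3) F)} (hK' : IsFieldSubalgebra 3 K')
    {z : Matrix (Fin 3) (Fin 3) F} (hz : z ∈ K) (hz' : z ∈ K')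
    (hns : ¬ ∃ c : F, z = c • (1 : Matrix (Fin 3) (Fin 3) F)) : K = K' :=
  le_antisymm (fun m hm => mem_of_comm hK' hz' hns (hK.comm m hm z hz))
    (fun m hm => mem_of_comm hK hz hns (hK'.comm m hm z hz'))

theorem mem_normalizer_of_mem {y : GL (Fin 3) F} (hy : (y : Matrix (Fin 3) (Fin 3) F) ∈ K) :
    y ∈ subalgebraNormalizer K := by
  have hyi : ((y⁻¹ : GL (Fin 3) F) : Matrix (Fin 3) (Fin 3) F) ∈ K := (KU hK).inv_mem (x := y) hy
  intro k
  constructor
  · intro hk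
    exact K.mul_mem (K.mul_mem hy hk) hyi
  · intro hk
    have h1 := K.mul_mem (K.mul_mem hyi hk) hy
    have h2 : ((y⁻¹ : GL (Fin 3) F) : Matrix (Fin 3) (Fin 3) F) * ((y : Matrix (Fin 3) (Fin 3) F) * k *
        ((y⁻¹ : GL (Fin 3) F) : Matrix (Fin 3) (Fin 3) F)) * (y : Matrix (Fin 3) (Fin 3) F) = k := by
      calc _ = (((y⁻¹ : GL (Fin 3) F) : Matrix (Fin 3) (Fin 3) F) * (y : Matrix (Fin 3) (Fin 3) F)) * k *
          (((y⁻¹ : GL (Fin 3) F) : Matrix (Fin 3) (Fin 3) F) * (y : Matrix (Fin 3) (Fin 3) F)) := by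
            simp only [mul_assoc]
        _ = k := by rw [← Units.val_mul, inv_mul_cancel, Units.val_one, one_mul, mul_one]
    rwa [h2] at h1

end field

/-- a scalar element of the special unitary group has order dividing three -/
theorem pow_three_of_scalar {s : GL (Fin 3) F} (hS : s ∈ SUg 3 F q)
    (h : ∃ c : F, (s : Matrix (Fin 3) (Fin 3) F) = c • (1 : Matrix (Fin 3) (Fin 3) F)) : s ^ 3 = 1 := by
  obtain ⟨c, hc⟩ := h
  have hd := (mem_SUg.1 hS).2
  rw [hc, Matrix.det_smul, Matrix.det_one, mul_one, Fintype.card_fin] at hd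
  apply Units.ext
  rw [Units.val_pow_eq_pow_val, hc, _root_.smul_pow, hd, one_pow, one_smul, Units.val_one]

/-- **The normaliser of an extension field.** -/
theorem row4 (hF : Fintype.card F = q ^ 2) (hq : 3 ≤ q) (hq3 : q ≠ 3) (hq5 : q ≠ 5)
    {K : Subalgebra F (Matrix (Fin 3) (Fin 3) F)} (hK : IsFieldSubalgebra 3 K)
    (hadj : IsAdjointClosedFor (hermForm 3 F q) K) :
    IsMaximalIn (SUg 3 F q) (subalgebraNormalizer K ⊓ SUg 3 F q) := by
  have h32 : ¬ (3 = 3 ∧ q = 2) := by omega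
  obtain ⟨y, hyK, hyS, hy⟩ := exists_big hK hF hadj
  have hyB : y ∈ subalgebraNormalizer K ⊓ SUg 3 F q := ⟨mem_normalizer_of_mem hK hyK, hyS⟩
  have hdd := dd_eq q (by omega)
  have hd13 : 13 ≤ q ^ 2 - q + 1 := by
    rw [hdd]
    obtain ⟨k, rfl⟩ : ∃ k, q = k + 4 := ⟨q - 4, by omega⟩
    rw [show k + 4 - 1 = k + 3 by omega]
    nlinarith
  have hpK : ∀ k : ℕ, ((y ^ k : GL (Fin 3) F) : Matrix (Fin 3) (Fin 3) F) ∈ K := fun k =>
    (KU hK).pow_mem (x := y) hyK k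
  have hns : ∀ k : ℕ, 0 < k → k < 13 → k ∣ 6 →
      ¬ ∃ c : F, ((y ^ k : GL (Fin 3) F) : Matrix (Fin 3) (Fin 3) F) = c • (1 : Matrix (Fin 3) (Fin 3) F) := by
    intro k _ _ hk hsc
    have h1 := pow_three_of_scalar ((SUg 3 F q).pow_mem hyS k) hsc
    rw [← pow_mul] at h1
    have h2 := orderOf_dvd_of_pow_eq_one h1
    rw [hy] at h2
    have h3 : q ^ 2 - q + 1 ∣ 18 := h2.trans (by
      obtain ⟨m, hm⟩ := hk
      exact ⟨m, by rw [mul_comm k 3, mul_assoc, ← hm]; norm_num⟩)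
    have h4 : q ^ 2 - q + 1 ≤ 18 := Nat.le_of_dvd (by norm_num) h3
    have h5 := dd_odd (q := q) (by omega)
    obtain ⟨m, hm⟩ := h3
    have h6 : m ≤ 1 := by nlinarith
    interval_cases m <;> omega
  refine maximal_of hF hq hq5 (SUg_not_le_subalgebraNormalizer hF (by norm_num) h32 (by norm_num) hK)
    ?_ ?_ ?_ ?_ ?_ ?_ ?_ ?_
  · -- reducible
    intro W hW0 hW1 hle
    have h1 := hns 1 (by norm_num) (by norm_num) (by norm_num)
    rw [pow_one] at h1
    rcases irr_of_field hK hyK h1 (mulVec_mem_of_stab (hle hyB)) with h | h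
    · exact hW0 h
    · exact hW1 h
  · -- decompositions
    intro P hP hle
    exfalso
    have hdec := (frame_decomp hF hP).decomp
    obtain ⟨ψ, hψ⟩ := exists_permHom hdec
    have hy0 : y ∈ decompositionStabilizer (frm P) := hle hyB
    have h1 : ψ (⟨y, hy0⟩ ^ 6) = 1 := by
      rw [map_pow]
      have := pow_card_eq_one' (x := ψ ⟨y, hy0⟩)
      rwa [Nat.card_perm, Nat.card_fin] at this
    have h2 := hψ (⟨y, hy0⟩ ^ 6) 0
    rw [h1, Equiv.Perm.one_apply] at h2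
    have h3 : ∀ w ∈ frm P 0, ((y ^ 6 : GL (Fin 3) F) : Matrix (Fin 3) (Fin 3) F) *ᵥ w ∈ frm P 0 := by
      intro w hw
      have h4 : ((y ^ 6 : GL (Fin 3) F) : Matrix (Fin 3) (Fin 3) F) *ᵥ w ∈
          (frm P 0).map (Matrix.toLin' ((y ^ 6 : GL (Fin 3) F) : Matrix (Fin 3) (Fin 3) F)) :=
        ⟨w, hw, Matrix.toLin'_apply _ _⟩
      have h5 : (frm P 0).map (Matrix.toLin' ((y ^ 6 : GL (Fin 3) F) : Matrix (Fin 3) (Fin 3) F)) = frm P 0 := h2
      rwa [h5] at h4
    have h4 : Module.finrank F (frm P 0) = 1 := hdec.finrank_eq 0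
    rcases irr_of_field hK (hpK 6) (hns 6 (by norm_num) (by norm_num) (by norm_num)) h3 with h | h
    · rw [h, finrank_bot] at h4; omega
    · rw [h, finrank_top, Module.finrank_fin_fun] at h4; omega
  · -- fields
    intro K' hK' _ _ hle
    have h1 := eq_of_common hK hK' (hpK 3) (cube_mem hK' (hle hyB)) (hns 3 (by norm_num) (by norm_num) (by norm_num))
    rw [h1]
    exact inf_le_left
  · -- subfields
    intro F₁ r P hr hodd hcard hP hle
    exfalso
    obtain ⟨q₁, hq₁, hqq, -, hdvd⟩ := orderOf_cube_dvd hF hodd hcard hP (hle hyB) hyS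
    rw [orderOf_pow, hy] at hdvd
    set N := (q ^ 2 - q + 1) / Nat.gcd (q ^ 2 - q + 1) 3 with hN
    have hNd : N ∣ q ^ 2 - q + 1 := Nat.div_dvd_of_dvd (Nat.gcd_dvd_left _ _)
    have hN3 : ¬ 3 ∣ N := dd_three (by omega)
    have hcop : Nat.Coprime N (q₁ ^ 3 * (q₁ ^ 2 - 1)) := by
      apply Nat.Coprime.coprime_dvd_right (m := q ^ 3 * (q ^ 2 - 1))
      · apply mul_dvd_mul
        · rw [hqq]
          exact pow_dvd_pow_of_dvd (dvd_pow_self q₁ hr.ne_zero) 3
        · have h1 : q ^ 2 = (q₁ ^ 2) ^ r := by rw [hqq, ← pow_mul, ← pow_mul, mul_comm]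
          rw [h1]
          have := Nat.sub_dvd_pow_sub_pow (q₁ ^ 2) 1 r
          rwa [one_pow] at this
      · apply Nat.Coprime.symm
        rw [Nat.coprime_iff_gcd_eq_one]
        by_contra hne
        obtain ⟨s, hs, hsd⟩ := Nat.exists_prime_and_dvd hne
        have h1 := hsd.trans (Nat.gcd_dvd_left _ _)
        have h2 := hsd.trans (Nat.gcd_dvd_right _ _)
        refine dd_coprime (by omega) hs (h2.trans hNd) ?_ h1
        rintro rfl
        exact hN3 h2
    have h1 : N ∣ q₁ ^ 3 + 1 := hcop.dvd_of_dvd_mul_left hdvd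
    have h2 : N ≤ q₁ ^ 3 + 1 := Nat.le_of_dvd (Nat.succ_pos _) h1
    have hr3 : 3 ≤ r := by
      have := hr.two_le
      rcases this.lt_or_eq with h | h
      · exact h
      · rw [← h] at hodd; exact absurd hodd (by decide)
    have h3 : q₁ ^ 3 ≤ q := by rw [hqq]; exact Nat.pow_le_pow_right (by omega) hr3
    have h4 : 2 ^ 3 ≤ q₁ ^ 3 := Nat.pow_le_pow_left hq₁ 3
    have h5 : q ^ 2 - q + 1 ≤ N * 3 := by
      have h6 : q ^ 2 - q + 1 = N * Nat.gcd (q ^ 2 - q + 1) 3 :=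
        (Nat.div_mul_cancel (Nat.gcd_dvd_left _ _)).symm
      calc q ^ 2 - q + 1 = N * Nat.gcd (q ^ 2 - q + 1) 3 := h6
        _ ≤ N * 3 := Nat.mul_le_mul_left _ (Nat.le_of_dvd (by norm_num) (Nat.gcd_dvd_right _ _))
    rw [hdd] at h5
    obtain ⟨k, rfl⟩ : ∃ k, q = k + 8 := ⟨q - 8, by omega⟩
    rw [show k + 8 - 1 = k + 7 by omega] at h5
    nlinarith
  · -- the real type
    intro hodd h7 F₁ P hcard hP hle
    exfalso
    have h1 := real_cube hF (two_ne hF hodd) hcard hP (hle hyB) hyS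
    have h2 : ((y ^ 3 : GL (Fin 3) F) : Matrix (Fin 3) (Fin 3) F) - 1 ∈ K := K.sub_mem (hpK 3) K.one_mem
    have h3 : ((y ^ 3 : GL (Fin 3) F) : Matrix (Fin 3) (Fin 3) F) - 1 ≠ 0 := by
      intro h
      apply hns 3 (by norm_num) (by norm_num) (by norm_num)
      exact ⟨1, by rw [one_smul]; exact sub_eq_zero.1 h⟩
    obtain ⟨b, -, hb⟩ := hK.inv _ h2 h3
    have h4 := congrArg Matrix.det hb
    rw [Matrix.det_mul, h1, zero_mul, Matrix.det_one] at h4
    exact zero_ne_one h4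
  · -- symplectic type
    intro R hqp hq3' h11 hR hirr hsim hcard hcen hle
    exfalso
    set N := (q ^ 2 - q + 1) / Nat.gcd (q ^ 2 - q + 1) 3 with hN
    have hNd : N ∣ q ^ 2 - q + 1 := Nat.div_dvd_of_dvd (Nat.gcd_dvd_left _ _)
    have hN3 : ¬ 3 ∣ N := dd_three (by omega)
    have h6 : q ^ 2 - q + 1 = N * Nat.gcd (q ^ 2 - q + 1) 3 :=
      (Nat.div_mul_cancel (Nat.gcd_dvd_left _ _)).symm
    have hN1 : N ≠ 1 := by
      intro h
      rw [h, one_mul] at h6
      have := Nat.le_of_dvd (by norm_num) (Nat.gcd_dvd_right (q ^ 2 - q + 1) 3)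
      omega
    obtain ⟨s, hs, hsN⟩ := Nat.exists_prime_and_dvd hN1
    have hs3 : s ≠ 3 := by rintro rfl; exact hN3 hsN
    have hs2 : s ≠ 2 := by rintro rfl; exact dd_odd (q := q) (by omega) (hsN.trans hNd)
    have hs5 : 5 ≤ s := by
      have := hs.two_le
      rcases Nat.lt_or_ge s 5 with h | h
      · interval_cases s
        · exact absurd rfl hs2
        · exact absurd rfl hs3
        · exact absurd hs (by norm_num)
      · exact h
    have hzo : orderOf (y ^ ((q ^ 2 - q + 1) / s)) = s := by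
      have := orderOf_pow_orderOf_div (x := y) (n := s) (by rw [hy]; omega) (by rw [hy]; exact hsN.trans hNd)
      rwa [hy] at this
    have hzB : y ^ ((q ^ 2 - q + 1) / s) ∈ subalgebraNormalizer K ⊓ SUg 3 F q := Subgroup.pow_mem _ hyB _
    have h7 := symp_prime hirr hcard hcen (hle hzB) hs hs5 (by
      have := pow_orderOf_eq_one (y ^ ((q ^ 2 - q + 1) / s))
      rwa [hzo] at this)
    have h8 := pow_three_of_scalar hzB.2 h7
    have h9 := Nat.le_of_dvd (by norm_num) (hzo ▸ orderOf_dvd_of_pow_eq_one h8)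
    omega
  · -- `L₂(7)`
    intro H hle hcard hqp _
    have h1 : q ^ 2 - q + 1 ∣ 1008 := by
      refine dvd_trans ?_ hcard
      have h2 : orderOf (⟨y, hle hyB⟩ : H) = q ^ 2 - q + 1 := by rw [Subgroup.orderOf_mk, hy]
      exact h2 ▸ orderOf_dvd_natCard _
    have h2 : q < 40 := by
      by_contra h
      have h3 := Nat.le_of_dvd (by norm_num) h1
      rw [hdd] at h3
      obtain ⟨k, rfl⟩ : ∃ k, q = k + 40 := ⟨q - 40, by omega⟩
      rw [show k + 40 - 1 = k + 39 by omega] at h3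
      nlinarith
    clear hns hpK hyB hyK hy hdd hd13 h32 hle
    interval_cases q <;> omega
  · -- `A₆`
    intro H P hle hHS hP he hqp h15
    have h1 : q ^ 2 - q + 1 ∣ 4320 := by
      refine dvd_trans ?_ (card_dvd_a6 hP hHS he)
      have h2 : orderOf (⟨y, hle hyB⟩ : H) = q ^ 2 - q + 1 := by rw [Subgroup.orderOf_mk, hy]
      exact h2 ▸ orderOf_dvd_natCard _
    have h2 : q < 70 := by
      by_contra h
      have h3 := Nat.le_of_dvd (by norm_num) h1
      rw [hdd] at h3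
      obtain ⟨k, rfl⟩ : ∃ k, q = k + 70 := ⟨q - 70, by omega⟩
      rw [show k + 70 - 1 = k + 69 by omega] at h3
      nlinarith
    clear hns hpK hyB hyK hy hdd hd13 h32 hle
    interval_cases q <;> omega

end Cfsg.Agent.H907.Mx
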