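import Mathlib
import Cfsg.Agent.H907.MxRow3b

/-!
The group of order 27 and the Fourier matrix in `SU_3(q)`.
-/

set_option autoImplicit false
set_option linter.unusedSectionVars false
set_option linter.unusedSimpArgs false

namespace Cfsg.Agent.H907.Mx

open Cfsg Cfsg.Geo Matrix Cfsg.Agent.H907 Cfsg.Agent.H918 Cfsg.Agent.H907.SU3 Cfsg.Agent.LieClassical.HermBasic
open scoped MatrixGroups

variable {F : Type*} [Field F]

/-- The Fourier matrix. -/
def fourier (ω : F) : Matrix (Fin 3) (Fin 3) F :=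
  (ω - ω ^ 2)⁻¹ • !![1, 1, 1; 1, ω, ω ^ 2; 1, ω ^ 2, ω]

section basic

variable {ω : F} (hω : ω ^ 2 + ω + 1 = 0)
include hω

theorem om_cube : ω ^ 3 = 1 := by
  have : ω ^ 3 - 1 = (ω - 1) * (ω ^ 2 + ω + 1) := by ring
  rw [hω, mul_zero] at this
  exact sub_eq_zero.1 this

theorem om_ne_zero : ω ≠ 0 := by
  rintro rfl
  have := om_cube hω
  rw [zero_pow (by norm_num)] at this
  exact zero_ne_one this

theorem theta_sq : (ω - ω ^ 2) ^ 2 = -3 := by
  linear_combination (ω ^ 2 - 3 * ω + 3) * hω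

theorem om_ne_one (h3 : (3 : F) ≠ 0) : ω ≠ 1 := by
  rintro rfl
  apply h3
  linear_combination hω

theorem theta_ne (h3 : (3 : F) ≠ 0) : ω - ω ^ 2 ≠ 0 := by
  intro h
  have := theta_sq hω
  rw [h, zero_pow (by norm_num)] at this
  exact h3 (by linear_combination this)

theorem om_injective (h3 : (3 : F) ≠ 0) : Function.Injective ![1, ω, ω ^ 2] := by
  have h1 := om_ne_one hω h3
  have h0 := om_ne_zero hω
  have h2 : ω ^ 2 ≠ 1 := by
    intro h
    have := om_cube hω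
    rw [pow_succ, h, one_mul] at this
    exact h1 this
  have h4 : ω ^ 2 ≠ ω := by
    intro h
    apply h1
    have : ω * ω = ω * 1 := by rw [← pow_two, h, mul_one]
    exact mul_left_cancel₀ h0 this
  intro i j hij
  fin_cases i <;> fin_cases j <;> simp [h1, h2, h4, h1.symm, h2.symm, h4.symm] at hij ⊢

theorem fourier_X : (!![0, 0, 1; 1, 0, 0; 0, 1, 0] : Matrix (Fin 3) (Fin 3) F) * fourier ω *
    Matrix.diagonal ![1, ω, ω ^ 2] = fourier ω := by
  have h3 := om_cube hω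
  have h4 : ω ^ 4 = ω := by rw [show 4 = 3 + 1 by norm_num, pow_add, h3, one_mul, pow_one]
  rw [fourier, Matrix.mul_smul, Matrix.smul_mul]
  congr 1
  ext i j
  fin_cases i <;> fin_cases j <;>
    simp [Matrix.mul_apply, Fin.sum_univ_three, Matrix.diagonal_apply, ← pow_succ', ← pow_succ, ← pow_add, h3, h4,
      ← pow_two, ← pow_mul]

theorem fourier_C : fourier ω * (!![0, 0, 1; 1, 0, 0; 0, 1, 0] : Matrix (Fin 3) (Fin 3) F) =
    Matrix.diagonal ![1, ω, ω ^ 2] * fourier ω := by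
  have h3 := om_cube hω
  have h4 : ω ^ 4 = ω := by rw [show 4 = 3 + 1 by norm_num, pow_add, h3, one_mul, pow_one]
  rw [fourier, Matrix.mul_smul, Matrix.smul_mul]
  congr 1
  ext i j
  fin_cases i <;> fin_cases j <;>
    simp [Matrix.mul_apply, Fin.sum_univ_three, Matrix.diagonal_apply, ← pow_succ', ← pow_succ, ← pow_add, h3, h4,
      ← pow_two, ← pow_mul]

theorem rel_X {X C Φ : GL (Fin 3) F} (hX : (X : Matrix (Fin 3) (Fin 3) F) = Matrix.diagonal ![1, ω, ω ^ 2])
    (hC : (C : Matrix (Fin 3) (Fin 3) F) = !![0, 0, 1; 1, 0, 0; 0, 1, 0])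
    (hΦ : (Φ : Matrix (Fin 3) (Fin 3) F) = fourier ω) : Φ * X * Φ⁻¹ = C⁻¹ := by
  have h1 : C * Φ * X = Φ := by
    apply Units.ext
    rw [Units.val_mul, Units.val_mul, hX, hC, hΦ, fourier_X hω]
  calc Φ * X * Φ⁻¹ = C⁻¹ * (C * Φ * X) * Φ⁻¹ := by group
    _ = C⁻¹ := by rw [h1, mul_inv_cancel_right]

theorem rel_C {X C Φ : GL (Fin 3) F} (hX : (X : Matrix (Fin 3) (Fin 3) F) = Matrix.diagonal ![1, ω, ω ^ 2])
    (hC : (C : Matrix (Fin 3) (Fin 3) F) = !![0, 0, 1; 1, 0, 0; 0, 1, 0])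
    (hΦ : (Φ : Matrix (Fin 3) (Fin 3) F) = fourier ω) : Φ * C * Φ⁻¹ = X := by
  have h1 : Φ * C = X * Φ := by
    apply Units.ext
    rw [Units.val_mul, Units.val_mul, hX, hC, hΦ, fourier_C hω]
  rw [h1, mul_inv_cancel_right]

end basic

section dec

theorem s3_aux' : ∀ a b f : Equiv.Perm (Fin 3), (a * (a * a) = 1 ∧ b * (b * b) = 1 ∧ b * (f * a) = f ∧ f * b = a * f) →
    a = 1 ∧ b = 1 := by decide

theorem s3_aux (a b f : Equiv.Perm (Fin 3)) (ha : a ^ 3 = 1) (hb : b ^ 3 = 1) (h1 : f * a * f⁻¹ = b⁻¹)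
    (h2 : f * b * f⁻¹ = a) : a = 1 ∧ b = 1 := by
  apply s3_aux' a b f
  refine ⟨by rw [← ha, pow_succ', pow_two], by rw [← hb, pow_succ', pow_two], ?_, ?_⟩
  · rw [mul_inv_eq_iff_eq_mul] at h1
    rw [h1, mul_inv_cancel_left]
  · rwa [mul_inv_eq_iff_eq_mul] at h2

variable {ω : F} (hω : ω ^ 2 + ω + 1 = 0) (h3 : (3 : F) ≠ 0)
  {X C Φ : GL (Fin 3) F} (hX : (X : Matrix (Fin 3) (Fin 3) F) = Matrix.diagonal ![1, ω, ω ^ 2])
  (hC : (C : Matrix (Fin 3) (Fin 3) F) = !![0, 0, 1; 1, 0, 0; 0, 1, 0])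

include hω hX in
theorem X_cube : X ^ 3 = 1 := by
  have h := om_cube hω
  apply Units.ext
  rw [Units.val_pow_eq_pow_val, hX, Matrix.diagonal_pow, Units.val_one, ← Matrix.diagonal_one]
  congr 1
  funext i
  fin_cases i
  · simp
  · simpa using h
  · show (ω ^ 2) ^ 3 = 1
    rw [← pow_mul, mul_comm, pow_mul, h, one_pow]

include hC in
theorem C_cube : C ^ 3 = 1 := by
  apply Units.ext
  rw [Units.val_pow_eq_pow_val, hC, Units.val_one]
  ext i j
  fin_cases i <;> fin_cases j <;> simp [pow_succ, Matrix.mul_apply, Fin.sum_univ_three]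

include hω h3 hX hC in
/-- `X`, `C` and the Fourier matrix do not permute three lines. -/
theorem dec_R0 {D : Fin 3 → Submodule F (Fin 3 → F)} (hD : IsMDecomposition 1 D)
    (hΦ : (Φ : Matrix (Fin 3) (Fin 3) F) = fourier ω)
    (h1 : X ∈ decompositionStabilizer D) (h2 : C ∈ decompositionStabilizer D)
    (h4 : Φ ∈ decompositionStabilizer D) : False := by
  obtain ⟨ψ, hψ⟩ := exists_permHom hD
  obtain ⟨ha, hb⟩ := s3_aux (ψ ⟨X, h1⟩) (ψ ⟨C, h2⟩) (ψ ⟨Φ, h4⟩)
    (by rw [← map_pow, show (⟨X, h1⟩ ^ 3 : decompositionStabilizer D) = 1 from Subtype.ext (X_cube hω hX), map_one])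
    (by rw [← map_pow, show (⟨C, h2⟩ ^ 3 : decompositionStabilizer D) = 1 from Subtype.ext (C_cube hC), map_one])
    (by rw [← map_mul, ← map_inv, ← map_mul, ← map_inv]; exact congrArg ψ (Subtype.ext (rel_X hω hX hC hΦ)))
    (by rw [← map_mul, ← map_inv, ← map_mul]; exact congrArg ψ (Subtype.ext (rel_C hω hX hC hΦ)))
  have hinv : ∀ g : decompositionStabilizer D, ψ g = 1 →
      ∀ w ∈ D 0, ((g : GL (Fin 3) F) : Matrix (Fin 3) (Fin 3) F) *ᵥ w ∈ D 0 := by
    intro g hg w hw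
    have h5 := hψ g 0
    rw [hg, Equiv.Perm.one_apply] at h5
    rw [← h5]
    exact ⟨w, hw, Matrix.toLin'_apply _ _⟩
  have h6 : Module.finrank F (D 0) = 1 := hD.finrank_eq 0
  rcases irr_of (om_injective hω h3) hX hC (hinv _ ha) (hinv _ hb) with h | h
  · rw [h, finrank_bot] at h6; omega
  · rw [h, finrank_top, Module.finrank_fin_fun] at h6; omega

include hX in
theorem entry_XC (i j : Fin 3) : ((X * C : GL (Fin 3) F) : Matrix (Fin 3) (Fin 3) F) i j =
    ![1, ω, ω ^ 2] i * (C : Matrix (Fin 3) (Fin 3) F) i j := by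
  rw [Units.val_mul, hX, Matrix.diagonal_mul]

include hω h3 hX hC in
/-- `X` and `C` do not normalise a field. -/
theorem field_R0 [Fintype F] {q : ℕ} (hF : Fintype.card F = q ^ 2) (hq : ¬ 3 ∣ q)
    {K : Subalgebra F (Matrix (Fin 3) (Fin 3) F)} (hK : IsFieldSubalgebra 3 K)
    (h1 : X ∈ subalgebraNormalizer K) (h2 : C ∈ subalgebraNormalizer K) : False := by
  have hq2 := two_le hF
  have hdvd : 3 ∣ Fintype.card F - 1 := by
    rw [hF]
    have h5 : q % 3 = 1 ∨ q % 3 = 2 := by omega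
    have h6 : q ^ 2 % 3 = 1 := by
      rcases h5 with h | h <;> rw [Nat.pow_mod, h]
    have : 1 ≤ q ^ 2 := Nat.one_le_pow _ _ (by omega)
    omega
  -- elements of `K` of order three are scalar
  have key : ∀ k : GL (Fin 3) F, (k : Matrix (Fin 3) (Fin 3) F) ∈ K → k ^ 3 = 1 →
      ∃ c : F, (k : Matrix (Fin 3) (Fin 3) F) = c • (1 : Matrix (Fin 3) (Fin 3) F) := by
    intro k hk hk3
    apply scalar_of_pow hK hk
    obtain ⟨m, hm⟩ := hdvd
    have h5 : Fintype.card F = 3 * m + 1 := by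
      have : 0 < Fintype.card F := Fintype.card_pos
      omega
    rw [h5, pow_succ, pow_mul, ← Units.val_pow_eq_pow_val, hk3, Units.val_one, one_pow, one_mul]
  have hX3 := X_cube hω hX
  have hC3 := C_cube hC
  have hw0 := om_ne_zero hω
  -- `C X C⁻¹`
  have hCi : ((C⁻¹ : GL (Fin 3) F) : Matrix (Fin 3) (Fin 3) F) = !![0, 1, 0; 0, 0, 1; 1, 0, 0] := by
    have h5 : C⁻¹ = C * C := by
      rw [inv_eq_iff_mul_eq_one, ← mul_assoc, ← pow_two, ← pow_succ, hC3]
    rw [h5, Units.val_mul, hC]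
    ext i j
    fin_cases i <;> fin_cases j <;> simp [Matrix.mul_apply, Fin.sum_univ_three]
  have hXC3 : (X * C) ^ 3 = 1 := by
    have hc := om_cube hω
    apply Units.ext
    rw [Units.val_pow_eq_pow_val, Units.val_mul, hX, hC, Units.val_one]
    ext i j
    fin_cases i <;> fin_cases j <;>
      simp [pow_succ, Matrix.mul_apply, Fin.sum_univ_three, Matrix.diagonal_apply] <;>
      linear_combination hc
  have hXCi3 : (X * C⁻¹) ^ 3 = 1 := by
    have hc := om_cube hω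
    apply Units.ext
    rw [Units.val_pow_eq_pow_val, Units.val_mul, hX, hCi, Units.val_one]
    ext i j
    fin_cases i <;> fin_cases j <;>
      simp [pow_succ, Matrix.mul_apply, Fin.sum_univ_three, Matrix.diagonal_apply] <;>
      linear_combination hc
  rcases pair_mem hK h1 h2 with h | h | h | h
  · obtain ⟨c, hc⟩ := key X h hX3
    rw [hX] at hc
    have h5 := congrFun (congrFun hc 0) 0
    have h6 := congrFun (congrFun hc 1) 1
    simp at h5 h6
    exact om_ne_one hω h3 (h6.trans h5.symm)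
  · obtain ⟨c, hc⟩ := key C h hC3
    rw [hC] at hc
    have h5 := congrFun (congrFun hc 1) 0
    simp at h5
  · obtain ⟨c, hc⟩ := key (X * C) h hXC3
    have h5 := congrFun (congrFun hc 1) 0
    rw [entry_XC hX, hC] at h5
    simp at h5
    exact hw0 h5
  · obtain ⟨c, hc⟩ := key (X * C⁻¹) h hXCi3
    have h5 := congrFun (congrFun hc 0) 1
    rw [entry_XC hX, hCi] at h5
    simp at h5

end dec

section unitary

variable [Fintype F] {q : ℕ} (hF : Fintype.card F = q ^ 2) (hq3 : q % 3 = 2) {ω : F} (hω : ω ^ 2 + ω + 1 = 0)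
  (h3 : (3 : F) ≠ 0)
include hF hq3 hω

theorem om_pow : ω ^ (q + 1) = 1 := by
  obtain ⟨m, hm⟩ : 3 ∣ q + 1 := by omega
  rw [hm, pow_mul, om_cube hω, one_pow]

theorem om_q : ω ^ q = ω ^ 2 := by
  obtain ⟨m, hm⟩ : ∃ m, q = 3 * m + 2 := ⟨q / 3, by omega⟩
  rw [hm, pow_add, pow_mul, om_cube hω, one_pow, one_mul]

theorem exists_X : ∃ g ∈ SUg 3 F q, (g : Matrix (Fin 3) (Fin 3) F) = Matrix.diagonal ![1, ω, ω ^ 2] := by
  have h := om_pow hF hq3 hω
  apply exists_diag hF (one_pow _) h (by rw [← pow_mul, mul_comm, pow_mul, h, one_pow])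
  rw [one_mul, ← pow_succ']; exact om_cube hω

include h3 in
theorem exists_Phi : ∃ g ∈ SUg 3 F q, (g : Matrix (Fin 3) (Fin 3) F) = fourier ω := by
  have hq := om_q hF hq3 hω
  have hc := om_cube hω
  have ht := theta_ne hω h3
  have ht2 := theta_sq hω
  have hq0 := q_pos hF
  have hq2 : (ω ^ 2) ^ q = ω := by
    rw [← pow_mul, mul_comm, pow_mul, hq, ← pow_mul, show 2 * 2 = 3 + 1 by norm_num, pow_succ, hc, one_mul]
  have htq : ((ω - ω ^ 2)⁻¹) ^ q = -(ω - ω ^ 2)⁻¹ := by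
    have : (ω - ω ^ 2) ^ q = -(ω - ω ^ 2) := by
      have h5 : (ω - ω ^ 2) ^ q = ω ^ q - (ω ^ 2) ^ q := by
        rw [sub_eq_add_neg, add_pow_q hF, neg_pow_q hF, ← sub_eq_add_neg]
      rw [h5, hq, hq2]; ring
    rw [inv_pow, this, inv_neg]
  have h4 : ω ^ 4 = ω := by rw [show 4 = 3 + 1 by norm_num, pow_add, hc, one_mul, pow_one]
  apply exists_SU_of hF
  · have h5 : ct q (fourier ω) = (-(ω - ω ^ 2)⁻¹) • !![1, 1, 1; 1, ω ^ 2, ω; 1, ω, ω ^ 2] := by
      ext i j
      fin_cases i <;> fin_cases j <;> simp [ct, fourier, mul_pow, htq, hq, hq2]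
    rw [h5, fourier, Matrix.smul_mul, Matrix.mul_smul, smul_smul]
    have h6 : (!![1, 1, 1; 1, ω ^ 2, ω; 1, ω, ω ^ 2] : Matrix (Fin 3) (Fin 3) F) *
        !![1, 1, 1; 1, ω, ω ^ 2; 1, ω ^ 2, ω] = (3 : F) • 1 := by
      ext i j
      fin_cases i <;> fin_cases j <;> simp [Matrix.mul_apply, Fin.sum_univ_three]
      · ring
      · linear_combination hω
      · linear_combination hω
      · linear_combination hω
      · linear_combination 2 * hc
      · linear_combination hω + (ω : F) * hc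
      · linear_combination hω
      · linear_combination hω + (ω : F) * hc
      · linear_combination 2 * hc
    rw [h6, smul_smul]
    have h7 : -(ω - ω ^ 2)⁻¹ * (ω - ω ^ 2)⁻¹ * 3 = 1 := by
      generalize ω - ω ^ 2 = t at ht ht2
      field_simp
      linear_combination -ht2
    rw [h7, one_smul]
  · rw [fourier, Matrix.det_smul, Fintype.card_fin, Matrix.det_fin_three]
    have h8 : (!![1, 1, 1; 1, ω, ω ^ 2; 1, ω ^ 2, ω] : Matrix (Fin 3) (Fin 3) F).det = -3 * (ω - ω ^ 2) := by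
      rw [Matrix.det_fin_three]
      simp
      linear_combination -ω * hc
    rw [Matrix.det_fin_three] at h8
    rw [h8]
    generalize ω - ω ^ 2 = t at ht ht2
    field_simp
    linear_combination -ht2

end unitary

end Cfsg.Agent.H907.Mx
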