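import Mathlib
import Cfsg.Agent.H907.MxR0

/-!
The subfield subgroups of `SU_3(q)` of odd prime index are maximal.
-/

set_option autoImplicit false
set_option linter.unusedSectionVars false
set_option linter.unusedSimpArgs false

namespace Cfsg.Agent.H907.Mx

open Cfsg Cfsg.Geo Matrix Cfsg.Agent.H907 Cfsg.Agent.H918 Cfsg.Agent.H907.SU3 Cfsg.Agent.LieClassical.HermBasic
open Cfsg.Agent.H914 Cfsg.Agent.H930.GUSub
open scoped MatrixGroups commutatorElement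

/-! ### Arithmetic -/

theorem pow_dvd_aux {t a b : ℕ} (ht : 2 ≤ t) (ha : 0 < a) (h : t ^ a + 1 ∣ t ^ (2 * b) - 1) : a ∣ b := by
  have hpos : ∀ k, 1 ≤ t ^ k := fun k => Nat.one_le_pow _ _ (by omega)
  -- `t ^ (2 a) ≡ 1`
  have h1 : ∀ k, (t ^ (2 * a * k) : ℕ) ≡ 1 [MOD t ^ a + 1] := by
    intro k
    have h2 : t ^ (2 * a) ≡ 1 [MOD t ^ a + 1] := by
      have h3 : t ^ (2 * a) = (t ^ a - 1) * (t ^ a + 1) + 1 := by
        have := hpos a
        obtain ⟨m, hm⟩ : ∃ m, t ^ a = m + 1 := ⟨t ^ a - 1, by omega⟩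
        rw [mul_comm 2 a, pow_mul, hm, Nat.add_sub_cancel]; ring
      rw [h3]
      exact Nat.modEq_iff_dvd' (by omega) |>.2 (by simp) |>.symm
    rw [pow_mul]
    have := h2.pow k
    rwa [one_pow] at this
  have hb : b = a * (b / a) + b % a := (Nat.div_add_mod b a).symm
  set s := b % a with hs
  have hsa : s < a := Nat.mod_lt _ ha
  have h2 : t ^ (2 * b) ≡ 1 [MOD t ^ a + 1] := ((Nat.modEq_iff_dvd' (hpos _)).2 h).symm
  have h3 : t ^ (2 * s) ≡ 1 [MOD t ^ a + 1] := by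
    have h4 : t ^ (2 * b) = t ^ (2 * a * (b / a)) * t ^ (2 * s) := by
      rw [← pow_add]; congr 1; conv_lhs => rw [hb]
      ring
    rw [h4] at h2
    have h5 := (h1 (b / a)).mul_right (t ^ (2 * s))
    rw [one_mul] at h5
    exact h5.symm.trans h2
  have hs0 : s = 0 := by
    by_contra h0
    rcases Nat.lt_or_ge (2 * s) (a + 1) with h4 | h4
    · -- `t ^ (2 s) ≤ t ^ a`
      have h5 : t ^ (2 * s) ≤ t ^ a := Nat.pow_le_pow_right (by omega) (by omega)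
      have h6 : 1 < t ^ (2 * s) := Nat.one_lt_pow (by omega) (by omega)
      have h7 := Nat.ModEq.eq_of_lt_of_lt h3 (by omega) (by have := hpos a; omega)
      omega
    · have h5 : t ^ (2 * s) + t ^ (2 * s - a) ≡ 0 [MOD t ^ a + 1] := by
        have h6 : t ^ (2 * s) = t ^ a * t ^ (2 * s - a) := by
          rw [← pow_add]; congr 1; omega
        rw [h6, show t ^ a * t ^ (2 * s - a) + t ^ (2 * s - a) = (t ^ a + 1) * t ^ (2 * s - a) by ring]
        exact (Nat.modEq_zero_iff_dvd).2 (Dvd.intro _ rfl)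
      have h6 : 1 + t ^ (2 * s - a) ≡ 0 [MOD t ^ a + 1] := (h3.symm.add_right _).trans h5
      have h7 : t ^ a + 1 ∣ 1 + t ^ (2 * s - a) := (Nat.modEq_zero_iff_dvd).1 h6
      have h8 := Nat.le_of_dvd (by omega) h7
      have h9 : t ^ (2 * s - a) < t ^ a := Nat.pow_lt_pow_right (by omega) (by omega)
      omega
  exact Nat.dvd_of_mod_eq_zero hs0

/-- `q₀ ^ r = q₁ ^ r'` with distinct primes `r`, `r'`. -/
theorem exists_common {p n q₀ q₁ r r' : ℕ} (hp : p.Prime) (hq : q₀ ^ r = p ^ n) (hq' : q₀ ^ r = q₁ ^ r')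
    (hr : r.Prime) (hr' : r'.Prime) (hne : r ≠ r') : ∃ t, q₀ = t ^ r' ∧ q₁ = t ^ r := by
  have h1 : q₀ ∣ p ^ n := hq ▸ dvd_pow_self q₀ hr.ne_zero
  have h2 : q₁ ∣ p ^ n := by rw [← hq, hq']; exact dvd_pow_self q₁ hr'.ne_zero
  obtain ⟨a, -, rfl⟩ := (Nat.dvd_prime_pow hp).1 h1
  obtain ⟨b, -, rfl⟩ := (Nat.dvd_prime_pow hp).1 h2
  rw [← pow_mul, ← pow_mul] at hq'
  have h3 : a * r = b * r' := Nat.pow_right_injective hp.two_le hq'
  have hcop : Nat.Coprime r' r := (Nat.coprime_primes hr' hr).2 hne.symm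
  have h4 : r' ∣ a := hcop.dvd_of_dvd_mul_right (by rw [h3]; exact dvd_mul_left _ _)
  obtain ⟨m, rfl⟩ := h4
  refine ⟨p ^ m, by rw [← pow_mul, mul_comm], ?_⟩
  rw [← pow_mul]
  congr 1
  have h5 : r' * (m * r) = r' * b := by rw [← mul_assoc, h3, mul_comm]
  exact (Nat.eq_of_mul_eq_mul_left hr'.pos h5).symm

/-- Homomorphisms of perfect groups to the symmetric group of degree three. -/
theorem hom_perm_three {G : Type*} [Group G] (hG : ⁅(⊤ : Subgroup G), (⊤ : Subgroup G)⁆ = ⊤)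
    (f : G →* Equiv.Perm (Fin 3)) (g : G) : f g = 1 := by
  have h1 : ⁅f.range, f.range⁆ = f.range := by
    rw [MonoidHom.range_eq_map, ← Subgroup.map_commutator, hG]
  have h3 : ∀ a : Equiv.Perm (Fin 3), Equiv.Perm.sign a = 1 → ∀ b : Equiv.Perm (Fin 3), Equiv.Perm.sign b = 1 →
      a * b = b * a := by decide
  have h4 : f.range ≤ Equiv.Perm.sign.ker := by
    rw [← h1, Subgroup.commutator_le]
    intro a _ b _
    rw [MonoidHom.mem_ker, map_commutatorElement, commutatorElement_eq_one_iff_mul_comm, mul_comm]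
  have h5 : f.range ≤ ⊥ := by
    rw [← h1, Subgroup.commutator_le]
    intro a ha b hb
    rw [Subgroup.mem_bot, commutatorElement_eq_one_iff_mul_comm]
    exact h3 a (h4 ha) b (h4 hb)
  exact (Subgroup.mem_bot.1 (h5 ⟨g, rfl⟩))

section sub

variable {F : Type*} [Field F] [Fintype F] {q : ℕ} {F₀ : Subfield F} [Fintype F₀] {q₀ : ℕ}

/-- extension of scalars -/
abbrev ext (F₀ : Subfield F) : GL (Fin 3) F₀ →* GL (Fin 3) F := Matrix.GeneralLinearGroup.map (F₀.subtype : F₀ →+* F)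

theorem ext_val (g : GL (Fin 3) F₀) : ((ext F₀ g : GL (Fin 3) F) : Matrix (Fin 3) (Fin 3) F) =
    (g : Matrix (Fin 3) (Fin 3) F₀).map F₀.subtype := rfl

theorem ext_mem (S : Setup F₀ q q₀) {g : GL (Fin 3) F₀} (hg : g ∈ SUg 3 F₀ q₀) : ext F₀ g ∈ SUg 3 F q := by
  rw [mem_SUg]
  refine ⟨mem_GU.1 ((mem_GU_iff_ct S.hF).2 ?_), ?_⟩
  · have h1 := (mem_GU_iff_ct S.hF₀).1 hg.1
    have h2 : ct q ((ext F₀ g : GL (Fin 3) F) : Matrix (Fin 3) (Fin 3) F) =
        (ct q₀ (g : Matrix (Fin 3) (Fin 3) F₀)).map F₀.subtype := by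
      ext i j
      exact S.pow_eq _
    rw [h2, ext_val, ← Matrix.map_mul, h1, Matrix.map_one _ (map_zero _) (map_one _)]
  · rw [ext_val]
    have h1 := (mem_SUg.1 hg).2
    have h2 := RingHom.map_det F₀.subtype (g : Matrix (Fin 3) (Fin 3) F₀)
    rw [h1, map_one] at h2
    exact h2.symm

theorem ext_mem_sub (g : GL (Fin 3) F₀) : ext F₀ g ∈ subfieldSubgroup F₀ (1 : GL (Fin 3) F) := by
  rw [mem_subfieldSubgroup_iff]
  refine ⟨1, one_ne_zero, fun i j => ?_⟩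
  rw [one_mul, inv_one, one_mul, mul_one, ext_val]
  exact (g.1 i j).2

theorem ext_diag {g : GL (Fin 3) F₀} {a b c : F₀} (h : (g : Matrix (Fin 3) (Fin 3) F₀) = Matrix.diagonal ![a, b, c]) :
    ((ext F₀ g : GL (Fin 3) F) : Matrix (Fin 3) (Fin 3) F) = Matrix.diagonal ![(a : F), b, c] := by
  rw [ext_val, h]
  ext i j
  fin_cases i <;> fin_cases j <;> simp [Matrix.diagonal_apply]

theorem ext_cyc {g : GL (Fin 3) F₀} (h : (g : Matrix (Fin 3) (Fin 3) F₀) = !![0, 0, 1; 1, 0, 0; 0, 1, 0]) :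
    ((ext F₀ g : GL (Fin 3) F) : Matrix (Fin 3) (Fin 3) F) = !![0, 0, 1; 1, 0, 0; 0, 1, 0] := by
  rw [ext_val, h]
  ext i j
  fin_cases i <;> fin_cases j <;> simp

theorem ext_fourier {ω : F₀} {g : GL (Fin 3) F₀} (h : (g : Matrix (Fin 3) (Fin 3) F₀) = fourier ω) :
    ((ext F₀ g : GL (Fin 3) F) : Matrix (Fin 3) (Fin 3) F) = fourier (ω : F) := by
  rw [ext_val, h]
  ext i j
  fin_cases i <;> fin_cases j <;> simp [fourier]

theorem ext_mem_comm (S : Setup F₀ q q₀) (hq₀ : 3 ≤ q₀) {M : Subgroup (GL (Fin 3) F)}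
    (hM : ∀ g ∈ SUg 3 F₀ q₀, ext F₀ g ∈ M) {g : GL (Fin 3) F₀} (hg : g ∈ SUg 3 F₀ q₀) : ext F₀ g ∈ ⁅M, M⁆ := by
  have h1 := SUg_perfect S.hF₀ (n := 3) (by norm_num) (by omega)
  have h2 : (SUg 3 F₀ q₀).map (ext F₀) ≤ M := by
    rintro _ ⟨x, hx, rfl⟩
    exact hM x hx
  have h3 : (SUg 3 F₀ q₀).map (ext F₀) ≤ ⁅M, M⁆ := by
    rw [← h1, Subgroup.map_commutator]
    exact Subgroup.commutator_mono h2 h2
  exact h3 ⟨g, hg, rfl⟩

theorem perfect_top {G : Type*} [Group G] {H : Subgroup G} (h : ⁅H, H⁆ = H) :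
    ⁅(⊤ : Subgroup H), (⊤ : Subgroup H)⁆ = ⊤ := by
  apply Subgroup.map_injective H.subtype_injective
  rw [Subgroup.map_commutator, ← MonoidHom.range_eq_map, Subgroup.range_subtype, h]

end sub

end Cfsg.Agent.H907.Mx
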