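import Mathlib
import Cfsg.Agent.H907.MxRow5

/-!
The subfield subgroups of `SU_3(q)` of odd prime index are maximal.
-/

set_option autoImplicit false
set_option linter.unusedSectionVars false
set_option linter.unusedSimpArgs false

namespace Cfsg.Agent.H907.Mx

open Cfsg Cfsg.Geo Matrix Cfsg.Agent.H907 Cfsg.Agent.H918 Cfsg.Agent.H907.SU3 Cfsg.Agent.LieClassical.HermBasic
open Cfsg.Agent.H914 Cfsg.Agent.H930.GUSub
open scoped MatrixGroups commutatorElement

variable {F : Type*} [Field F] [Fintype F] {q : ℕ}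

theorem subfield_eq_of_card {F₀ F₁ : Subfield F} (h : Nat.card F₀ = Nat.card F₁) : F₀ = F₁ := by
  ext x
  rw [mem_subfield_iff_pow, mem_subfield_iff_pow, h]

theorem subfield_same (hF : Fintype.card F = q ^ 2) {F₀ : Subfield F} {r : ℕ} (hodd : Odd r)
    (hcard : Fintype.card F = Nat.card F₀ ^ r) {P : GL (Fin 3) F}
    (hP : IsFormRationalStructure (hermForm 3 F q) F₀ 1 P) :
    ∃ P' ∈ Cfsg.GU 3 F q, subfieldSubgroup F₀ P =
      (subfieldSubgroup F₀ (1 : GL (Fin 3) F)).map (MulAut.conj P').toMonoidHom := by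
  have : Fintype F₀ := Fintype.ofFinite F₀
  obtain ⟨q₁, S⟩ := exists_setup (F₀ := F₀) hF hodd hcard
  obtain ⟨P', hP', h1, h2⟩ := Cfsg.Agent.H930.GUSub.exists_frame S hP
  exact ⟨P', hP', by rw [← sub_map]; exact le_antisymm (subfieldSubgroup_le h1 h2) (subfieldSubgroup_le h2 h1)⟩

theorem row5_std (hF : Fintype.card F = q ^ 2) {F₀ : Subfield F} {r : ℕ} (hr : r.Prime) (hodd : Odd r)
    (hcard : Fintype.card F = Nat.card F₀ ^ r) :
    IsMaximalIn (SUg 3 F q) (subfieldSubgroup F₀ (1 : GL (Fin 3) F) ⊓ SUg 3 F q) := by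
  have hfi : Fintype F₀ := Fintype.ofFinite F₀
  obtain ⟨q₀, S⟩ := exists_setup (F₀ := F₀) hF hodd hcard
  have hN : Nat.card F₀ = q₀ ^ 2 := by rw [Nat.card_eq_fintype_card, S.hF₀]
  have hqq : q = q₀ ^ r := by
    have h1 : q ^ 2 = (q₀ ^ r) ^ 2 := by rw [← hF, hcard, hN, ← pow_mul, ← pow_mul, mul_comm]
    exact Nat.pow_left_injective two_ne_zero h1
  have hq₀ := two_le S.hF₀
  have hr3 : 3 ≤ r := by
    have := hr.two_le
    rcases this.lt_or_eq with h | h
    · exact h
    · rw [← h] at hodd; exact absurd hodd (by decide)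
  have hq8 : 8 ≤ q := by
    calc 8 = 2 ^ 3 := by norm_num
      _ ≤ q₀ ^ 3 := Nat.pow_le_pow_left hq₀ 3
      _ ≤ q₀ ^ r := Nat.pow_le_pow_right (by omega) hr3
      _ = q := hqq.symm
  have hnp : ¬ q.Prime := by
    intro h
    rw [hqq] at h
    have := Nat.Prime.eq_one_of_pow h
    omega
  have h32 : ¬ (3 = 3 ∧ q = 2) := by omega
  have hF₀t : F₀ ≠ ⊤ := by
    intro h
    have h1 : Nat.card F₀ = Nat.card F := by
      rw [h]
      exact Nat.card_congr Subfield.topEquiv.toEquiv
    rw [Nat.card_eq_fintype_card (α := F), hcard] at h1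
    have h2 : 1 < Nat.card F₀ := Finite.one_lt_card
    have h3 : Nat.card F₀ ^ 1 < Nat.card F₀ ^ r := Nat.pow_lt_pow_right h2 hr.one_lt
    rw [pow_one] at h3
    omega
  -- the elements of the subfield group
  have hmem : ∀ g ∈ SUg 3 F₀ q₀, ext F₀ g ∈ subfieldSubgroup F₀ (1 : GL (Fin 3) F) ⊓ SUg 3 F q := fun g hg =>
    ⟨ext_mem_sub g, ext_mem S hg⟩
  obtain ⟨ζ, hζ⟩ := exists_orderOf_eq S.hF₀
  have hζ1 : ζ ^ (q₀ + 1) = 1 := hζ ▸ pow_orderOf_eq_one ζ
  have hζ0 : ζ ≠ 0 := by
    rintro rfl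
    rw [zero_pow (by omega)] at hζ1
    exact zero_ne_one hζ1
  have hζi : (ζ⁻¹) ^ (q₀ + 1) = 1 := by rw [inv_pow, hζ1, inv_one]
  obtain ⟨x₀, hx₀S, hx₀⟩ := exists_diag S.hF₀ hζ1 hζi (one_pow _) (by rw [mul_one]; exact mul_inv_cancel₀ hζ0)
  obtain ⟨y₀, hy₀S, hy₀⟩ := exists_diag S.hF₀ (c := (ζ⁻¹) ^ 2) hζ1 hζ1
    (by rw [← pow_mul, mul_comm, pow_mul, hζi, one_pow]) (by field_simp)
  obtain ⟨c₀, hc₀S, hc₀⟩ := exists_cyc S.hF₀
  -- in the large field
  set η : F := (ζ : F) with hη
  have hη' : orderOf η = q₀ + 1 := by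
    rw [← hζ]
    exact orderOf_injective (F₀.subtype : F₀ →* F) F₀.subtype.injective ζ
  have hη0 : η ≠ 0 := fun h => hζ0 (Subtype.ext h)
  have hx : ((ext F₀ x₀ : GL (Fin 3) F) : Matrix (Fin 3) (Fin 3) F) = Matrix.diagonal ![η, η⁻¹, 1] := by
    rw [ext_diag hx₀]; simp [hη]
  have hc : ((ext F₀ c₀ : GL (Fin 3) F) : Matrix (Fin 3) (Fin 3) F) = !![0, 0, 1; 1, 0, 0; 0, 1, 0] := ext_cyc hc₀
  have hη1 : η ^ (q + 1) = 1 := by
    have h1 : q₀ + 1 ∣ q + 1 := by
      rw [hqq]
      have := Odd.nat_add_dvd_pow_add_pow q₀ 1 hodd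
      rwa [one_pow] at this
    rw [← hη'] at h1
    exact orderOf_dvd_iff_pow_eq_one.1 h1
  refine maximal_of hF (by omega) (by omega) (SUg_not_le_subfieldSubgroup hF (by norm_num) h32 hF₀t 1)
    ?_ ?_ ?_ ?_ ?_ ?_ ?_ ?_
  · -- reducible
    intro W hW0 hW1 hle
    rcases irr_of (injective_of hη0 (pow_ne_one_of hη' (by norm_num) (by omega))) hx hc
      (mulVec_mem_of_stab (hle (hmem _ hx₀S))) (mulVec_mem_of_stab (hle (hmem _ hc₀S))) with h | h
    · exact hW0 h
    · exact hW1 h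
  · -- decompositions
    intro P hP hle
    exfalso
    have hdec := (frame_decomp hF hP).decomp
    rcases Nat.lt_or_ge q₀ 3 with h3 | h3
    · have h2 : q₀ = 2 := by omega
      subst h2
      have hω : ζ ^ 2 + ζ + 1 = 0 := by
        have h4 : (ζ - 1) * (ζ ^ 2 + ζ + 1) = 0 := by linear_combination hζ1
        have h5 : ζ ≠ 1 := by
          rintro rfl
          rw [orderOf_one] at hζ
          omega
        exact (mul_eq_zero.1 h4).resolve_left (sub_ne_zero.2 h5)
      have h2F : ((2 : ℕ) : F) = 0 := by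
        have h4 : (Fintype.card F : F) = 0 := FiniteField.cast_card_eq_zero F
        rw [hcard, hN, Nat.cast_pow, Nat.cast_pow] at h4
        exact (pow_eq_zero_iff (by norm_num : 2 ≠ 0)).1 ((pow_eq_zero_iff hr.ne_zero).1 h4)
      have h3F : (3 : F) ≠ 0 := by
        intro h
        have : (1 : F) = 0 := by
          have h6 : (2 : F) = 0 := by exact_mod_cast h2F
          linear_combination h - h6
        exact one_ne_zero this
      have h3F₀ : (3 : F₀) ≠ 0 := by
        intro h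
        apply h3F
        have := congrArg F₀.subtype h
        rwa [map_ofNat, map_zero] at this
      have hωF : η ^ 2 + η + 1 = 0 := by
        have := congrArg (fun z : F₀ => (z : F)) hω
        simpa using this
      obtain ⟨X₀, hX₀S, hX₀⟩ := exists_X S.hF₀ (by norm_num) hω
      obtain ⟨Φ₀, hΦ₀S, hΦ₀⟩ := exists_Phi S.hF₀ (by norm_num) hω h3F₀
      exact dec_R0 hωF h3F (X := ext F₀ X₀) (C := ext F₀ c₀) (Φ := ext F₀ Φ₀) (by rw [ext_diag hX₀]; simp [hη]) hc hdec
        (ext_fourier hΦ₀) (hle (hmem _ hX₀S)) (hle (hmem _ hc₀S)) (hle (hmem _ hΦ₀S))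
    · obtain ⟨ψ, hψ⟩ := exists_permHom hdec
      let f : SUg 3 F₀ q₀ →* Equiv.Perm (Fin 3) := ψ.comp
        { toFun := fun g => ⟨ext F₀ g, hle (hmem _ g.2)⟩
          map_one' := Subtype.ext (map_one (ext F₀))
          map_mul' := fun a b => Subtype.ext (map_mul (ext F₀) (a : GL (Fin 3) F₀) b) }
      have hperf := perfect_top (SUg_perfect S.hF₀ (n := 3) (by norm_num) (by omega))
      have hf := hom_perm_three hperf f
      have hinv : ∀ g : decompositionStabilizer (frm P), ψ g = 1 →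
          ∀ w ∈ frm P 0, ((g : GL (Fin 3) F) : Matrix (Fin 3) (Fin 3) F) *ᵥ w ∈ frm P 0 := by
        intro g hg w hw
        have h5 : (frm P 0).map (Matrix.toLin' ((g : GL (Fin 3) F) : Matrix (Fin 3) (Fin 3) F)) = frm P (ψ g 0) :=
          hψ g 0
        rw [hg, Equiv.Perm.one_apply] at h5
        rw [← h5]
        exact ⟨w, hw, Matrix.toLin'_apply _ _⟩
      have h6 : Module.finrank F (frm P 0) = 1 := hdec.finrank_eq 0
      rcases irr_of (injective_of hη0 (pow_ne_one_of hη' (by norm_num) (by omega))) hx hc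
        (hinv _ (hf ⟨x₀, hx₀S⟩)) (hinv _ (hf ⟨c₀, hc₀S⟩)) with h | h
      · rw [h, finrank_bot] at h6; omega
      · rw [h, finrank_top, Module.finrank_fin_fun] at h6; omega
  · -- fields
    intro K hK _ _ hle
    exfalso
    have h1 := cube_one_of_field hF hK (hle (hmem _ hx₀S)) hη1 hx
    have h2 : q₀ = 2 := by
      have h3 := Nat.le_of_dvd (by norm_num) (orderOf_dvd_of_pow_eq_one h1)
      omega
    subst h2
    have hω : ζ ^ 2 + ζ + 1 = 0 := by
      have h4 : (ζ - 1) * (ζ ^ 2 + ζ + 1) = 0 := by linear_combination hζ1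
      have h5 : ζ ≠ 1 := by
        rintro rfl
        rw [orderOf_one] at hζ
        omega
      exact (mul_eq_zero.1 h4).resolve_left (sub_ne_zero.2 h5)
    have h2F : ((2 : ℕ) : F) = 0 := by
      have h4 : (Fintype.card F : F) = 0 := FiniteField.cast_card_eq_zero F
      rw [hcard, hN, Nat.cast_pow, Nat.cast_pow] at h4
      exact (pow_eq_zero_iff (by norm_num : 2 ≠ 0)).1 ((pow_eq_zero_iff hr.ne_zero).1 h4)
    have h3F : (3 : F) ≠ 0 := by
      intro h
      have : (1 : F) = 0 := by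
        have h6 : (2 : F) = 0 := by exact_mod_cast h2F
        linear_combination h - h6
      exact one_ne_zero this
    have hωF : η ^ 2 + η + 1 = 0 := by
      have := congrArg (fun z : F₀ => (z : F)) hω
      simpa using this
    obtain ⟨X₀, hX₀S, hX₀⟩ := exists_X S.hF₀ (by norm_num) hω
    refine field_R0 hωF h3F (X := ext F₀ X₀) (C := ext F₀ c₀) (by rw [ext_diag hX₀]; simp [hη]) hc hF ?_ hK
      (hle (hmem _ hX₀S)) (hle (hmem _ hc₀S))
    rw [hqq]
    intro h
    have := Nat.prime_three.dvd_of_dvd_pow h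
    omega
  · -- subfields
    intro F₁ r' P hr' hodd' hcard' hP hle
    by_cases hrr : r = r'
    · subst hrr
      have h1 : Nat.card F₀ = Nat.card F₁ := by
        apply Nat.pow_left_injective hr.ne_zero
        show Nat.card F₀ ^ r = Nat.card F₁ ^ r
        rw [← hcard, ← hcard']
      have h2 := subfield_eq_of_card h1
      subst h2
      obtain ⟨P', hP', he⟩ := subfield_same hF hodd' hcard' hP
      exact same_type hP' he hle
    · exfalso
      obtain ⟨q₁, hq₁, hqq', hN', -⟩ := orderOf_cube_dvd hF hodd' hcard' hP (hle (hmem _ hx₀S)) (hmem _ hx₀S).2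
      have h1 := pow_card_of_sub hodd' hcard' (hle (hmem _ hx₀S)) hη0 hx
      rw [hN'] at h1
      have h2 : η ^ (q₁ ^ 2 - 1) = 1 := by
        have h3 : η ^ (q₁ ^ 2 - 1) * η = 1 * η := by
          rw [← pow_succ, Nat.sub_add_cancel (Nat.one_le_pow _ _ (by omega)), h1, one_mul]
        exact mul_right_cancel₀ hη0 h3
      have h3 := orderOf_dvd_of_pow_eq_one h2
      rw [hη'] at h3
      -- common root
      obtain ⟨p, hp⟩ := CharP.exists F
      obtain ⟨n, hpp, hn⟩ := FiniteField.card F p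
      have h4 : q ∣ p ^ (n : ℕ) := by rw [← hn, hF]; exact dvd_pow_self q two_ne_zero
      obtain ⟨m, -, hm⟩ := (Nat.dvd_prime_pow hpp).1 h4
      obtain ⟨t, ht₀, ht₁⟩ := exists_common (r := r) (r' := r') hpp (hqq ▸ hm) (by rw [← hqq, ← hqq']) hr hr' hrr
      have ht : 2 ≤ t := by
        rcases Nat.lt_or_ge t 2 with h | h
        · exfalso
          have : t = 0 ∨ t = 1 := by omega
          rcases this with rfl | rfl
          · rw [zero_pow hr'.ne_zero] at ht₀; omega
          · rw [one_pow] at ht₀; omega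
        · exact h
      have h5 : t ^ r' + 1 ∣ t ^ (2 * r) - 1 := by
        rw [← ht₀]
        have : t ^ (2 * r) = q₁ ^ 2 := by rw [ht₁, ← pow_mul, mul_comm]
        rw [this]; exact h3
      have h6 := pow_dvd_aux ht hr'.pos h5
      exact hrr ((Nat.prime_dvd_prime_iff_eq hr' hr).1 h6).symm
  · -- the real type
    intro hoddq h7 F₁ P hcard' hP hle
    exfalso
    have hq₀3 : 3 ≤ q₀ := by
      rcases Nat.lt_or_ge q₀ 3 with h | h
      · exfalso
        have h2 : q₀ = 2 := by omega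
        rw [h2] at hqq
        have : Even q := by rw [hqq]; exact (even_two).pow_of_ne_zero hr.ne_zero
        exact (Nat.not_even_iff_odd.2 hoddq) this
      · exact h
    have h1 := real_comm hF (two_ne hF hoddq) hcard' hP
      (ext_mem_comm S hq₀3 (fun g hg => hle (hmem g hg)) hy₀S) (hmem _ hy₀S).2
    rw [ext_diag hy₀, ← Matrix.diagonal_one, Matrix.diagonal_sub, Matrix.det_diagonal, Fin.prod_univ_three] at h1
    simp only [Matrix.cons_val_zero, Matrix.cons_val_one, Matrix.cons_val_two, Matrix.head_cons,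
      Matrix.tail_cons, mul_eq_zero, or_self, sub_eq_zero, Matrix.cons_val] at h1
    have h6 : η ^ 2 = 1 := by
      rcases h1 with h1 | h1
      · rw [hη, h1, one_pow]
      · have h2 : (η⁻¹) ^ 2 = 1 := by
          rw [hη]
          exact_mod_cast h1
        rw [inv_pow, inv_eq_one] at h2
        exact h2
    exact pow_ne_one_of hη' (by norm_num) (by omega) h6
  · intro R hqp
    exact absurd hqp hnp
  · intro H _ _ hqp
    exact absurd hqp hnp
  · intro H P _ _ _ _ hqp
    exact absurd hqp hnp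

theorem row5 (hF : Fintype.card F = q ^ 2) {F₀ : Subfield F} {r : ℕ} (hr : r.Prime) (hodd : Odd r)
    (hcard : Fintype.card F = Nat.card F₀ ^ r) {P : GL (Fin 3) F}
    (hP : IsFormRationalStructure (hermForm 3 F q) F₀ 1 P) :
    IsMaximalIn (SUg 3 F q) (subfieldSubgroup F₀ P ⊓ SUg 3 F q) := by
  obtain ⟨P', hP', he⟩ := subfield_same hF hodd hcard hP
  exact isMaximalIn_of_map hP' he (row5_std hF hr hodd hcard)

end Cfsg.Agent.H907.Mx
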