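import Mathlib
import Cfsg.Agent.H907.MxRow5b

/-!
The orthogonal subgroups of `SU_3(q)` are maximal.
-/

set_option autoImplicit false
set_option linter.unusedSectionVars false
set_option linter.unusedSimpArgs false

namespace Cfsg.Agent.H907.Mx

open Cfsg Cfsg.Geo Matrix Cfsg.Agent.H907 Cfsg.Agent.H918 Cfsg.Agent.H907.SU3 Cfsg.Agent.LieClassical.HermBasic
open Cfsg.Agent.H914
open scoped MatrixGroups commutatorElement

/-! ### The Klein four-group -/

section klein

variable {F : Type*} [Field F] (h2 : (2 : F) ≠ 0) {a b c : GL (Fin 3) F}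
  (ha : (a : Matrix (Fin 3) (Fin 3) F) = Matrix.diagonal ![-1, -1, 1])
  (hb : (b : Matrix (Fin 3) (Fin 3) F) = Matrix.diagonal ![1, -1, -1])
  (hc : (c : Matrix (Fin 3) (Fin 3) F) = !![0, 0, 1; 1, 0, 0; 0, 1, 0])

include h2 in
theorem ne_one_neg : (-1 : F) ≠ 1 := by
  intro h
  apply h2
  linear_combination -h

include h2 ha hb in
/-- a subspace invariant under the four-group contains the unit vectors of the support of its elements -/
theorem single_mem_of_klein {W : Submodule F (Fin 3 → F)}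
    (haW : ∀ w ∈ W, (a : Matrix (Fin 3) (Fin 3) F) *ᵥ w ∈ W)
    (hbW : ∀ w ∈ W, (b : Matrix (Fin 3) (Fin 3) F) *ᵥ w ∈ W) {v : Fin 3 → F} (hv : v ∈ W) {i : Fin 3}
    (hi : v i ≠ 0) : (Pi.single i 1 : Fin 3 → F) ∈ W := by
  have h4 : (4 : F) ≠ 0 := by
    intro h
    apply h2
    have : (2 : F) * 2 = 0 := by linear_combination h
    exact (mul_eq_zero.1 this).elim id id
  have hδ : Function.Injective ![(1 : F), -3, -1] := by
    have h5 : (1 : F) ≠ -3 := fun h => h4 (by linear_combination h)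
    have h6 : (1 : F) ≠ -1 := fun h => h2 (by linear_combination h)
    have h7 : (-3 : F) ≠ -1 := fun h => h2 (by linear_combination -h)
    intro i j hij
    fin_cases i <;> fin_cases j <;> first | rfl | (exfalso; simp at hij; first
      | exact h5 hij | exact h6 hij | exact h5 hij.symm | exact h6 hij.symm
      | exact h7 (by rw [hij]))
  refine mem_of_diag (x := (a : Matrix (Fin 3) (Fin 3) F) + (2 : F) • (b : Matrix (Fin 3) (Fin 3) F)) hδ ?_ ?_ hv hi
  · rw [ha, hb]
    ext i j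
    fin_cases i <;> fin_cases j <;> simp [Matrix.diagonal_apply] <;> ring
  · intro w hw
    rw [Matrix.add_mulVec, Matrix.smul_mulVec]
    exact W.add_mem (haW w hw) (W.smul_mem _ (hbW w hw))

include h2 ha hb hc in
theorem irr_klein {W : Submodule F (Fin 3 → F)}
    (haW : ∀ w ∈ W, (a : Matrix (Fin 3) (Fin 3) F) *ᵥ w ∈ W)
    (hbW : ∀ w ∈ W, (b : Matrix (Fin 3) (Fin 3) F) *ᵥ w ∈ W)
    (hcW : ∀ w ∈ W, (c : Matrix (Fin 3) (Fin 3) F) *ᵥ w ∈ W) : W = ⊥ ∨ W = ⊤ := by
  by_cases hW : W = ⊥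
  · exact Or.inl hW
  · right
    obtain ⟨v, hv, hv0⟩ := Submodule.exists_mem_ne_zero_of_ne_bot hW
    obtain ⟨i, hi⟩ := Function.ne_iff.1 hv0
    exact top_of_cyc hc hcW (single_mem_of_klein h2 ha hb haW hbW hv hi)

include h2 ha hb in
theorem line_klein {W : Submodule F (Fin 3 → F)} (hW : Module.finrank F W = 1)
    (haW : ∀ w ∈ W, (a : Matrix (Fin 3) (Fin 3) F) *ᵥ w ∈ W)
    (hbW : ∀ w ∈ W, (b : Matrix (Fin 3) (Fin 3) F) *ᵥ w ∈ W) : ∃ i, W = F ∙ (Pi.single i 1 : Fin 3 → F) := by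
  have hW0 : W ≠ ⊥ := by
    rintro rfl
    rw [finrank_bot] at hW; omega
  obtain ⟨v, hv, hv0⟩ := Submodule.exists_mem_ne_zero_of_ne_bot hW0
  obtain ⟨i, hi⟩ := Function.ne_iff.1 hv0
  refine ⟨i, (Submodule.eq_of_le_of_finrank_eq ?_ ?_).symm⟩
  · rw [Submodule.span_singleton_le_iff_mem]
    exact single_mem_of_klein h2 ha hb haW hbW hv hi
  · rw [hW, finrank_span_singleton]
    intro h
    have := congrFun h i
    simp at this

theorem s3_klein : ∀ a b c : Equiv.Perm (Fin 3), (a * a = 1 ∧ b * b = 1 ∧ c * a = b * c ∧ c * b = a * (b * c)) →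
    a = 1 ∧ b = 1 := by decide

include ha in
theorem a_sq : a * a = 1 := by
  apply Units.ext
  rw [Units.val_mul, ha, Matrix.diagonal_mul_diagonal, Units.val_one, ← Matrix.diagonal_one]
  congr 1
  funext i
  fin_cases i <;> simp

include hb in
theorem b_sq : b * b = 1 := by
  apply Units.ext
  rw [Units.val_mul, hb, Matrix.diagonal_mul_diagonal, Units.val_one, ← Matrix.diagonal_one]
  congr 1
  funext i
  fin_cases i <;> simp

include ha hb in
theorem ab_comm : a * b = b * a := by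
  apply Units.ext
  rw [Units.val_mul, Units.val_mul, ha, hb, Matrix.diagonal_mul_diagonal, Matrix.diagonal_mul_diagonal]
  congr 1
  funext i
  fin_cases i <;> simp

include ha hb hc in
theorem c_a : c * a = b * c := by
  apply Units.ext
  rw [Units.val_mul, Units.val_mul, ha, hb, hc]
  ext i j
  fin_cases i <;> fin_cases j <;> simp [Matrix.mul_apply, Fin.sum_univ_three, Matrix.diagonal_apply]

include ha hb hc in
theorem c_b : c * b = a * (b * c) := by
  apply Units.ext
  rw [Units.val_mul, Units.val_mul, Units.val_mul, ha, hb, hc]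
  ext i j
  fin_cases i <;> fin_cases j <;> simp [Matrix.mul_apply, Fin.sum_univ_three, Matrix.diagonal_apply]

include h2 ha hb hc in
/-- A frame permuted by the four-group and the cycle is the standard frame. -/
theorem frame_klein {D : Fin 3 → Submodule F (Fin 3 → F)} (hD : IsMDecomposition 1 D)
    (h1 : a ∈ decompositionStabilizer D) (h3 : b ∈ decompositionStabilizer D)
    (h4 : c ∈ decompositionStabilizer D) (i : Fin 3) : ∃ j, D i = F ∙ (Pi.single j 1 : Fin 3 → F) := by
  obtain ⟨ψ, hψ⟩ := exists_permHom hD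
  obtain ⟨hψa, hψb⟩ := s3_klein (ψ ⟨a, h1⟩) (ψ ⟨b, h3⟩) (ψ ⟨c, h4⟩) ⟨
    by rw [← map_mul, show (⟨a, h1⟩ * ⟨a, h1⟩ : decompositionStabilizer D) = 1 from Subtype.ext (a_sq ha), map_one],
    by rw [← map_mul, show (⟨b, h3⟩ * ⟨b, h3⟩ : decompositionStabilizer D) = 1 from Subtype.ext (b_sq hb), map_one],
    by rw [← map_mul, ← map_mul]; exact congrArg ψ (Subtype.ext (c_a ha hb hc)),
    by rw [← map_mul, ← map_mul, ← map_mul]; exact congrArg ψ (Subtype.ext (c_b ha hb hc))⟩
  have hinv : ∀ g : decompositionStabilizer D, ψ g = 1 →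
      ∀ w ∈ D i, ((g : GL (Fin 3) F) : Matrix (Fin 3) (Fin 3) F) *ᵥ w ∈ D i := by
    intro g hg w hw
    have h5 := hψ g i
    rw [hg, Equiv.Perm.one_apply] at h5
    rw [← h5]
    exact ⟨w, hw, Matrix.toLin'_apply _ _⟩
  exact line_klein h2 ha hb (hD.finrank_eq i) (hinv _ hψa) (hinv _ hψb)

end klein

section real

variable {F : Type*} [Field F] [Fintype F] {q : ℕ} (hF : Fintype.card F = q ^ 2)
include hF

theorem ct_of_fixed {A : Matrix (Fin 3) (Fin 3) F} (h : Fixed q A) : ct q A = Aᵀ := by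
  ext i j
  exact h j i

theorem exists_real_of {A : Matrix (Fin 3) (Fin 3) F} (h : Fixed q A) (h1 : Aᵀ * A = 1) (h2 : A.det = 1) :
    ∃ g ∈ SUg 3 F q, (g : Matrix (Fin 3) (Fin 3) F) = A :=
  exists_SU_of hF (by rw [ct_of_fixed hF h]; exact h1) h2

/-- rotations -/
theorem exists_rot {c d : F} (hc : c ^ q = c) (hd : d ^ q = d) (hcd : c ^ 2 + d ^ 2 = 1) :
    ∃ g ∈ SUg 3 F q, (g : Matrix (Fin 3) (Fin 3) F) = !![c, -d, 0; d, c, 0; 0, 0, 1] := by
  have hq := q_pos hF
  apply exists_real_of hF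
  · intro i j
    fin_cases i <;> fin_cases j <;> simp [hc, hd, zero_pow hq.ne', neg_pow_q hF]
  · ext i j
    fin_cases i <;> fin_cases j <;> simp [Matrix.mul_apply, Fin.sum_univ_three]
    · linear_combination hcd
    · ring
    · ring
    · linear_combination hcd
  · rw [Matrix.det_fin_three]
    simp
    linear_combination hcd

end real

/-! ### Unipotent elements -/

section siegel

variable {F : Type*} [Field F]

/-- the nilpotent matrix of a Siegel transformation -/
def sg (x y h : F) : Matrix (Fin 3) (Fin 3) F :=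
  !![h * x ^ 2, -1 + h * (x * y), y + h * x; 1 + h * (x * y), h * y ^ 2, -x + h * y; -y + h * x, x + h * y, h]

theorem sg_orth {x y h : F} (hxy : x ^ 2 + y ^ 2 = -1) (hh : 2 * h = 1) :
    (1 + sg x y h)ᵀ * (1 + sg x y h) = 1 := by
  ext i j
  fin_cases i <;> fin_cases j <;> simp [sg, Matrix.mul_apply, Fin.sum_univ_three, Matrix.one_apply] <;> grind

theorem sg_det {x y h : F} (hxy : x ^ 2 + y ^ 2 = -1) (hh : 2 * h = 1) :
    (1 + sg x y h).det = 1 := by
  rw [Matrix.det_fin_three]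
  simp [sg]
  grind

theorem sg_cube {x y h : F} (hxy : x ^ 2 + y ^ 2 = -1) (hh : 2 * h = 1) :
    sg x y h ^ 3 = 0 := by
  ext i j
  fin_cases i <;> fin_cases j <;> simp [sg, pow_succ, Matrix.mul_apply, Fin.sum_univ_three] <;> grind

/-- A real unipotent element. -/
theorem exists_unip [Fintype F] {q : ℕ} (hF : Fintype.card F = q ^ 2) {x y h : F} (hx : x ^ q = x) (hy : y ^ q = y)
    (hxy : x ^ 2 + y ^ 2 = -1) (hh : 2 * h = 1) {p : ℕ} (hp : p.Prime) (hp3 : 3 ≤ p) [CharP F p] :
    ∃ g ∈ SUg 3 F q, (g : Matrix (Fin 3) (Fin 3) F) = 1 + sg x y h ∧ orderOf g = p ∧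
      ∀ i j, (g : Matrix (Fin 3) (Fin 3) F) i j ^ q = (g : Matrix (Fin 3) (Fin 3) F) i j := by
  have hq := q_pos hF
  have h0 : h ≠ 0 := by
    rintro rfl
    rw [mul_zero] at hh
    exact zero_ne_one hh
  have h2 : (2 : F) ≠ 0 := by
    intro h2
    rw [h2, zero_mul] at hh
    exact zero_ne_one hh
  have hhq : h ^ q = h := by
    have h1 : (2 : F) ^ q = 2 := by
      rw [show (2 : F) = 1 + 1 by norm_num, add_pow_q hF, one_pow]
    have h3 : (2 * h) ^ q = 1 := by rw [hh, one_pow]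
    rw [mul_pow, h1] at h3
    exact mul_left_cancel₀ h2 (h3.trans hh.symm)
  have hfix : Fixed q (1 + sg x y h) := by
    intro i j
    fin_cases i <;> fin_cases j <;>
      simp [sg, add_pow_q hF, neg_pow_q hF, mul_pow, hx, hy, hhq, ← pow_mul, Matrix.one_apply]
    all_goals
      first
        | (left; rw [mul_comm 2 q, pow_mul, hx])
        | (left; rw [mul_comm 2 q, pow_mul, hy])
  obtain ⟨g, hg, hgv⟩ := exists_real_of hF hfix (sg_orth hxy hh) (sg_det hxy hh)
  refine ⟨g, hg, hgv, ?_, fun i j => by rw [hgv]; exact hfix i j⟩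
  have : Fact p.Prime := ⟨hp⟩
  apply orderOf_eq_prime
  · apply Units.ext
    have hch : CharP (Matrix (Fin 3) (Fin 3) F) p := inferInstance
    rw [Units.val_pow_eq_pow_val, hgv, Units.val_one, add_pow_char_of_commute p (Commute.one_left (sg x y h)), one_pow]
    obtain ⟨k, hk⟩ := Nat.exists_eq_add_of_le hp3
    rw [hk, pow_add, sg_cube hxy hh, zero_mul, add_zero]
  · intro h1
    rw [h1, Units.val_one] at hgv
    have h3 := congrFun (congrFun hgv 2) 2
    simp [sg] at h3
    exact h0 h3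

end siegel

end Cfsg.Agent.H907.Mx
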