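import Mathlib
import Cfsg.Agent.H907.MxRow6

/-!
The orthogonal subgroups of `SU_3(q)` are maximal.
-/

set_option autoImplicit false
set_option linter.unusedSectionVars false
set_option linter.unusedSimpArgs false

namespace Cfsg.Agent.H907.Mx

open Cfsg Cfsg.Geo Matrix Cfsg.Agent.H907 Cfsg.Agent.H918 Cfsg.Agent.H907.SU3 Cfsg.Agent.LieClassical.HermBasic
open Cfsg.Agent.H914
open scoped MatrixGroups commutatorElement

variable {F : Type*} [Field F] [Fintype F] {q : ℕ}

theorem charP_of_prime (hF : Fintype.card F = q ^ 2) (hq : q.Prime) : CharP F q := by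
  obtain ⟨p, hp⟩ := CharP.exists F
  obtain ⟨n, hpp, hn⟩ := FiniteField.card F p
  have h1 : p ∣ q := by
    apply hpp.dvd_of_dvd_pow (n := 2)
    rw [← hF, hn]
    exact dvd_pow_self p n.pos.ne'
  rw [(Nat.prime_dvd_prime_iff_eq hpp hq).1 h1] at hp
  exact hp

/-- A real element which is not a fourth root of unity. -/
theorem exists_real_gen (hF : Fintype.card F = q ^ 2) (hq : 7 ≤ q) : ∃ s : F, s ≠ 0 ∧ s ^ q = s ∧ s ^ 4 ≠ 1 := by
  classical
  obtain ⟨g, hg⟩ := IsCyclic.exists_generator (α := Fˣ)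
  have h1 : orderOf g = Nat.card Fˣ := orderOf_eq_card_of_forall_mem_zpowers hg
  have h2 : Nat.card Fˣ = (q + 1) * (q - 1) := by
    rw [Nat.card_eq_fintype_card, Fintype.card_units, hF]
    obtain ⟨k, rfl⟩ : ∃ k, q = k + 1 := ⟨q - 1, by omega⟩
    have : (k + 1) ^ 2 = (k + 1 + 1) * k + 1 := by ring
    rw [this, Nat.add_sub_cancel, Nat.add_sub_cancel]
  have h3 : orderOf ((g ^ (q + 1) : Fˣ) : F) = q - 1 := by
    rw [orderOf_units, orderOf_pow, h1, h2, Nat.gcd_eq_right (Dvd.intro _ rfl), Nat.mul_div_cancel_left _ (by omega)]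
  refine ⟨((g ^ (q + 1) : Fˣ) : F), Units.ne_zero _, ?_, ?_⟩
  · have h4 : ((g ^ (q + 1) : Fˣ) : F) ^ (q - 1) = 1 := by
      have := pow_orderOf_eq_one ((g ^ (q + 1) : Fˣ) : F)
      rwa [h3] at this
    calc ((g ^ (q + 1) : Fˣ) : F) ^ q = ((g ^ (q + 1) : Fˣ) : F) ^ (q - 1 + 1) := by
          rw [Nat.sub_add_cancel (by omega)]
      _ = _ := by rw [pow_succ, h4, one_mul]
  · exact pow_ne_one_of h3 (by norm_num) (by omega)

theorem mem_sub_of_fixed (hF : Fintype.card F = q ^ 2) {F₀ : Subfield F} (hc : Fintype.card F = Nat.card F₀ ^ 2)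
    {g : GL (Fin 3) F} (hg : ∀ i j, (g : Matrix (Fin 3) (Fin 3) F) i j ^ q = (g : Matrix (Fin 3) (Fin 3) F) i j) :
    g ∈ subfieldSubgroup F₀ (1 : GL (Fin 3) F) := by
  rw [mem_subfieldSubgroup_iff]
  refine ⟨1, one_ne_zero, fun i j => ?_⟩
  rw [one_mul, inv_one, one_mul, mul_one, mem_F₀_iff hF hc]
  exact hg i j

theorem two_pow_q (hF : Fintype.card F = q ^ 2) : (2 : F) ^ q = 2 := by
  rw [show (2 : F) = 1 + 1 by norm_num, add_pow_q hF, one_pow]

/-- rotations given by a parameter -/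
theorem exists_rot' (hF : Fintype.card F = q ^ 2) {F₀ : Subfield F} (hc : Fintype.card F = Nat.card F₀ ^ 2) {s : F}
    (hs : s ^ q = s) (hs1 : 1 + s ^ 2 ≠ 0) :
    ∃ g ∈ subfieldSubgroup F₀ (1 : GL (Fin 3) F) ⊓ SUg 3 F q, (g : Matrix (Fin 3) (Fin 3) F) =
      !![(1 - s ^ 2) / (1 + s ^ 2), -(2 * s / (1 + s ^ 2)), 0; 2 * s / (1 + s ^ 2), (1 - s ^ 2) / (1 + s ^ 2), 0;
        0, 0, 1] := by
  have hq := q_pos hF
  have h1 : (s ^ 2) ^ q = s ^ 2 := by rw [← pow_mul, mul_comm, pow_mul, hs]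
  have h2 : ((1 - s ^ 2) / (1 + s ^ 2)) ^ q = (1 - s ^ 2) / (1 + s ^ 2) := by
    rw [div_pow, sub_pow_q hF, add_pow_q hF, one_pow, h1]
  have h3 : (2 * s / (1 + s ^ 2)) ^ q = 2 * s / (1 + s ^ 2) := by
    rw [div_pow, mul_pow, add_pow_q hF, one_pow, h1, hs, two_pow_q hF]
  obtain ⟨g, hg, hgv⟩ := exists_rot hF h2 h3 (by field_simp; ring)
  refine ⟨g, ⟨mem_sub_of_fixed hF hc ?_, hg⟩, hgv⟩
  rw [hgv]
  intro i j
  fin_cases i <;> fin_cases j <;> simp [h2, h3, neg_pow_q hF, zero_pow hq.ne']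

theorem row6_std (hF : Fintype.card F = q ^ 2) (hodd : Odd q) (hq : 7 ≤ q) {F₀ : Subfield F}
    (hc : Fintype.card F = Nat.card F₀ ^ 2) :
    IsMaximalIn (SUg 3 F q) (subfieldSubgroup F₀ (1 : GL (Fin 3) F) ⊓ SUg 3 F q) := by
  have h32 : ¬ (3 = 3 ∧ q = 2) := by omega
  have h2 := two_ne hF hodd
  have hq0 := q_pos hF
  have hcF₀ : Nat.card F₀ = q := by
    rw [hF] at hc
    exact (Nat.pow_left_injective two_ne_zero hc).symm
  have hF₀t : F₀ ≠ ⊤ := by
    intro h
    have h1 : Nat.card F₀ = Nat.card F := by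
      rw [h]
      exact Nat.card_congr Subfield.topEquiv.toEquiv
    rw [Nat.card_eq_fintype_card (α := F), hF, hcF₀] at h1
    nlinarith
  have hn1 : (-1 : F) ^ (q + 1) = 1 := by
    rw [pow_succ, neg_pow_q hF, one_pow]; ring
  have hnq : (-1 : F) ^ q = -1 := by rw [neg_pow_q hF, one_pow]
  have hne := ne_one_neg h2
  obtain ⟨a, haS, ha⟩ := exists_diag hF hn1 hn1 (one_pow _) (by ring : (-1 : F) * -1 * 1 = 1)
  obtain ⟨b, hbS, hb⟩ := exists_diag hF (one_pow _) hn1 hn1 (by ring : (1 : F) * -1 * -1 = 1)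
  obtain ⟨c, hcS, hcy⟩ := exists_cyc hF
  have haB : a ∈ subfieldSubgroup F₀ (1 : GL (Fin 3) F) ⊓ SUg 3 F q := ⟨mem_sub_of_fixed hF hc (by
    rw [ha]; intro i j
    fin_cases i <;> fin_cases j <;> simp [Matrix.diagonal_apply, hnq, zero_pow hq0.ne']), haS⟩
  have hbB : b ∈ subfieldSubgroup F₀ (1 : GL (Fin 3) F) ⊓ SUg 3 F q := ⟨mem_sub_of_fixed hF hc (by
    rw [hb]; intro i j
    fin_cases i <;> fin_cases j <;> simp [Matrix.diagonal_apply, hnq, zero_pow hq0.ne']), hbS⟩
  have hcB : c ∈ subfieldSubgroup F₀ (1 : GL (Fin 3) F) ⊓ SUg 3 F q := ⟨mem_sub_of_fixed hF hc (by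
    rw [hcy]; intro i j
    fin_cases i <;> fin_cases j <;> simp [zero_pow hq0.ne']), hcS⟩
  refine maximal_of hF (by omega) (by omega) (SUg_not_le_subfieldSubgroup hF (by norm_num) h32 hF₀t 1)
    ?_ ?_ ?_ ?_ ?_ ?_ ?_ ?_
  · -- reducible
    intro W hW0 hW1 hle
    rcases irr_klein h2 ha hb hcy (mulVec_mem_of_stab (hle haB)) (mulVec_mem_of_stab (hle hbB))
      (mulVec_mem_of_stab (hle hcB)) with h | h
    · exact hW0 h
    · exact hW1 h
  · -- decompositions
    intro P hP hle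
    exfalso
    have hdec := (frame_decomp hF hP).decomp
    obtain ⟨s, hs0, hsq, hs4⟩ := exists_real_gen hF hq
    have hs1 : 1 + s ^ 2 ≠ 0 := by
      intro h
      apply hs4
      linear_combination (s ^ 2 - 1) * h
    have hs2 : 1 - s ^ 2 ≠ 0 := by
      intro h
      apply hs4
      linear_combination (-(s ^ 2) - 1) * h
    obtain ⟨g, hgB, hg⟩ := exists_rot' hF hc hsq hs1
    have hfr := frame_klein (D := frm P) h2 ha hb hcy hdec (hle haB) (hle hbB) (hle hcB)
    choose j hj using hfr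
    have hjinj : Function.Injective j := by
      intro i k hik
      apply D_injective hdec
      show frm P i = frm P k
      rw [hj, hj, hik]
    obtain ⟨i, hi⟩ := Finite.injective_iff_surjective.1 hjinj 0
    obtain ⟨σ, hσ⟩ := hle hgB
    have h1 : (frm P i).map (Matrix.toLin' (g : Matrix (Fin 3) (Fin 3) F)) = frm P (σ i) := hσ i
    rw [hj, hj, hi, Submodule.map_span, Set.image_singleton, Matrix.toLin'_apply] at h1
    have h3 : (g : Matrix (Fin 3) (Fin 3) F) *ᵥ Pi.single 0 1 ∈ F ∙ (Pi.single (j (σ i)) 1 : Fin 3 → F) := by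
      rw [← h1]; exact Submodule.mem_span_singleton_self _
    obtain ⟨t, ht⟩ := Submodule.mem_span_singleton.1 h3
    rw [hg] at ht
    have h4 := congrFun ht 0
    have h5 := congrFun ht 1
    simp [Matrix.mulVec_single_one, Pi.single_apply] at h4 h5
    have h6 : (1 - s ^ 2) / (1 + s ^ 2) ≠ 0 := div_ne_zero hs2 hs1
    have h7 : 2 * s / (1 + s ^ 2) ≠ 0 := div_ne_zero (mul_ne_zero h2 hs0) hs1
    by_cases h8 : 0 = j (σ i)
    · rw [if_neg (by rw [← h8]; decide)] at h5
      exact h7 h5.symm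
    · rw [if_neg h8] at h4
      exact h6 h4.symm
  · -- fields
    intro K hK _ _ hle
    exfalso
    have h1 : a ^ 3 = a := by rw [pow_succ, pow_two, a_sq ha, one_mul]
    obtain ⟨d, hd⟩ := cube_scalar hK (hle haB) (by
      have h3 : Even (Fintype.card F - 1) := by
        rw [hF]
        exact Nat.Odd.sub_odd (hodd.pow) odd_one
      obtain ⟨k, hk⟩ := h3
      rw [h1, hk, ← two_mul, pow_mul, pow_two, a_sq ha, one_pow])
    rw [h1, ha] at hd
    have h3 := congrFun (congrFun hd 0) 0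
    have h4 := congrFun (congrFun hd 2) 2
    simp at h3 h4
    exact hne (h3.trans h4.symm)
  · -- subfields
    intro F₁ r P hr hodd' hcard' hP hle
    exfalso
    obtain ⟨q₁, hq₁, hqq', hN', -⟩ := orderOf_cube_dvd hF hodd' hcard' hP (hle haB) haS
    -- `F₀ ≤ F₁`
    have h1 : ∀ s : F, s ∈ F₀ → s ∈ F₁ := by
      intro s hs
      rw [mem_F₀_iff hF hc] at hs
      by_cases hs1 : 1 + s ^ 2 = 0
      · apply mem_of_sq_mem hodd' hcard'
        have : s ^ 2 = -1 := by linear_combination hs1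
        rw [this]
        exact F₁.neg_mem F₁.one_mem
      · obtain ⟨g, hgB, hg⟩ := exists_rot' hF hc hs hs1
        have hgi : ((g⁻¹ : GL (Fin 3) F) : Matrix (Fin 3) (Fin 3) F) =
            !![(1 - s ^ 2) / (1 + s ^ 2), 2 * s / (1 + s ^ 2), 0; -(2 * s / (1 + s ^ 2)), (1 - s ^ 2) / (1 + s ^ 2), 0;
              0, 0, 1] := by
          have h3 : (g : Matrix (Fin 3) (Fin 3) F) *
            !![(1 - s ^ 2) / (1 + s ^ 2), 2 * s / (1 + s ^ 2), 0; -(2 * s / (1 + s ^ 2)), (1 - s ^ 2) / (1 + s ^ 2), 0;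
              0, 0, 1] = 1 := by
            have h4 : ((1 - s ^ 2) / (1 + s ^ 2)) ^ 2 + (2 * s / (1 + s ^ 2)) ^ 2 = 1 := by
              field_simp; ring
            rw [hg]
            generalize (1 - s ^ 2) / (1 + s ^ 2) = u at h4
            generalize 2 * s / (1 + s ^ 2) = v at h4
            ext i j
            fin_cases i <;> fin_cases j <;> simp [Matrix.mul_apply, Fin.sum_univ_three]
            · linear_combination h4
            · ring
            · ring
            · linear_combination h4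
          calc ((g⁻¹ : GL (Fin 3) F) : Matrix (Fin 3) (Fin 3) F) =
              ((g⁻¹ : GL (Fin 3) F) : Matrix (Fin 3) (Fin 3) F) * ((g : Matrix (Fin 3) (Fin 3) F) * _) := by
                rw [h3, mul_one]
            _ = _ := by rw [← mul_assoc, ← Units.val_mul, inv_mul_cancel, Units.val_one, one_mul]
        have h3 := trace_mul_trace_mem (hle hgB)
        rw [hg, hgi, Matrix.trace_fin_three, Matrix.trace_fin_three] at h3
        simp at h3
        rw [← pow_two] at h3
        have h4 := mem_of_sq_mem hodd' hcard' h3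
        have h5 : (1 + s ^ 2)⁻¹ ∈ F₁ := by
          have h6 : (1 + s ^ 2)⁻¹ = ((1 - s ^ 2) / (1 + s ^ 2) + (1 - s ^ 2) / (1 + s ^ 2) + 1 + 1) * (4 : F)⁻¹ := by
            have h7 : (4 : F) ≠ 0 := by
              intro h
              apply h2
              have : (2 : F) * 2 = 0 := by linear_combination h
              exact (mul_eq_zero.1 this).elim id id
            field_simp
            ring
          rw [h6]
          refine F₁.mul_mem (F₁.add_mem h4 F₁.one_mem) (F₁.inv_mem ?_)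
          have : (4 : F) = 1 + 1 + 1 + 1 := by norm_num
          rw [this]
          exact F₁.add_mem (F₁.add_mem (F₁.add_mem F₁.one_mem F₁.one_mem) F₁.one_mem) F₁.one_mem
        apply mem_of_sq_mem hodd' hcard'
        have h6 := F₁.sub_mem (F₁.inv_mem h5) F₁.one_mem
        rw [inv_inv] at h6
        simpa using h6
    have h3 : Nat.card F₀ ≤ Nat.card F₁ := Nat.card_le_card_of_injective (fun x : F₀ => (⟨x, h1 x x.2⟩ : F₁))
      (fun x y h => Subtype.ext (by
        have := congrArg (fun z : F₁ => (z : F)) h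
        exact this))
    rw [hcF₀, hN', hqq'] at h3
    have hr3 : 3 ≤ r := by
      have := hr.two_le
      rcases this.lt_or_eq with h | h
      · exact h
      · rw [← h] at hodd'; exact absurd hodd' (by decide)
    have h4 : q₁ ^ 2 < q₁ ^ r := Nat.pow_lt_pow_right (by omega) (by omega)
    omega
  · -- the real type
    intro _ _ F₁ P hcard' hP hle
    have h1 : Nat.card F₀ = Nat.card F₁ := by
      apply Nat.pow_left_injective two_ne_zero
      show Nat.card F₀ ^ 2 = Nat.card F₁ ^ 2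
      rw [← hc, ← hcard']
    have h3 := subfield_eq_of_card h1
    subst h3
    exact same_type hP (sub_map F₀ P) hle
  · -- symplectic type
    intro R hqp hq3 h11 hR hirr hsim hcard hcen hle
    exfalso
    refine symp_no_klein hirr hcard hcen (hle haB) (hle hbB) (a_sq ha) (b_sq hb) (ab_comm ha hb) ?_ ?_ ?_
    · rintro ⟨d, hd⟩
      rw [ha] at hd
      have h3 := congrFun (congrFun hd 0) 0
      have h4 := congrFun (congrFun hd 2) 2
      simp at h3 h4
      exact hne (h3.trans h4.symm)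
    · rintro ⟨d, hd⟩
      rw [hb] at hd
      have h3 := congrFun (congrFun hd 0) 0
      have h4 := congrFun (congrFun hd 2) 2
      simp at h3 h4
      exact hne (h4.trans h3.symm)
    · rintro ⟨d, hd⟩
      rw [Units.val_mul, ha, hb, Matrix.diagonal_mul_diagonal] at hd
      have h3 := congrFun (congrFun hd 0) 0
      have h4 := congrFun (congrFun hd 1) 1
      simp at h3 h4
      exact hne (h3.trans h4.symm)
  all_goals
    have hun : q.Prime → ∃ g ∈ subfieldSubgroup F₀ (1 : GL (Fin 3) F) ⊓ SUg 3 F q, orderOf g = q := by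
      intro hqp
      have := charP_of_prime hF hqp
      have h2F₀ : (2 : F₀) ≠ 0 := by
        intro h
        apply h2
        have := congrArg F₀.subtype h
        rwa [map_ofNat, map_zero] at this
      obtain ⟨x, y, hxy⟩ := exists_two_sq h2F₀ (one_ne_zero) (one_ne_zero) (-1 : F₀)
      obtain ⟨g, hg, -, ho, hfx⟩ := exists_unip hF (x := x) (y := y) (h := 2⁻¹) ((mem_F₀_iff hF hc _).1 x.2)
        ((mem_F₀_iff hF hc _).1 y.2) (by
          have := congrArg (fun z : F₀ => (z : F)) hxy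
          simpa using this) (mul_inv_cancel₀ h2) hqp (by omega)
      exact ⟨g, ⟨mem_sub_of_fixed hF hc hfx, hg⟩, ho⟩
  · -- `L₂(7)`
    intro H hle hcard hqp h7
    obtain ⟨g, hgB, ho⟩ := hun hqp
    have h1 : q ∣ 1008 := by
      refine dvd_trans ?_ hcard
      have h2 : orderOf (⟨g, hle hgB⟩ : H) = q := by rw [Subgroup.orderOf_mk, ho]
      have h3 := orderOf_dvd_natCard (⟨g, hle hgB⟩ : H)
      rwa [h2] at h3
    have h3 : q ∣ 2 ^ 4 * 3 ^ 2 * 7 := by norm_num; exact h1
    rcases hqp.dvd_mul.1 h3 with h4 | h4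
    · rcases hqp.dvd_mul.1 h4 with h5 | h5
      · have := Nat.le_of_dvd (by norm_num) (hqp.dvd_of_dvd_pow h5); omega
      · have := Nat.le_of_dvd (by norm_num) (hqp.dvd_of_dvd_pow h5); omega
    · have := Nat.le_of_dvd (by norm_num) h4
      omega
  · -- `A₆`
    intro H P hle hHS hP he hqp h15
    obtain ⟨g, hgB, ho⟩ := hun hqp
    have h1 : q ∣ 4320 := by
      refine dvd_trans ?_ (card_dvd_a6 hP hHS he)
      have h2 : orderOf (⟨g, hle hgB⟩ : H) = q := by rw [Subgroup.orderOf_mk, ho]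
      have h3 := orderOf_dvd_natCard (⟨g, hle hgB⟩ : H)
      rwa [h2] at h3
    have h3 : q ∣ 2 ^ 5 * 3 ^ 3 * 5 := by norm_num; exact h1
    rcases hqp.dvd_mul.1 h3 with h4 | h4
    · rcases hqp.dvd_mul.1 h4 with h5 | h5
      · have := Nat.le_of_dvd (by norm_num) (hqp.dvd_of_dvd_pow h5); omega
      · have := Nat.le_of_dvd (by norm_num) (hqp.dvd_of_dvd_pow h5); omega
    · have := Nat.le_of_dvd (by norm_num) h4
      omega

theorem row6 (hF : Fintype.card F = q ^ 2) (hodd : Odd q) (hq : 7 ≤ q) {F₀ : Subfield F}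
    (hc : Fintype.card F = Nat.card F₀ ^ 2) {P : GL (Fin 3) F}
    (hP : IsFormRationalStructure (hermForm 3 F q) F₀ 1 P) :
    IsMaximalIn (SUg 3 F q) (subfieldSubgroup F₀ P ⊓ SUg 3 F q) := by
  obtain ⟨P', hP', he⟩ := exists_real_frame hF hc (two_ne hF hodd) hP
  exact isMaximalIn_of_map hP' (by rw [he, sub_map]) (row6_std hF hodd hq hc)

end Cfsg.Agent.H907.Mx
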