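import Mathlib
import Cfsg.Agent.H907.MxA6
import Cfsg.Agent.H907.SU3Sylow

/-!
Automorphisms of `A₆` acting on a Sylow 3-subgroup as a quaternion group fuse the two classes of elements of order
five.
-/

set_option autoImplicit false

namespace Cfsg.Agent.H907.Mx

abbrev P6 := Equiv.Perm (Fin 6)

abbrev A6 := alternatingGroup (Fin 6)

/-- `(0 1 2)` -/
def ps : P6 := ⟨![1, 2, 0, 3, 4, 5], ![2, 0, 1, 3, 4, 5], by decide, by decide⟩

/-- `(3 4 5)` -/
def pt : P6 := ⟨![0, 1, 2, 4, 5, 3], ![0, 1, 2, 5, 3, 4], by decide, by decide⟩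

/-- `(2 3) (4 5)` -/
def pw : P6 := ⟨![0, 1, 3, 2, 5, 4], ![0, 1, 3, 2, 5, 4], by decide, by decide⟩

/-- the relations satisfied by the image of `pw` -/
def Rel (m w : P6) : Prop :=
  w * w = 1 ∧ (m * w) * ((m * w) * ((m * w) * (m * w))) = 1 ∧
    (ps * ps * w) * ((ps * ps * w) * ((ps * ps * w) * ((ps * ps * w) * (ps * ps * w)))) = 1 ∧ Equiv.Perm.sign w = 1

instance relDecidable (m w : P6) : Decidable (Rel m w) := by unfold Rel; infer_instance

set_option maxRecDepth 100000 in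
theorem fuse1 : ∀ w : P6, Rel (ps * pt) w →
    ∃ h : P6, h * (ps * pt * pw * (ps * pt * pw)) = ps * ps * w * h ∧ Equiv.Perm.sign h = 1 := by decide +kernel

set_option maxRecDepth 100000 in
theorem fuse2 : ∀ w : P6, Rel (ps * (pt * pt)) w →
    ∃ h : P6, h * (ps * (pt * pt) * pw * (ps * (pt * pt) * pw)) = ps * ps * w * h ∧ Equiv.Perm.sign h = 1 := by
  decide +kernel

set_option maxRecDepth 100000 in
theorem fuse3 : ∀ w : P6, Rel (ps * ps * pt) w →
    ∃ h : P6, h * (ps * ps * pt * pw * (ps * ps * pt * pw)) = ps * ps * w * h ∧ Equiv.Perm.sign h = 1 := by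
  decide +kernel

set_option maxRecDepth 100000 in
theorem fuse4 : ∀ w : P6, Rel (ps * ps * (pt * pt)) w →
    ∃ h : P6, h * (ps * ps * (pt * pt) * pw * (ps * ps * (pt * pt) * pw)) = ps * ps * w * h ∧
      Equiv.Perm.sign h = 1 := by
  decide +kernel

/-- the elements of cycle type `(3, 3)` -/
def Good (m : P6) : Prop :=
  m = ps * pt ∨ m = ps * (pt * pt) ∨ m = ps * ps * pt ∨ m = ps * ps * (pt * pt)

instance goodDecidable (m : P6) : Decidable (Good m) := by unfold Good; infer_instance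

theorem fuse {m : P6} (hm : Good m) (w : P6) (hw : Rel m w) :
    ∃ h : P6, h * (m * pw * (m * pw)) = ps * ps * w * h ∧ Equiv.Perm.sign h = 1 := by
  rcases hm with rfl | rfl | rfl | rfl
  · exact fuse1 w hw
  · exact fuse2 w hw
  · exact fuse3 w hw
  · exact fuse4 w hw

theorem good_five {m : P6} (hm : Good m) : (m * pw) ^ 5 = 1 ∧ m * pw ≠ 1 ∧ Equiv.Perm.sign m = 1 := by
  rcases hm with rfl | rfl | rfl | rfl <;> decide

def s6 : A6 := ⟨ps, by rw [Equiv.Perm.mem_alternatingGroup]; decide⟩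
def t6 : A6 := ⟨pt, by rw [Equiv.Perm.mem_alternatingGroup]; decide⟩
def w6 : A6 := ⟨pw, by rw [Equiv.Perm.mem_alternatingGroup]; decide⟩

theorem aut_fuse (α : MulAut A6) (m : A6) (hm : Good m) (h1 : α s6 = m) (h2 : α m = s6⁻¹) :
    ∃ g h : A6, orderOf g = 5 ∧ α g = h * g ^ 2 * h⁻¹ := by
  obtain ⟨h5, hne, -⟩ := good_five hm
  have hs3 : s6⁻¹ = s6 * s6 := by
    apply Subtype.ext
    show ps⁻¹ = ps * ps
    decide
  have hg5 : (m * w6) ^ 5 = 1 := Subtype.ext h5
  have hsw : (s6 * w6) ^ 4 = 1 := by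
    apply Subtype.ext
    show (ps * pw) ^ 4 = 1
    decide
  have hww : w6 * w6 = 1 := by
    apply Subtype.ext
    show pw * pw = 1
    decide
  have hrel : Rel (m : P6) ((α w6 : A6) : P6) := by
    refine ⟨?_, ?_, ?_, ?_⟩
    · have := congrArg α hww
      rw [map_mul, map_one] at this
      exact congrArg Subtype.val this
    · have := congrArg α hsw
      rw [map_pow, map_mul, map_one, h1] at this
      have h3 := congrArg Subtype.val this
      rw [pow_succ', pow_succ', pow_two] at h3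
      exact h3
    · have := congrArg α hg5
      rw [map_pow, map_mul, map_one, h2, hs3] at this
      have h3 := congrArg Subtype.val this
      rw [pow_succ', pow_succ', pow_succ', pow_two] at h3
      exact h3
    · exact Equiv.Perm.mem_alternatingGroup.1 (α w6).2
  obtain ⟨h, hh, hsg⟩ := fuse hm _ hrel
  refine ⟨m * w6, ⟨h, Equiv.Perm.mem_alternatingGroup.2 hsg⟩, ?_, ?_⟩
  · have : Fact (Nat.Prime 5) := ⟨by norm_num⟩
    exact orderOf_eq_prime hg5 (fun h => hne (congrArg Subtype.val h))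
  · rw [map_mul, h2, hs3, eq_mul_inv_iff_mul_eq, pow_two]
    exact Subtype.ext hh.symm

/-- the nine elements of the Sylow 3-subgroup -/
def EL (k l : Fin 3) : P6 := ps ^ (k : ℕ) * pt ^ (l : ℕ)

theorem basis_check : ∀ k l k' l' : Fin 3, (EL k l ≠ 1 ∧ EL k' l' ≠ 1 ∧ EL k l ≠ EL k' l' ∧ EL k l * EL k' l' ≠ 1) →
    ∃ i j : Fin 3, ps = EL k l ^ (i : ℕ) * EL k' l' ^ (j : ℕ) ∧
      (Good ((EL k' l')⁻¹ ^ (i : ℕ) * EL k l ^ (j : ℕ)) ∨
        Good (((EL k l)⁻¹ * (EL k' l')⁻¹) ^ (i : ℕ) * (EL k' l' * (EL k l)⁻¹) ^ (j : ℕ))) := by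
  decide +kernel

end Cfsg.Agent.H907.Mx
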