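import Mathlib
import Cfsg.Agent.H907.MxM10

/-!
Automorphisms of `A₆` acting on a Sylow 3-subgroup as a quaternion group fuse the two classes of elements of order
five.
-/

set_option autoImplicit false
set_option linter.unusedSectionVars false

namespace Cfsg.Agent.H907.Mx

section nine

variable {G : Type*} [Group G] {a b : G} (ha : a ^ 3 = 1) (hb : b ^ 3 = 1) (hab : a * b = b * a) (ha1 : a ≠ 1)
  (hb1 : b ≠ 1) (hne : a ≠ b) (hne' : a * b ≠ 1)

theorem mem_zpowers_three {a x : G} (ha : a ^ 3 = 1) (hx : x ∈ Subgroup.zpowers a) : ∃ i : Fin 3, x = a ^ (i : ℕ) := by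
  obtain ⟨k, rfl⟩ := hx
  have h1 : (0 : ℤ) ≤ k % 3 := Int.emod_nonneg _ (by norm_num)
  have h2 : k % 3 < 3 := Int.emod_lt_of_pos _ (by norm_num)
  refine ⟨⟨(k % 3).toNat, by omega⟩, ?_⟩
  show a ^ k = a ^ (k % 3).toNat
  rw [← zpow_natCast, Int.toNat_of_nonneg h1]
  conv_lhs => rw [← Int.emod_add_mul_ediv k 3]
  rw [zpow_add, zpow_mul]
  have : a ^ (3 : ℤ) = 1 := by exact_mod_cast ha
  rw [this, one_zpow, mul_one]

include ha hb hab ha1 hb1 hne hne' in
theorem exists_nine : ∃ E : Subgroup G, Nat.card E = 3 ^ 2 ∧ a ∈ E ∧ b ∈ E ∧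
    ∀ x ∈ E, ∃ i j : Fin 3, x = a ^ (i : ℕ) * b ^ (j : ℕ) := by
  have h3 : Fact (Nat.Prime 3) := ⟨Nat.prime_three⟩
  have hoa : orderOf a = 3 := orderOf_eq_prime ha ha1
  have hob : orderOf b = 3 := orderOf_eq_prime hb hb1
  have hcomm : ∀ (x : Subgroup.zpowers a) (y : Subgroup.zpowers b),
      Commute ((Subgroup.zpowers a).subtype x) ((Subgroup.zpowers b).subtype y) := by
    rintro ⟨x, k, rfl⟩ ⟨y, l, rfl⟩
    exact (show Commute a b from hab).zpow_zpow k l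
  let f := MonoidHom.noncommCoprod (Subgroup.zpowers a).subtype (Subgroup.zpowers b).subtype hcomm
  have hf : Function.Injective f := by
    rw [injective_iff_map_eq_one]
    rintro ⟨x, y⟩ hxy
    have h1 : (x : G) * (y : G) = 1 := hxy
    obtain ⟨i, hi⟩ := mem_zpowers_three ha x.2
    obtain ⟨j, hj⟩ := mem_zpowers_three hb y.2
    rw [hi, hj] at h1
    have h2 : (i : ℕ) = 0 ∧ (j : ℕ) = 0 := by
      fin_cases i <;> fin_cases j
      · exact ⟨rfl, rfl⟩
      · exfalso; simp at h1; exact hb1 h1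
      · exfalso
        simp at h1
        apply hb1
        have h5 : b ^ 3 = b := by rw [pow_succ, h1, one_mul]
        rw [← h5, hb]
      · exfalso; simp at h1; exact ha1 h1
      · exfalso; simp at h1; exact hne' h1
      · exfalso
        simp at h1
        apply hne
        have : a * b ^ 3 = b := by rw [pow_succ, ← mul_assoc, h1, one_mul]
        rw [hb, mul_one] at this
        exact this
      · exfalso
        simp at h1
        apply ha1
        have : a ^ 3 = a := by rw [pow_succ, h1, one_mul]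
        rw [← this, ha]
      · exfalso
        simp at h1
        apply hne
        have : a ^ 3 * b = a := by rw [pow_succ', mul_assoc, h1, mul_one]
        rw [ha, one_mul] at this
        exact this.symm
      · exfalso
        simp at h1
        apply hne'
        have : a * (a ^ 2 * b ^ 2) * b = a * b := by rw [h1, mul_one]
        rw [← this, ← mul_assoc, ← pow_succ', ha, one_mul, ← pow_succ, hb]
    apply Prod.ext
    · apply Subtype.ext
      rw [hi, h2.1]; simp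
    · apply Subtype.ext
      rw [hj, h2.2]; simp
  refine ⟨f.range, ?_, ⟨(⟨a, Subgroup.mem_zpowers a⟩, 1), ?_⟩, ⟨(1, ⟨b, Subgroup.mem_zpowers b⟩), ?_⟩, ?_⟩
  · rw [← Nat.card_congr (MonoidHom.ofInjective hf).toEquiv, Nat.card_prod, Nat.card_zpowers, Nat.card_zpowers, hoa,
      hob]
    norm_num
  · show a * 1 = a
    rw [mul_one]
  · show 1 * b = b
    rw [one_mul]
  · rintro _ ⟨⟨x, y⟩, rfl⟩
    obtain ⟨i, hi⟩ := mem_zpowers_three ha x.2
    obtain ⟨j, hj⟩ := mem_zpowers_three hb y.2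
    exact ⟨i, j, by rw [← hi, ← hj]; rfl⟩

end nine

theorem conj_map (φ : MulAut A6) (x : A6) : φ * MulAut.conj x * φ⁻¹ = MulAut.conj (φ x) := by
  ext y : 1
  show φ (x * φ⁻¹ y * x⁻¹) = φ x * y * (φ x)⁻¹
  rw [map_mul, map_mul, map_inv, MulAut.apply_inv_self]

theorem conj_inj {x y : A6} (h : MulAut.conj x = MulAut.conj y) : x = y := by
  have h1 : y⁻¹ * x = 1 := by
    apply Cfsg.Agent.H824.ProdLem.center_a6
    intro z
    have h2 := congrArg (fun f : MulAut A6 => f z) h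
    simp only [MulAut.conj_apply] at h2
    have h3 : y⁻¹ * x * z = y⁻¹ * (x * z * x⁻¹) * x := by group
    rw [h3, h2]; group
  rw [inv_mul_eq_one] at h1
  exact h1.symm

theorem exists_fuse {a b φ φ' : MulAut A6} (ha : a ^ 3 = 1) (hb : b ^ 3 = 1) (hab : a * b = b * a) (ha1 : a ≠ 1)
    (hb1 : b ≠ 1) (hne : a ≠ b) (hne' : a * b ≠ 1) (h1 : φ * a * φ⁻¹ = b⁻¹) (h2 : φ * b * φ⁻¹ = a)
    (h3 : φ' * a * φ'⁻¹ = a⁻¹ * b⁻¹) (h4 : φ' * b * φ'⁻¹ = b * a⁻¹) :
    ∃ τ, (τ = φ ∨ τ = φ') ∧ ∃ g h : A6, orderOf g = 5 ∧ τ g = h * g ^ 2 * h⁻¹ := by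
  obtain ⟨E, hE, haE, hbE, -⟩ := exists_nine ha hb hab ha1 hb1 hne hne'
  -- the standard subgroup
  have hs3 : s6 ^ 3 = 1 := Subtype.ext (by show ps ^ 3 = 1; decide)
  have ht3 : t6 ^ 3 = 1 := Subtype.ext (by show pt ^ 3 = 1; decide)
  have hst : s6 * t6 = t6 * s6 := Subtype.ext (by show ps * pt = pt * ps; decide)
  have hs1 : s6 ≠ 1 := fun h => absurd (congrArg Subtype.val h) (by show ¬ ps = 1; decide)
  have ht1 : t6 ≠ 1 := fun h => absurd (congrArg Subtype.val h) (by show ¬ pt = 1; decide)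
  have hsn : s6 ≠ t6 := fun h => absurd (congrArg Subtype.val h) (by show ¬ ps = pt; decide)
  have hsn' : s6 * t6 ≠ 1 := fun h => absurd (congrArg Subtype.val h) (by show ¬ ps * pt = 1; decide)
  obtain ⟨E₀, hE₀, -, -, hE₀'⟩ := exists_nine (a := MulAut.conj s6) (b := MulAut.conj t6)
    (by rw [← map_pow, hs3, map_one]) (by rw [← map_pow, ht3, map_one]) (by rw [← map_mul, ← map_mul, hst])
    (fun h => hs1 (conj_inj (by rw [h, map_one]))) (fun h => ht1 (conj_inj (by rw [h, map_one])))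
    (fun h => hsn (conj_inj h)) (fun h => hsn' (conj_inj (by rw [map_mul, h, map_one])))
  have hA := Cfsg.Agent.H824.ProdLem.card_aut_a6
  have hfin : Finite (MulAut A6) := Nat.finite_of_card_ne_zero (by rw [hA]; norm_num)
  obtain ⟨β, -, hβ⟩ := Cfsg.Agent.H907.SU3.exists_conj_of_card (S := (⊤ : Subgroup (MulAut A6))) Nat.prime_three
    (le_top : E ≤ ⊤) (le_top : E₀ ≤ ⊤) hE hE₀ (by rw [Subgroup.card_top, hA]; norm_num)
  obtain ⟨k, l, hkl⟩ := hE₀' _ (hβ a haE)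
  obtain ⟨k', l', hkl'⟩ := hE₀' _ (hβ b hbE)
  rw [← map_pow, ← map_pow, ← map_mul] at hkl hkl'
  obtain ⟨u, hu⟩ : ∃ u : A6, u = s6 ^ (k : ℕ) * t6 ^ (l : ℕ) := ⟨_, rfl⟩
  obtain ⟨v, hv⟩ : ∃ v : A6, v = s6 ^ (k' : ℕ) * t6 ^ (l' : ℕ) := ⟨_, rfl⟩
  rw [← hu] at hkl
  rw [← hv] at hkl'
  have hue : (u : P6) = EL k l := by rw [hu]; rfl
  have hve : (v : P6) = EL k' l' := by rw [hv]; rfl
  have hu1 : u ≠ 1 := by
    rintro rfl
    apply ha1
    rw [map_one, mul_inv_eq_one, mul_eq_left] at hkl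
    exact hkl
  have hv1 : v ≠ 1 := by
    rintro rfl
    apply hb1
    rw [map_one, mul_inv_eq_one, mul_eq_left] at hkl'
    exact hkl'
  have huv : u ≠ v := by
    rintro rfl
    apply hne
    have : β * a * β⁻¹ = β * b * β⁻¹ := by rw [hkl, hkl']
    exact mul_left_cancel (mul_right_cancel this)
  have huv' : u * v ≠ 1 := by
    intro h
    apply hne'
    have h5 : β * (a * b) * β⁻¹ = 1 := by
      have : β * (a * b) * β⁻¹ = (β * a * β⁻¹) * (β * b * β⁻¹) := by group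
      rw [this, hkl, hkl', ← map_mul, h, map_one]
    rw [mul_inv_eq_one, mul_eq_left] at h5
    exact h5
  have hcomm : u * v = v * u := by
    apply conj_inj
    rw [map_mul, map_mul, ← hkl, ← hkl']
    have e1 : β * a * β⁻¹ * (β * b * β⁻¹) = β * (a * b) * β⁻¹ := by group
    have e2 : β * b * β⁻¹ * (β * a * β⁻¹) = β * (b * a) * β⁻¹ := by group
    rw [e1, e2, hab]
  -- the action of the conjugates of `φ`, `φ'`
  have key : ∀ (τ x y : MulAut A6) (z z' : A6), β * x * β⁻¹ = MulAut.conj z → β * y * β⁻¹ = MulAut.conj z' →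
      τ * x * τ⁻¹ = y → (β * τ * β⁻¹ : MulAut A6) z = z' := by
    intro τ x y z z' hx hy hτ
    apply conj_inj
    rw [← conj_map, ← hx, ← hy, ← hτ]
    group
  have hci : ∀ {x : MulAut A6} {z : A6}, β * x * β⁻¹ = MulAut.conj z → β * x⁻¹ * β⁻¹ = MulAut.conj z⁻¹ := by
    intro x z h
    rw [map_inv, ← h]; group
  have hcm : ∀ {x y : MulAut A6} {z z' : A6}, β * x * β⁻¹ = MulAut.conj z → β * y * β⁻¹ = MulAut.conj z' →
      β * (x * y) * β⁻¹ = MulAut.conj (z * z') := by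
    intro x y z z' h h'
    rw [map_mul, ← h, ← h']; group
  have f1 := key φ a b⁻¹ u v⁻¹ hkl (hci hkl') h1
  have f2 := key φ b a v u hkl' hkl h2
  have f3 := key φ' a (a⁻¹ * b⁻¹) u (u⁻¹ * v⁻¹) hkl (hcm (hci hkl) (hci hkl')) h3
  have f4 := key φ' b (b * a⁻¹) v (v * u⁻¹) hkl' (hcm hkl' (hci hkl)) h4
  obtain ⟨i, j, hij, hgood⟩ := basis_check k l k' l' ⟨by rw [← hue]; exact fun h => hu1 (Subtype.ext h),
    by rw [← hve]; exact fun h => hv1 (Subtype.ext h), by rw [← hue, ← hve]; exact fun h => huv (Subtype.ext h),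
    by rw [← hue, ← hve]; exact fun h => huv' (Subtype.ext h)⟩
  rw [← hue, ← hve] at hij hgood
  have hs : s6 = u ^ (i : ℕ) * v ^ (j : ℕ) := Subtype.ext hij
  have hsi : s6⁻¹ = u⁻¹ ^ (i : ℕ) * v⁻¹ ^ (j : ℕ) := by
    rw [hs, mul_inv_rev, inv_pow, inv_pow]
    have : Commute u v := hcomm
    exact ((this.pow_pow (i : ℕ) (j : ℕ)).inv_inv).eq.symm
  have fin : ∀ τ : MulAut A6, (∃ m : A6, Good m ∧ (β * τ * β⁻¹ : MulAut A6) s6 = m ∧
      (β * τ * β⁻¹ : MulAut A6) m = s6⁻¹) → ∃ g h : A6, orderOf g = 5 ∧ τ g = h * g ^ 2 * h⁻¹ := by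
    rintro τ ⟨m, hm, hm1, hm2⟩
    obtain ⟨g, h, hg, hgh⟩ := aut_fuse _ m hm hm1 hm2
    refine ⟨β⁻¹ g, β⁻¹ h, ?_, ?_⟩
    · rw [← hg]
      exact orderOf_injective (β⁻¹ : MulAut A6).toMonoidHom (β⁻¹ : MulAut A6).injective g
    · have h5 : τ (β⁻¹ g) = β⁻¹ ((β * τ * β⁻¹ : MulAut A6) g) := by
        show τ (β⁻¹ g) = β⁻¹ (β (τ (β⁻¹ g)))
        rw [MulAut.inv_apply_self]
      rw [h5, hgh, map_mul, map_mul, map_pow, map_inv]
  rcases hgood with hgood | hgood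
  · refine ⟨φ, Or.inl rfl, fin φ ⟨v⁻¹ ^ (i : ℕ) * u ^ (j : ℕ), hgood, ?_, ?_⟩⟩
    · conv_lhs => rw [hs]
      rw [map_mul, map_pow, map_pow, f1, f2]
    · rw [map_mul, map_pow, map_pow, map_inv, f1, f2, hsi]
  · refine ⟨φ', Or.inr rfl, fin φ' ⟨(u⁻¹ * v⁻¹) ^ (i : ℕ) * (v * u⁻¹) ^ (j : ℕ), hgood, ?_, ?_⟩⟩
    · conv_lhs => rw [hs]
      rw [map_mul, map_pow, map_pow, f3, f4]
    · rw [map_mul, map_pow, map_pow, map_mul, map_mul, map_inv, map_inv, f3, f4, hsi]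
      have hu3 : u ^ 3 = 1 := by
        have h5 : Commute s6 t6 := hst
        rw [hu, (h5.pow_pow _ _).mul_pow, ← pow_mul, ← pow_mul, mul_comm (k : ℕ) 3, mul_comm (l : ℕ) 3, pow_mul, pow_mul,
          hs3, ht3, one_pow, one_pow, one_mul]
      have hv3 : v ^ 3 = 1 := by
        have h5 : Commute s6 t6 := hst
        rw [hv, (h5.pow_pow _ _).mul_pow, ← pow_mul, ← pow_mul, mul_comm (k' : ℕ) 3, mul_comm (l' : ℕ) 3, pow_mul,
          pow_mul, hs3, ht3, one_pow, one_pow, one_mul]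
      have hu2 : u * u = u⁻¹ := by rw [eq_inv_iff_mul_eq_one, ← pow_two, ← pow_succ, hu3]
      have hv2 : v * v = v⁻¹ := by rw [eq_inv_iff_mul_eq_one, ← pow_two, ← pow_succ, hv3]
      have e1 : (u⁻¹ * v⁻¹)⁻¹ * (v * u⁻¹)⁻¹ = u⁻¹ := by
        have : (u⁻¹ * v⁻¹)⁻¹ * (v * u⁻¹)⁻¹ = v * (u * u) * v⁻¹ := by
          simp only [mul_inv_rev, inv_inv, mul_assoc]
        rw [this, hu2]
        have h5 : Commute v u⁻¹ := (show Commute u v from hcomm).symm.inv_right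
        rw [h5.eq, mul_inv_cancel_right]
      have e2 : v * u⁻¹ * (u⁻¹ * v⁻¹)⁻¹ = v⁻¹ := by
        have : v * u⁻¹ * (u⁻¹ * v⁻¹)⁻¹ = v * ((u⁻¹ * v) * u) := by
          simp only [mul_inv_rev, inv_inv, mul_assoc]
        rw [this]
        have h5 : Commute u⁻¹ v := (show Commute u v from hcomm).inv_left
        rw [h5.eq, inv_mul_cancel_right, hv2]
      rw [e1, e2]

end Cfsg.Agent.H907.Mx
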