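import Mathlib
import Cfsg.Agent.H907.MxM10b
import Cfsg.Agent.H907.MxRes2
import Cfsg.Agent.H912.Bd4

/-!
A group in the residual class with socle `A₆` does not contain the quaternion normaliser of a group of order 27.
-/

set_option autoImplicit false
set_option linter.unusedSectionVars false

namespace Cfsg.Agent.H907.Mx

open Cfsg Cfsg.Geo Matrix Cfsg.Agent.H907 Cfsg.Agent.H918 Cfsg.Agent.H907.SU3 Cfsg.Agent.H912.Bd
open scoped MatrixGroups

variable {F : Type*} [Field F] [Fintype F] {q : ℕ} {H P : Subgroup (GL (Fin 3) F)} (hP : IsResidualCore H P)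

section action

variable (e : PQ P ≃* A6)

/-- the action on `A₆` -/
noncomputable def fA : H →* MulAut A6 := (MulAut.congr e).toMonoidHom.comp (cQ hP)

theorem fA_ker {h : H} : fA hP e h = 1 ↔ (h : GL (Fin 3) F) ∈ scalars (Fin 3) F := by
  rw [← cQ_ker hP]
  constructor
  · intro h1
    exact (MulAut.congr e).injective (by rw [map_one]; exact h1)
  · intro h1
    show MulAut.congr e (cQ hP h) = 1
    rw [h1, map_one]

theorem fA_mem (p : P) : fA hP e ⟨p, hP.le p.2⟩ = MulAut.conj (e (QuotientGroup.mk p : PQ P)) := by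
  ext y : 1
  obtain ⟨z, rfl⟩ := e.surjective y
  obtain ⟨x, rfl⟩ := QuotientGroup.mk_surjective z
  show e (cQ hP ⟨p, hP.le p.2⟩ (e.symm (e (QuotientGroup.mk x)))) = _
  rw [e.symm_apply_apply, cQ_mk, MulAut.conj_apply, ← map_mul, ← map_inv, ← map_mul]
  congr 1

theorem conj_mem_range (g : A6) : MulAut.conj g ∈ (fA hP e).range := by
  obtain ⟨z, rfl⟩ := e.surjective g
  obtain ⟨x, rfl⟩ := QuotientGroup.mk_surjective z
  exact ⟨⟨x, hP.le x.2⟩, fA_mem hP e x⟩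

theorem no_fuse (hHS : H ≤ SUg 3 F q) (h5 : (5 : F) ≠ 0) {τ : MulAut A6} (hτ : τ ∈ (fA hP e).range) {g h : A6}
    (hg : orderOf g = 5) (hgh : τ g = h * g ^ 2 * h⁻¹) : False := by
  have hsl : H ≤ specialLinear (Fin 3) F := fun x hx => (hHS hx).2
  have hker : (scalars (Fin 3) F).subgroupOf H = (fA hP e).ker := by
    ext x
    rw [Subgroup.mem_subgroupOf, MonoidHom.mem_ker, fA_ker]
  have hPR : PR F 3 5 (fA hP e).range := PR.of_special H hsl (by norm_num) (by norm_num)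
    ((QuotientGroup.quotientMulEquivOfEq hker).trans (QuotientGroup.quotientKerEquivRange (fA hP e)))
  have hconj : Function.Injective (MulAut.conj : A6 →* MulAut A6) := fun x y hxy => conj_inj hxy
  have hBd : Bd F 5 4 (fA hP e).range := by
    refine bd_of_prime (F := F) (r := 5) (by norm_num) (by exact_mod_cast h5)
      (x := ⟨MulAut.conj g, conj_mem_range hP e g⟩)
      (y := ⟨(MulAut.conj h)⁻¹ * τ, Subgroup.mul_mem _ (Subgroup.inv_mem _ (conj_mem_range hP e h)) hτ⟩) ?_ (k := 2) ?_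
      4 ?_
    · rw [Subgroup.orderOf_mk, ← hg]
      exact orderOf_injective MulAut.conj hconj g
    · apply Subtype.ext
      show (MulAut.conj h)⁻¹ * τ * MulAut.conj g * ((MulAut.conj h)⁻¹ * τ)⁻¹ = MulAut.conj g ^ 2
      have e1 : (MulAut.conj h)⁻¹ * τ * MulAut.conj g * ((MulAut.conj h)⁻¹ * τ)⁻¹ =
          (MulAut.conj h)⁻¹ * (τ * MulAut.conj g * τ⁻¹) * MulAut.conj h := by group
      rw [e1, conj_map, hgh, ← map_inv, ← map_mul, ← map_mul, ← map_pow]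
      congr 1
      group
    · intro i hi hi0
      interval_cases i <;> norm_num
  have := hBd 3 hPR
  omega

end action

include hP in
theorem no_quaternion (hHS : H ≤ SUg 3 F q) (h5 : (5 : F) ≠ 0) (he : Nonempty (PQ P ≃* A6))
    {X C Φ Φ' : GL (Fin 3) F} (hX : X ∈ H) (hC : C ∈ H) (hΦ : Φ ∈ H) (hΦ' : Φ' ∈ H)
    (hX3 : X ^ 3 = 1) (hC3 : C ^ 3 = 1) (hXC : X * C * (C * X)⁻¹ ∈ scalars (Fin 3) F)
    (hX1 : X ∉ scalars (Fin 3) F) (hC1 : C ∉ scalars (Fin 3) F) (hn1 : X * C⁻¹ ∉ scalars (Fin 3) F)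
    (hn2 : X * C ∉ scalars (Fin 3) F) (h1 : Φ * X * Φ⁻¹ = C⁻¹) (h2 : Φ * C * Φ⁻¹ = X)
    (h3 : Φ' * X * Φ'⁻¹ = X⁻¹ * C⁻¹) (h4 : Φ' * C * Φ'⁻¹ * (C * X⁻¹)⁻¹ ∈ scalars (Fin 3) F) : False := by
  obtain ⟨e⟩ := he
  set f := fA hP e with hf
  have hone : ∀ {x : GL (Fin 3) F} (hx : x ∈ H), x ∉ scalars (Fin 3) F → f ⟨x, hx⟩ ≠ 1 := fun hx hns h =>
    hns ((fA_ker hP e).1 h)
  obtain ⟨τ, hτ, g, h, hg, hgh⟩ := exists_fuse (a := f ⟨X, hX⟩) (b := f ⟨C, hC⟩) (φ := f ⟨Φ, hΦ⟩) (φ' := f ⟨Φ', hΦ'⟩)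
    (by rw [← map_pow, show (⟨X, hX⟩ ^ 3 : H) = 1 from Subtype.ext hX3, map_one])
    (by rw [← map_pow, show (⟨C, hC⟩ ^ 3 : H) = 1 from Subtype.ext hC3, map_one])
    (by
      rw [← map_mul, ← map_mul, ← mul_inv_eq_one, ← map_inv, ← map_mul, fA_ker hP e]
      exact hXC)
    (hone hX hX1) (hone hC hC1)
    (by
      intro h
      apply hone (H.mul_mem hX (H.inv_mem hC)) hn1
      have : (⟨X * C⁻¹, H.mul_mem hX (H.inv_mem hC)⟩ : H) = ⟨X, hX⟩ * (⟨C, hC⟩ : H)⁻¹ := rfl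
      rw [this, map_mul, map_inv, h, mul_inv_cancel])
    (by
      intro h
      apply hone (H.mul_mem hX hC) hn2
      have : (⟨X * C, H.mul_mem hX hC⟩ : H) = ⟨X, hX⟩ * (⟨C, hC⟩ : H) := rfl
      rw [this, map_mul, h])
    (by rw [← map_inv, ← map_inv, ← map_mul, ← map_mul]; exact congrArg f (Subtype.ext h1))
    (by rw [← map_inv, ← map_mul, ← map_mul]; exact congrArg f (Subtype.ext h2))
    (by
      rw [← map_inv, ← map_inv, ← map_inv, ← map_mul, ← map_mul, ← map_mul]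
      exact congrArg f (Subtype.ext h3))
    (by
      rw [← map_inv, ← map_inv, ← map_mul, ← map_mul, ← map_mul, ← mul_inv_eq_one, ← map_inv, ← map_mul, fA_ker hP e]
      exact h4)
  refine no_fuse hP e hHS h5 (τ := τ) ?_ hg hgh
  rcases hτ with rfl | rfl
  · exact ⟨_, rfl⟩
  · exact ⟨_, rfl⟩

end Cfsg.Agent.H907.Mx
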