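import Mathlib
import Cfsg.Agent.H907.MxR0
import Cfsg.Agent.H907.SU3Ten

/-!
The standard form of a group of order 27 in `SU_3(q)`.
-/

set_option autoImplicit false
set_option linter.unusedSectionVars false
set_option linter.unusedSimpArgs false

namespace Cfsg.Agent.H907.Mx

open Cfsg Cfsg.Geo Matrix Cfsg.Agent.H907 Cfsg.Agent.H918 Cfsg.Agent.H907.SU3 Cfsg.Agent.LieClassical.HermBasic
open scoped MatrixGroups commutatorElement

/-- Groups whose order divides nine are commutative. -/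
theorem comm_of_card_nine {G : Type*} [Group G] (h : Nat.card G ∣ 9) (a b : G) : a * b = b * a := by
  have h3 : Fact (Nat.Prime 3) := ⟨Nat.prime_three⟩
  obtain ⟨k, hk, hk'⟩ := (Nat.dvd_prime_pow Nat.prime_three).1 (show Nat.card G ∣ 3 ^ 2 by norm_num; exact h)
  have hfin : Finite G := Nat.finite_of_card_ne_zero (by rw [hk']; positivity)
  interval_cases k
  · have : Subsingleton G := (Nat.card_eq_one_iff_unique.1 (by rw [hk', pow_zero])).1
    exact Subsingleton.elim _ _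
  · have := isCyclic_of_prime_card (α := G) (p := 3) (by rw [hk', pow_one])
    obtain ⟨g, hg⟩ := IsCyclic.exists_generator (α := G)
    obtain ⟨i, rfl⟩ := hg a
    obtain ⟨j, rfl⟩ := hg b
    show g ^ i * g ^ j = g ^ j * g ^ i
    rw [← _root_.zpow_add, ← _root_.zpow_add, add_comm]
  · exact (IsPGroup.isMulCommutative_of_card_eq_prime_sq hk').is_comm.comm a b

theorem exp_three {F : Type*} [Field F] {R : Subgroup (GL (Fin 3) F)} (hR : IsSymplecticTypeGroup 3 R) :
    ∀ x ∈ R, x ^ 3 = 1 := by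
  intro x hx
  have h1 : (⟨x, hx⟩ : R) ^ (3 * Nat.gcd 2 3) = 1 := by
    rw [← hR.exponent_eq]; exact Monoid.pow_exponent_eq_one _
  have h2 : 3 * Nat.gcd 2 3 = 3 := by decide
  rw [h2] at h1
  exact congrArg Subtype.val h1

variable {F : Type*} [Field F] [Fintype F] {q : ℕ}

/-- two elements with commutator `ω` -/
theorem exists_pair {R : Subgroup (GL (Fin 3) F)} (hexp : ∀ x ∈ R, x ^ 3 = 1)
    (hirr : ActsAbsolutelyIrreducibly (matrixSet R)) (hcard : Nat.card R = 27)
    (hcen : Nat.card (Subgroup.center R) = 3) {ω : F} (hω : ω ^ 2 + ω + 1 = 0) :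
    ∃ x ∈ R, ∃ y ∈ R, (x : Matrix (Fin 3) (Fin 3) F) * (y : Matrix (Fin 3) (Fin 3) F) =
      ω • ((y : Matrix (Fin 3) (Fin 3) F) * (x : Matrix (Fin 3) (Fin 3) F)) := by
  have hfin : Finite R := Nat.finite_of_card_ne_zero (by rw [hcard]; norm_num)
  have hnc : ¬ ∀ x y : R, x * y = y * x := by
    intro h
    have : Subgroup.center R = ⊤ := by
      rw [eq_top_iff]
      intro x _
      rw [Subgroup.mem_center_iff]
      intro y
      exact h y x
    rw [this, Subgroup.card_top, hcard] at hcen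
    omega
  push Not at hnc
  obtain ⟨x, y, hxy⟩ := hnc
  obtain ⟨c, hc⟩ := scalar_of_comm hirr (g := ((⁅x, y⁆ : R) : GL (Fin 3) F)) (fun r hr => by
    have := Subgroup.mem_center_iff.1 (comm_mem_center hcard hcen x y) ⟨r, hr⟩
    exact (congrArg Subtype.val this).symm)
  have hc' : ((x : GL (Fin 3) F) : Matrix (Fin 3) (Fin 3) F) * ((y : GL (Fin 3) F) : Matrix (Fin 3) (Fin 3) F) =
      c • (((y : GL (Fin 3) F) : Matrix (Fin 3) (Fin 3) F) * ((x : GL (Fin 3) F) : Matrix (Fin 3) (Fin 3) F)) := by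
    have h1 : (x : GL (Fin 3) F) * y = ((⁅x, y⁆ : R) : GL (Fin 3) F) * (y * x) := by
      rw [commutatorElement_def]
      push_cast
      group
    have h2 := congrArg Units.val h1
    rw [Units.val_mul, Units.val_mul, hc, Units.val_mul, Matrix.smul_mul, Matrix.one_mul] at h2
    exact h2
  have hc1 : c ≠ 1 := by
    rintro rfl
    apply hxy
    apply Subtype.ext
    apply Units.ext
    rw [one_smul] at hc'
    exact hc'
  have hc3 : c ^ 3 = 1 := by
    have h1 := hexp _ (⁅x, y⁆ : R).2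
    have h2 := congrArg Units.val h1
    rw [Units.val_pow_eq_pow_val, hc, _root_.smul_pow, one_pow, Units.val_one] at h2
    have := congrFun (congrFun h2 0) 0
    simpa using this
  have hc0 : c ≠ 0 := by
    rintro rfl
    rw [zero_pow (by norm_num)] at hc3
    exact zero_ne_one hc3
  have hcc : (c - ω) * (c - ω ^ 2) = 0 := by
    have h1 : c ^ 2 + c + 1 = 0 := by
      have h2 : (c - 1) * (c ^ 2 + c + 1) = 0 := by linear_combination hc3
      exact (mul_eq_zero.1 h2).resolve_left (sub_ne_zero.2 hc1)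
    have h3 := om_cube hω
    linear_combination h1 - c * hω + h3
  rcases mul_eq_zero.1 hcc with h | h
  · refine ⟨x, x.2, y, y.2, ?_⟩
    rw [hc', sub_eq_zero.1 h]
  · refine ⟨y, y.2, x, x.2, ?_⟩
    rw [hc', smul_smul, sub_eq_zero.1 h, ← pow_succ', om_cube hω, one_smul]

/-- **Standard form.** -/
theorem std_form (hF : Fintype.card F = q ^ 2) (hq3 : q % 3 = 2) {ω : F} (hω : ω ^ 2 + ω + 1 = 0) (h3 : (3 : F) ≠ 0)
    {X C : GL (Fin 3) F} (hX : (X : Matrix (Fin 3) (Fin 3) F) = Matrix.diagonal ![1, ω, ω ^ 2])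
    (hC : (C : Matrix (Fin 3) (Fin 3) F) = !![0, 0, 1; 1, 0, 0; 0, 1, 0])
    {R : Subgroup (GL (Fin 3) F)} (hexp : ∀ x ∈ R, x ^ 3 = 1)
    (hirr : ActsAbsolutelyIrreducibly (matrixSet R)) (hRS : R ≤ SUg 3 F q) (hcard : Nat.card R = 27)
    (hcen : Nat.card (Subgroup.center R) = 3) :
    ∃ P ∈ Cfsg.GU 3 F q, R = (Subgroup.closure {X, C}).map (MulAut.conj P).toMonoidHom := by
  obtain ⟨x, hx, y, hy, hxy⟩ := exists_pair hexp hirr hcard hcen hω
  have hω3 := om_cube hω
  have hω0 := om_ne_zero hω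
  have hωq := om_q hF hq3 hω
  have hω1 := om_ne_one hω h3
  have hω2 : ω ^ 2 ≠ 1 := by
    intro h
    apply hω1
    calc ω = ω ^ 3 := by rw [pow_succ, h, one_mul]
      _ = 1 := hω3
  have hω2q : (ω ^ 2) ^ q = ω := by
    rw [← pow_mul, mul_comm, pow_mul, hωq, ← pow_mul, show 2 * 2 = 3 + 1 by norm_num, pow_succ, hω3, one_mul]
  have hyi : ((y⁻¹ : GL (Fin 3) F) : Matrix (Fin 3) (Fin 3) F) * (y : Matrix (Fin 3) (Fin 3) F) = 1 := by
    rw [← Units.val_mul, inv_mul_cancel, Units.val_one]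
  -- an eigenvector
  have hdet : ∀ c : F, ((x : Matrix (Fin 3) (Fin 3) F) - (ω * c) • 1).det =
      ((x : Matrix (Fin 3) (Fin 3) F) - c • 1).det := by
    intro c
    have h1 : ((x : Matrix (Fin 3) (Fin 3) F) - (ω * c) • 1) * (y : Matrix (Fin 3) (Fin 3) F) =
        ω • ((y : Matrix (Fin 3) (Fin 3) F) * ((x : Matrix (Fin 3) (Fin 3) F) - c • 1)) := by
      rw [Matrix.sub_mul, hxy, Matrix.mul_sub, smul_sub]
      congr 1
      simp [smul_smul]
    have h2 := congrArg Matrix.det h1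
    rw [Matrix.det_mul, Matrix.det_smul, Matrix.det_mul, Fintype.card_fin, hω3, one_mul, mul_comm] at h2
    have hdy : (y : Matrix (Fin 3) (Fin 3) F).det ≠ 0 := ((Matrix.isUnit_iff_isUnit_det _).1 y.isUnit).ne_zero
    exact mul_left_cancel₀ hdy h2
  have hd1 : ((x : Matrix (Fin 3) (Fin 3) F) - (1 : F) • 1).det = 0 := by
    have h1 := hdet 1
    have h2 := hdet (ω * 1)
    have h4 : ((x : Matrix (Fin 3) (Fin 3) F) - (1 : F) • 1) * ((x : Matrix (Fin 3) (Fin 3) F) - (ω * 1) • 1) *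
        ((x : Matrix (Fin 3) (Fin 3) F) - (ω * (ω * 1)) • 1) = 0 := by
      have hx3 : (x : Matrix (Fin 3) (Fin 3) F) ^ 3 = 1 := by
        rw [← Units.val_pow_eq_pow_val, hexp x hx, Units.val_one]
      have e : ((x : Matrix (Fin 3) (Fin 3) F) - (1 : F) • 1) * ((x : Matrix (Fin 3) (Fin 3) F) - (ω * 1) • 1) *
        ((x : Matrix (Fin 3) (Fin 3) F) - (ω * (ω * 1)) • 1) =
          (x : Matrix (Fin 3) (Fin 3) F) ^ 3 - (ω ^ 2 + ω + 1) • (x : Matrix (Fin 3) (Fin 3) F) ^ 2 +
            (ω * (ω ^ 2 + ω + 1)) • (x : Matrix (Fin 3) (Fin 3) F) - (ω ^ 3) • 1 := by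
        simp only [Matrix.sub_mul, Matrix.mul_sub, Matrix.smul_mul, Matrix.mul_smul, Matrix.one_mul, Matrix.mul_one,
          smul_sub, smul_smul, pow_succ, pow_zero, one_mul, mul_one, one_smul, add_smul, mul_add, mul_assoc]
        abel
      rw [e, hω, hω3, hx3]
      simp
    have h5 := congrArg Matrix.det h4
    rw [Matrix.det_mul, Matrix.det_mul, h2, h1, Matrix.det_zero] at h5
    simpa using h5
  obtain ⟨v, hv0, hv⟩ := Matrix.exists_mulVec_eq_zero_iff.2 hd1
  rw [one_smul, Matrix.sub_mulVec, Matrix.one_mulVec, sub_eq_zero] at hv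
  -- the other eigenvectors
  have hxyv : ∀ (w : Fin 3 → F) (c : F), (x : Matrix (Fin 3) (Fin 3) F) *ᵥ w = c • w →
      (x : Matrix (Fin 3) (Fin 3) F) *ᵥ ((y : Matrix (Fin 3) (Fin 3) F) *ᵥ w) =
        (ω * c) • ((y : Matrix (Fin 3) (Fin 3) F) *ᵥ w) := by
    intro w c hw
    rw [Matrix.mulVec_mulVec, hxy, Matrix.smul_mulVec, ← Matrix.mulVec_mulVec, hw, Matrix.mulVec_smul, smul_smul]
  have hisox : ∀ u w, hermForm 3 F q ((x : Matrix (Fin 3) (Fin 3) F) *ᵥ u) ((x : Matrix (Fin 3) (Fin 3) F) *ᵥ w) =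
      hermForm 3 F q u w := (hRS hx).1
  have hisoy : ∀ u w, hermForm 3 F q ((y : Matrix (Fin 3) (Fin 3) F) *ᵥ u) ((y : Matrix (Fin 3) (Fin 3) F) *ᵥ w) =
      hermForm 3 F q u w := (hRS hy).1
  have horth : ∀ (u w : Fin 3 → F) (c d : F), (x : Matrix (Fin 3) (Fin 3) F) *ᵥ u = c • u →
      (x : Matrix (Fin 3) (Fin 3) F) *ᵥ w = d • w → c * d ^ q ≠ 1 → hermForm 3 F q u w = 0 := by
    intro u w c d hu hw hcd
    have h1 := hisox u w
    rw [hu, hw, herm_smul_left, herm_smul_right, ← mul_assoc] at h1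
    have h2 : (c * d ^ q - 1) * hermForm 3 F q u w = 0 := by linear_combination h1
    exact (mul_eq_zero.1 h2).resolve_left (sub_ne_zero.2 hcd)
  have hv' : (x : Matrix (Fin 3) (Fin 3) F) *ᵥ v = (1 : F) • v := by rw [one_smul]; exact hv
  have hw1 := hxyv v 1 hv'
  have hw2 := hxyv _ _ hw1
  have ho1 : hermForm 3 F q v ((y : Matrix (Fin 3) (Fin 3) F) *ᵥ v) = 0 :=
    horth _ _ _ _ hv' hw1 (by rw [one_mul, mul_one, hωq]; exact hω2)
  have ho2 : hermForm 3 F q v ((y : Matrix (Fin 3) (Fin 3) F) *ᵥ ((y : Matrix (Fin 3) (Fin 3) F) *ᵥ v)) = 0 :=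
    horth _ _ _ _ hv' hw2 (by rw [one_mul, mul_one, ← pow_two, hω2q]; exact hω1)
  have hyv0 : ∀ w : Fin 3 → F, w ≠ 0 → (y : Matrix (Fin 3) (Fin 3) F) *ᵥ w ≠ 0 := by
    intro w hw h
    apply hw
    have : ((y⁻¹ : GL (Fin 3) F) : Matrix (Fin 3) (Fin 3) F) *ᵥ ((y : Matrix (Fin 3) (Fin 3) F) *ᵥ w) = w := by
      rw [Matrix.mulVec_mulVec, hyi, Matrix.one_mulVec]
    rw [← this, h, Matrix.mulVec_zero]
  -- the norm of `v`
  have hnv : hermForm 3 F q v v ≠ 0 := by
    intro h0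
    have hli : LinearIndependent F ![v, (y : Matrix (Fin 3) (Fin 3) F) *ᵥ v,
        (y : Matrix (Fin 3) (Fin 3) F) *ᵥ ((y : Matrix (Fin 3) (Fin 3) F) *ᵥ v)] := by
      apply Module.End.eigenvectors_linearIndependent' (Matrix.toLin' (x : Matrix (Fin 3) (Fin 3) F)) ![1, ω, ω ^ 2]
        (om_injective hω h3)
      intro i
      rw [Module.End.hasEigenvector_iff, Module.End.mem_eigenspace_iff, Matrix.toLin'_apply]
      fin_cases i
      · exact ⟨hv', hv0⟩
      · refine ⟨?_, hyv0 _ hv0⟩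
        rw [mul_one] at hw1
        exact hw1
      · refine ⟨?_, hyv0 _ (hyv0 _ hv0)⟩
        rw [mul_one, ← pow_two] at hw2
        exact hw2
    have hspan := hli.span_eq_top_of_card_eq_finrank' (by simp)
    obtain ⟨w, hw⟩ := exists_herm_ne_zero hF hv0
    apply hw
    have hall : ∀ w ∈ Submodule.span F (Set.range ![v, (y : Matrix (Fin 3) (Fin 3) F) *ᵥ v,
        (y : Matrix (Fin 3) (Fin 3) F) *ᵥ ((y : Matrix (Fin 3) (Fin 3) F) *ᵥ v)]), hermForm 3 F q w v = 0 := by
      intro w hw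
      induction hw using Submodule.span_induction with
      | mem z hz =>
        obtain ⟨i, rfl⟩ := hz
        fin_cases i
        · exact h0
        · exact herm_eq_zero_swap hF ho1
        · exact herm_eq_zero_swap hF ho2
      | zero => exact herm_zero_left _
      | add a b _ _ ha hb => rw [herm_add_left, ha, hb, add_zero]
      | smul c a _ ha => rw [herm_smul_left, ha, mul_zero]
    exact herm_eq_zero_swap hF (hall w (by rw [hspan]; trivial))
  obtain ⟨c, hc0, hc⟩ := exists_unit_smul hF hnv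
  -- the orthonormal basis
  obtain ⟨w, hwdef⟩ : ∃ w : Fin 3 → Fin 3 → F, w = ![c • v, (y : Matrix (Fin 3) (Fin 3) F) *ᵥ (c • v),
    (y : Matrix (Fin 3) (Fin 3) F) *ᵥ ((y : Matrix (Fin 3) (Fin 3) F) *ᵥ (c • v))] := ⟨_, rfl⟩
  have hxw : ∀ i, (x : Matrix (Fin 3) (Fin 3) F) *ᵥ w i = (![1, ω, ω ^ 2] i) • w i := by
    have e0 : (x : Matrix (Fin 3) (Fin 3) F) *ᵥ (c • v) = (1 : F) • (c • v) := by
      rw [Matrix.mulVec_smul, hv', smul_comm]
    have e1 := hxyv _ _ e0
    have e2 := hxyv _ _ e1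
    intro i
    rw [hwdef]
    fin_cases i
    · exact e0
    · rw [mul_one] at e1; exact e1
    · rw [mul_one, ← pow_two] at e2; exact e2
  have hy3 : ∀ u : Fin 3 → F, (y : Matrix (Fin 3) (Fin 3) F) *ᵥ ((y : Matrix (Fin 3) (Fin 3) F) *ᵥ
      ((y : Matrix (Fin 3) (Fin 3) F) *ᵥ u)) = u := by
    intro u
    have h1 : (y : Matrix (Fin 3) (Fin 3) F) * ((y : Matrix (Fin 3) (Fin 3) F) * (y : Matrix (Fin 3) (Fin 3) F)) = 1 := by
      have := congrArg Units.val (hexp y hy)
      rw [pow_succ', pow_two] at this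
      exact this
    rw [Matrix.mulVec_mulVec, Matrix.mulVec_mulVec, mul_assoc, h1, Matrix.one_mulVec]
  have hyw : ∀ i, (y : Matrix (Fin 3) (Fin 3) F) *ᵥ w i = w (i + 1) := by
    intro i
    rw [hwdef]
    fin_cases i
    · rfl
    · rfl
    · exact hy3 _
  have hww : ∀ i, hermForm 3 F q (w i) (w i) = 1 := by
    have h0 : hermForm 3 F q (w 0) (w 0) = 1 := by rw [hwdef]; exact hc
    have h1 : hermForm 3 F q (w 1) (w 1) = 1 := by
      have := hisoy (w 0) (w 0)
      rw [hyw 0, h0] at this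
      exact this
    have h2 : hermForm 3 F q (w 2) (w 2) = 1 := by
      have := hisoy (w 1) (w 1)
      rw [hyw 1, h1] at this
      exact this
    intro i
    fin_cases i
    · exact h0
    · exact h1
    · exact h2
  have hortho : ∀ i j, hermForm 3 F q (w i) (w j) = if i = j then 1 else 0 := by
    have hq0 := q_pos hF
    intro i j
    split_ifs with hij
    · subst hij; exact hww i
    · apply horth _ _ _ _ (hxw i) (hxw j)
      fin_cases i <;> fin_cases j <;> simp [hωq, hω2q, hω1, hω2] at hij ⊢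
      · rw [← pow_two]; exact hω2
      · intro h
        apply hω1
        calc ω = ω ^ 3 * ω := by rw [hω3, one_mul]
          _ = ω ^ 2 * ω ^ 2 := by ring
          _ = 1 := h
  obtain ⟨P, hP, hPw⟩ := exists_GU_of_orthonormal hF w hortho
  have hxP : x = P * X * P⁻¹ := by
    rw [eq_mul_inv_iff_mul_eq]
    apply Units.ext
    apply Matrix.ext_of_mulVec_single
    intro i
    rw [Units.val_mul, Units.val_mul, ← Matrix.mulVec_mulVec, ← Matrix.mulVec_mulVec, hPw, hxw, hX, diag_single,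
      Matrix.mulVec_smul, hPw]
  have hyP : y = P * C * P⁻¹ := by
    rw [eq_mul_inv_iff_mul_eq]
    apply Units.ext
    apply Matrix.ext_of_mulVec_single
    intro i
    rw [Units.val_mul, Units.val_mul, ← Matrix.mulVec_mulVec, ← Matrix.mulVec_mulVec, hPw, hyw, hC, cyc_single, hPw]
  refine ⟨P, hP, ?_⟩
  have hle : (Subgroup.closure {X, C}).map (MulAut.conj P).toMonoidHom ≤ R := by
    rw [Subgroup.map_le_iff_le_comap, Subgroup.closure_le]
    intro z hz
    rcases hz with rfl | hz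
    · show P * z * P⁻¹ ∈ R
      rw [← hxP]; exact hx
    · rw [Set.mem_singleton_iff] at hz
      subst hz
      show P * z * P⁻¹ ∈ R
      rw [← hyP]; exact hy
  have hfin : Finite R := Nat.finite_of_card_ne_zero (by rw [hcard]; norm_num)
  set S := (Subgroup.closure {X, C}).map (MulAut.conj P).toMonoidHom with hS
  have hxS : x ∈ S := ⟨X, Subgroup.subset_closure (Or.inl rfl), hxP.symm⟩
  have hyS : y ∈ S := ⟨C, Subgroup.subset_closure (Or.inr rfl), hyP.symm⟩
  have hdvd : Nat.card S ∣ 3 ^ 3 := by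
    have := Subgroup.card_dvd_of_le hle
    rw [hcard] at this
    norm_num; exact this
  symm
  apply Subgroup.eq_of_le_of_card_ge hle
  rw [hcard]
  obtain ⟨k, hk, hk'⟩ := (Nat.dvd_prime_pow Nat.prime_three).1 hdvd
  rcases Nat.lt_or_ge k 3 with h | h
  · exfalso
    have h9 : Nat.card S ∣ 9 := by
      rw [hk', show 9 = 3 ^ 2 by norm_num]
      exact pow_dvd_pow 3 (by omega)
    have hcom := comm_of_card_nine h9 ⟨x, hxS⟩ ⟨y, hyS⟩
    have h1 : x * y = y * x := congrArg Subtype.val hcom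
    have h2 := congrArg Units.val h1
    rw [Units.val_mul, Units.val_mul, hxy] at h2
    have h4 : (ω - 1) • ((y : Matrix (Fin 3) (Fin 3) F) * (x : Matrix (Fin 3) (Fin 3) F)) = 0 := by
      rw [sub_smul, one_smul, h2, sub_self]
    rcases smul_eq_zero.1 h4 with h5 | h5
    · exact hω1 (sub_eq_zero.1 h5)
    · rw [← Units.val_mul] at h5
      exact (y * x).ne_zero h5
  · have : k = 3 := by omega
    rw [hk', this]; norm_num

end Cfsg.Agent.H907.Mx
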