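import Mathlib
import Cfsg.Agent.H907.MxRow6b
import Cfsg.Agent.H907.MxRow7a
import Cfsg.Agent.H907.MxStd

/-!
The normalisers of the groups of order 27 in `SU_3(p)` are maximal.
-/

set_option autoImplicit false
set_option linter.unusedSectionVars false
set_option linter.unusedSimpArgs false

namespace Cfsg.Agent.H907.Mx

open Cfsg Cfsg.Geo Matrix Cfsg.Agent.H907 Cfsg.Agent.H918 Cfsg.Agent.H907.SU3 Cfsg.Agent.LieClassical.HermBasic
open scoped MatrixGroups commutatorElement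

theorem diag_eq {F : Type*} [Field F] (a b c : F) :
    Matrix.diagonal ![a, b, c] = !![a, 0, 0; 0, b, 0; 0, 0, c] := by
  ext i j
  fin_cases i <;> fin_cases j <;> simp

section rel

variable {F : Type*} [Field F] {ω : F} (hω : ω ^ 2 + ω + 1 = 0)
  {X C Φ D : GL (Fin 3) F} (hX : (X : Matrix (Fin 3) (Fin 3) F) = Matrix.diagonal ![1, ω, ω ^ 2])
  (hC : (C : Matrix (Fin 3) (Fin 3) F) = !![0, 0, 1; 1, 0, 0; 0, 1, 0])
  (hD : (D : Matrix (Fin 3) (Fin 3) F) = Matrix.diagonal ![1, 1, ω])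

include hω hX hC in
theorem XC_eq : ((X * C : GL (Fin 3) F) : Matrix (Fin 3) (Fin 3) F) =
    ω • ((C * X : GL (Fin 3) F) : Matrix (Fin 3) (Fin 3) F) := by
  have h3 := om_cube hω
  rw [Units.val_mul, Units.val_mul, hX, hC, diag_eq]
  ext i j
  fin_cases i <;> fin_cases j <;> simp [Matrix.mul_apply, Fin.sum_univ_three]
  · rw [← pow_succ']; exact h3.symm
  · rw [pow_two]

include hω hX hC in
theorem XC_scalar : X * C * (C * X)⁻¹ ∈ scalars (Fin 3) F := by
  rw [mem_scalars_iff]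
  refine ⟨Units.mk0 ω (om_ne_zero hω), ?_⟩
  rw [Units.val_mul, XC_eq hω hX hC, Matrix.smul_mul, ← Units.val_mul, mul_inv_cancel, Units.val_one, Units.val_mk0]

include hX hD in
theorem D_X : D * X * D⁻¹ = X := by
  rw [mul_inv_eq_iff_eq_mul]
  apply Units.ext
  rw [Units.val_mul, Units.val_mul, hX, hD, Matrix.diagonal_mul_diagonal, Matrix.diagonal_mul_diagonal]
  congr 1
  funext i
  fin_cases i <;> simp [mul_comm]

include hω hX hC hD in
theorem D_C : D * C * D⁻¹ = C * X := by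
  have h3 := om_cube hω
  rw [mul_inv_eq_iff_eq_mul]
  apply Units.ext
  rw [Units.val_mul, Units.val_mul, Units.val_mul, hX, hD, hC, diag_eq, diag_eq]
  ext i j
  fin_cases i <;> fin_cases j <;> simp [Matrix.mul_apply, Fin.sum_univ_three]
  · rw [← pow_succ]; exact h3.symm

include hω hX hC hD in
theorem rel_X' (hΦ : (Φ : Matrix (Fin 3) (Fin 3) F) = fourier ω) :
    (D * Φ * D⁻¹) * X * (D * Φ * D⁻¹)⁻¹ = X⁻¹ * C⁻¹ := by
  have h1 := rel_X hω hX hC hΦ
  have h2 := D_X hX hD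
  have h3 := D_C hω hX hC hD
  have e0 : D⁻¹ * X * D = X := by
    conv_lhs => rw [← h2]
    group
  have e1 : (D * Φ * D⁻¹) * X * (D * Φ * D⁻¹)⁻¹ = D * (Φ * (D⁻¹ * X * D) * Φ⁻¹) * D⁻¹ := by group
  rw [e1, e0, h1]
  have e2 : D * C⁻¹ * D⁻¹ = (D * C * D⁻¹)⁻¹ := by group
  rw [e2, h3, _root_.mul_inv_rev]

include hω hX hC hD in
theorem rel_C' (hΦ : (Φ : Matrix (Fin 3) (Fin 3) F) = fourier ω) :
    (D * Φ * D⁻¹) * C * (D * Φ * D⁻¹)⁻¹ = X * C * X := by
  have h1 := rel_X hω hX hC hΦ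
  have h1' := rel_C hω hX hC hΦ
  have h2 := D_X hX hD
  have h3 := D_C hω hX hC hD
  have e0 : D⁻¹ * C * D = C * X⁻¹ := by
    have h4 : D * (C * X⁻¹) * D⁻¹ = C := by
      have : D * (C * X⁻¹) * D⁻¹ = (D * C * D⁻¹) * (D * X * D⁻¹)⁻¹ := by group
      rw [this, h3, h2, mul_inv_cancel_right]
    conv_lhs => rw [← h4]
    group
  have e1 : (D * Φ * D⁻¹) * C * (D * Φ * D⁻¹)⁻¹ = D * (Φ * (D⁻¹ * C * D) * Φ⁻¹) * D⁻¹ := by group
  have e2 : Φ * (C * X⁻¹) * Φ⁻¹ = X * C := by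
    have : Φ * (C * X⁻¹) * Φ⁻¹ = (Φ * C * Φ⁻¹) * (Φ * X * Φ⁻¹)⁻¹ := by group
    rw [this, h1, h1', inv_inv]
  rw [e1, e0, e2]
  have e3 : D * (X * C) * D⁻¹ = (D * X * D⁻¹) * (D * C * D⁻¹) := by group
  rw [e3, h2, h3, mul_assoc]

theorem not_scalar_of {g : GL (Fin 3) F} {i j : Fin 3} (hij : i ≠ j) (h : (g : Matrix (Fin 3) (Fin 3) F) i j ≠ 0) :
    g ∉ scalars (Fin 3) F := by
  intro hs
  obtain ⟨c, hc⟩ := (mem_scalars_iff g).1 hs
  apply h
  rw [hc]
  simp [Matrix.one_apply, hij]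

/-- the normaliser of a closure -/
theorem mem_norm_of [Fintype F] {S : Set (GL (Fin 3) F)} {g : GL (Fin 3) F}
    (h : ∀ x ∈ S, g * x * g⁻¹ ∈ Subgroup.closure S) : g ∈ subgroupNormalizer (Subgroup.closure S) := by
  have hle : (Subgroup.closure S).map (MulAut.conj g).toMonoidHom ≤ Subgroup.closure S := by
    rw [Subgroup.map_le_iff_le_comap, Subgroup.closure_le]
    intro x hx
    exact h x hx
  have heq : (Subgroup.closure S).map (MulAut.conj g).toMonoidHom = Subgroup.closure S := by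
    apply Subgroup.eq_of_le_of_card_ge hle
    exact (Nat.card_congr ((Subgroup.closure S).equivMapOfInjective _ (MulAut.conj g).injective).toEquiv).le
  rw [subgroupNormalizer, Subgroup.mem_normalizer_iff]
  intro x
  constructor
  · intro hx
    exact hle ⟨x, hx, rfl⟩
  · intro hx
    rw [← heq] at hx
    obtain ⟨y, hy, hyx⟩ := hx
    have : y = x := by
      have h5 : g * y * g⁻¹ = g * x * g⁻¹ := hyx
      exact mul_left_cancel (mul_right_cancel h5)
    rw [← this]; exact hy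

end rel

variable {F : Type*} [Field F] [Fintype F] {q : ℕ}

theorem row7_std (hF : Fintype.card F = q ^ 2) (hqp : q.Prime) (hq3 : q % 3 = 2) (h11 : 11 ≤ q) {ω : F}
    (hω : ω ^ 2 + ω + 1 = 0) {X C : GL (Fin 3) F}
    (hX : (X : Matrix (Fin 3) (Fin 3) F) = Matrix.diagonal ![1, ω, ω ^ 2])
    (hC : (C : Matrix (Fin 3) (Fin 3) F) = !![0, 0, 1; 1, 0, 0; 0, 1, 0]) (hXS : X ∈ SUg 3 F q) (hCS : C ∈ SUg 3 F q)
    (hcard : Nat.card (Subgroup.closure {X, C}) = 27) :
    IsMaximalIn (SUg 3 F q) (subgroupNormalizer (Subgroup.closure {X, C}) ⊓ SUg 3 F q) := by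
  have hch := charP_of_prime hF hqp
  have hnat : ∀ n : ℕ, 0 < n → n < 11 → (n : F) ≠ 0 := by
    intro n hn hn' h
    have := Nat.le_of_dvd hn ((CharP.cast_eq_zero_iff F q n).1 h)
    omega
  have h3 : (3 : F) ≠ 0 := by exact_mod_cast hnat 3 (by norm_num) (by norm_num)
  have h5 : (5 : F) ≠ 0 := by exact_mod_cast hnat 5 (by norm_num) (by norm_num)
  have h6 : (6 : F) ≠ 0 := by exact_mod_cast hnat 6 (by norm_num) (by norm_num)
  have h32 : ¬ (3 = 3 ∧ q = 2) := by omega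
  have hω1 := om_ne_one hω h3
  have hω0 := om_ne_zero hω
  obtain ⟨Φ, hΦS, hΦ⟩ := exists_Phi hF hq3 hω h3
  have hωp := om_pow hF hq3 hω
  obtain ⟨D, hDG, hD⟩ : ∃ D ∈ Cfsg.GU 3 F q, (D : Matrix (Fin 3) (Fin 3) F) = Matrix.diagonal ![1, 1, ω] := by
    have hq0 := q_pos hF
    have h1 : ct q (Matrix.diagonal ![1, 1, ω]) * Matrix.diagonal ![1, 1, ω] = 1 := by
      rw [pow_succ] at hωp
      ext i j
      fin_cases i <;> fin_cases j <;>
        simp [ct, Matrix.mul_apply, Fin.sum_univ_three, Matrix.diagonal_apply, Matrix.one_apply, hωp,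
          zero_pow hq0.ne']
    refine ⟨⟨Matrix.diagonal ![1, 1, ω], ct q (Matrix.diagonal ![1, 1, ω]), mul_eq_one_comm.1 h1, h1⟩, ?_, rfl⟩
    exact (mem_GU_iff_ct hF).2 h1
  have hΦ'S : D * Φ * D⁻¹ ∈ SUg 3 F q := conj_mem_SUg hF (GU_le_similarityGroup hF hDG) hΦS
  set R₀ := Subgroup.closure {X, C} with hR₀
  have hXR : X ∈ R₀ := Subgroup.subset_closure (Or.inl rfl)
  have hCR : C ∈ R₀ := Subgroup.subset_closure (Or.inr rfl)
  have hR₀S : R₀ ≤ SUg 3 F q := by
    rw [hR₀, Subgroup.closure_le]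
    intro z hz
    rcases hz with rfl | hz
    · exact hXS
    · rw [Set.mem_singleton_iff] at hz
      subst hz; exact hCS
  have hR₀N : R₀ ≤ subgroupNormalizer R₀ := Subgroup.le_normalizer
  have hR₀B : R₀ ≤ subgroupNormalizer R₀ ⊓ SUg 3 F q := le_inf hR₀N hR₀S
  have hXB := hR₀B hXR
  have hCB := hR₀B hCR
  have hΦB : Φ ∈ subgroupNormalizer R₀ ⊓ SUg 3 F q := by
    refine ⟨mem_norm_of ?_, hΦS⟩
    intro z hz
    rcases hz with rfl | hz
    · rw [rel_X hω hX hC hΦ]; exact R₀.inv_mem hCR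
    · rw [Set.mem_singleton_iff] at hz
      subst hz
      rw [rel_C hω hX hC hΦ]; exact hXR
  have hΦ'B : D * Φ * D⁻¹ ∈ subgroupNormalizer R₀ ⊓ SUg 3 F q := by
    refine ⟨mem_norm_of ?_, hΦ'S⟩
    intro z hz
    rcases hz with rfl | hz
    · rw [rel_X' hω hX hC hD hΦ]; exact R₀.mul_mem (R₀.inv_mem hXR) (R₀.inv_mem hCR)
    · rw [Set.mem_singleton_iff] at hz
      subst hz
      rw [rel_C' hω hX hC hD hΦ]; exact R₀.mul_mem (R₀.mul_mem hXR hCR) hXR
  have hX3 := X_cube hω hX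
  have hC3 := C_cube hC
  have hX1 : X ∉ scalars (Fin 3) F := by
    intro hs
    obtain ⟨c, hc⟩ := (mem_scalars_iff X).1 hs
    rw [hX] at hc
    have h7 := congrFun (congrFun hc 0) 0
    have h8 := congrFun (congrFun hc 1) 1
    simp at h7 h8
    exact hω1 (h8.trans h7.symm)
  have hC1 : C ∉ scalars (Fin 3) F := not_scalar_of (i := 1) (j := 0) (by decide) (by rw [hC]; simp)
  have hsolv : Group.IsSolvable R₀ := by
    have : Fact (Nat.Prime 3) := ⟨Nat.prime_three⟩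
    have hfin : Finite R₀ := Nat.finite_of_card_ne_zero (by rw [hcard]; norm_num)
    have hp : IsPGroup 3 R₀ := IsPGroup.of_card (n := 3) (by rw [hcard]; norm_num)
    have := hp.isNilpotent
    infer_instance
  refine maximal_of hF (by omega) (by omega) (SUg_not_le_subgroupNormalizer hF (by norm_num) h32
    (fun g hg => GU_le_similarityGroup hF (hR₀S hg).1) hsolv (fun h => hX1 (h hXR))) ?_ ?_ ?_ ?_ ?_ ?_ ?_ ?_
  · -- reducible
    intro W hW0 hW1 hle
    rcases irr_of (om_injective hω h3) hX hC (mulVec_mem_of_stab (hle hXB)) (mulVec_mem_of_stab (hle hCB)) with h | h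
    · exact hW0 h
    · exact hW1 h
  · -- decompositions
    intro P hP hle
    exact (dec_R0 hω h3 hX hC (frame_decomp hF hP).decomp hΦ (hle hXB) (hle hCB) (hle hΦB)).elim
  · -- fields
    intro K hK _ _ hle
    exact (field_R0 hω h3 hX hC hF (by omega) hK (hle hXB) (hle hCB)).elim
  · -- subfields
    intro F₁ r P hr hodd hcard' hP hle
    exfalso
    obtain ⟨q₁, hq₁, hqq, -, -⟩ := orderOf_cube_dvd hF hodd hcard' hP (hle hXB) hXS
    rw [hqq] at hqp
    have := Nat.Prime.eq_one_of_pow hqp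
    rw [this] at hr
    exact Nat.not_prime_one hr
  · -- the real type
    intro hodd h7 F₁ P hcard' hP hle
    exfalso
    have hmem : ⁅X, C⁆ ∈ ⁅subfieldSubgroup F₁ P, subfieldSubgroup F₁ P⁆ :=
      Subgroup.commutator_mem_commutator (hle hXB) (hle hCB)
    have hS : ⁅X, C⁆ ∈ SUg 3 F q := by
      rw [commutatorElement_def]
      exact (SUg 3 F q).mul_mem ((SUg 3 F q).mul_mem ((SUg 3 F q).mul_mem hXS hCS) ((SUg 3 F q).inv_mem hXS))
        ((SUg 3 F q).inv_mem hCS)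
    have h1 := real_comm hF (two_ne hF hodd) hcard' hP hmem hS
    have h2 : ((⁅X, C⁆ : GL (Fin 3) F) : Matrix (Fin 3) (Fin 3) F) = ω • 1 := by
      have : ⁅X, C⁆ = X * C * (C * X)⁻¹ := by rw [commutatorElement_def]; group
      rw [this, Units.val_mul, XC_eq hω hX hC, Matrix.smul_mul, ← Units.val_mul, mul_inv_cancel, Units.val_one]
    have h4 : (ω • (1 : Matrix (Fin 3) (Fin 3) F) - 1) = (ω - 1) • 1 := by rw [sub_smul, one_smul]
    rw [h2, h4, Matrix.det_smul, Matrix.det_one, mul_one, Fintype.card_fin] at h1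
    exact hω1 (sub_eq_zero.1 (pow_eq_zero_iff (by norm_num) |>.1 h1))
  · -- symplectic type
    intro R _ _ _ hR hirr hsim hcard' hcen hle
    have hRS := Cfsg.Agent.H907.Mdl.SU35T.symp_le_SUg hF h6 (by omega) hR hirr hsim hcard' hcen
    obtain ⟨P, hP, he⟩ := std_form hF hq3 hω h3 hX hC (exp_three hR) hirr hRS hcard' hcen
    refine same_type hP ?_ hle
    rw [he]; exact norm_map R₀ P
  · -- `L₂(7)`
    intro H hle hcard' _ _
    have h1 : 27 ∣ 1008 := by
      rw [← hcard]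
      exact (Subgroup.card_dvd_of_le (hR₀B.trans hle)).trans hcard'
    exact absurd h1 (by decide)
  · -- `A₆`
    intro H P hle hHS hP he _ _
    refine no_quaternion hP hHS h5 he (hle hXB) (hle hCB) (hle hΦB) (hle hΦ'B) hX3 hC3 (XC_scalar hω hX hC) hX1 hC1
      ?_ ?_ (rel_X hω hX hC hΦ) (rel_C hω hX hC hΦ) (rel_X' hω hX hC hD hΦ) ?_
    · -- `X C⁻¹`
      have hCi : ((C⁻¹ : GL (Fin 3) F) : Matrix (Fin 3) (Fin 3) F) = !![0, 1, 0; 0, 0, 1; 1, 0, 0] := by
        have h5 : C⁻¹ = C * C := by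
          rw [inv_eq_iff_mul_eq_one, ← mul_assoc, ← pow_two, ← pow_succ, hC3]
        rw [h5, Units.val_mul, hC]
        ext i j
        fin_cases i <;> fin_cases j <;> simp [Matrix.mul_apply, Fin.sum_univ_three]
      refine not_scalar_of (i := 0) (j := 1) (by decide) ?_
      rw [entry_XC hX, hCi]
      simp
    · refine not_scalar_of (i := 1) (j := 0) (by decide) ?_
      rw [entry_XC hX, hC]
      simpa using hω0
    · rw [rel_C' hω hX hC hD hΦ]
      have hX2 : X * X = X⁻¹ := by rw [eq_inv_iff_mul_eq_one, ← pow_two, ← pow_succ, hX3]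
      have h7 : X * C * X * (C * X⁻¹)⁻¹ = X * C * (C * X)⁻¹ := by
        have : X * C * X * (C * X⁻¹)⁻¹ = X * C * (X * X) * C⁻¹ := by
          rw [_root_.mul_inv_rev, inv_inv]; group
        rw [this, hX2, _root_.mul_inv_rev, mul_assoc (X * C)]
      rw [h7]
      exact XC_scalar hω hX hC

theorem row7 (hF : Fintype.card F = q ^ 2) (hqp : q.Prime) (hq3 : q % 3 = 2) (h11 : 11 ≤ q)
    {R : Subgroup (GL (Fin 3) F)} (hR : IsSymplecticTypeGroup 3 R)
    (hirr : ActsAbsolutelyIrreducibly (matrixSet R)) (hsim : R ≤ similarityGroup (hermForm 3 F q))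
    (hcard : Nat.card R = 27) (hcen : Nat.card (Subgroup.center R) = 3) :
    IsMaximalIn (SUg 3 F q) (subgroupNormalizer R ⊓ SUg 3 F q) := by
  have hch := charP_of_prime hF hqp
  have hnat : ∀ n : ℕ, 0 < n → n < 11 → (n : F) ≠ 0 := by
    intro n hn hn' h
    have := Nat.le_of_dvd hn ((CharP.cast_eq_zero_iff F q n).1 h)
    omega
  have h3 : (3 : F) ≠ 0 := by exact_mod_cast hnat 3 (by norm_num) (by norm_num)
  have h6 : (6 : F) ≠ 0 := by exact_mod_cast hnat 6 (by norm_num) (by norm_num)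
  -- a cube root of unity
  obtain ⟨ζ, hζ⟩ := exists_orderOf_eq hF
  obtain ⟨m, hm⟩ : 3 ∣ q + 1 := by omega
  obtain ⟨ω, hωd⟩ : ∃ ω : F, ω = ζ ^ m := ⟨_, rfl⟩
  have hω : ω ^ 2 + ω + 1 = 0 := by
    have h1 : ω ^ 3 = 1 := by rw [hωd, ← pow_mul, mul_comm, ← hm, ← hζ, pow_orderOf_eq_one]
    have h2 : ω ≠ 1 := by
      rw [hωd]
      exact pow_ne_one_of hζ (by omega) (by omega)
    have h4 : (ω - 1) * (ω ^ 2 + ω + 1) = 0 := by linear_combination h1
    exact (mul_eq_zero.1 h4).resolve_left (sub_ne_zero.2 h2)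
  obtain ⟨X, hXS, hX⟩ := exists_X hF hq3 hω
  obtain ⟨C, hCS, hC⟩ := exists_cyc hF
  have hRS := Cfsg.Agent.H907.Mdl.SU35T.symp_le_SUg hF h6 (by omega) hR hirr hsim hcard hcen
  obtain ⟨P, hP, he⟩ := std_form hF hq3 hω h3 hX hC (exp_three hR) hirr hRS hcard hcen
  have hc0 : Nat.card (Subgroup.closure {X, C}) = 27 := by
    rw [← hcard, he]
    exact Nat.card_congr ((Subgroup.closure {X, C}).equivMapOfInjective _ (MulAut.conj P).injective).toEquiv
  exact isMaximalIn_of_map hP (by rw [he]; exact norm_map _ P) (row7_std hF hqp hq3 h11 hω hX hC hXS hCS hc0)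

end Cfsg.Agent.H907.Mx
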