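import Cfsg.Agent.H465.OEBase
import Cfsg.Agent.AutOrth.Final

/-!
# Subgroups invariant under a triality automorphism fix a flag (helper907, for helper465)

`tri_flag` : `x` a triality automorphism of order 3 of `PΩ⁺₈(q)`, `L` an `x`-invariant subgroup fixing a totally
singular subspace of dimension 1, 3 or 4.
-/

set_option autoImplicit false

namespace Cfsg.Agent.H907.TriFlag

open Module QuadraticMap Cfsg.Agent.LieClassical.OrthCore Cfsg.Agent.LieClassical.OrthTrans
  Cfsg.Agent.LieClassical.OrthSimple Cfsg.Agent.LieClassical.OrthFinite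
  Cfsg.Agent.ClassicalGeometry.OrthAut1 Cfsg.Agent.ClassicalGeometry.OrthAut2
  Cfsg.Agent.ClassicalGeometry.OrthAut2b Cfsg.Agent.ClassicalGeometry.OrthAut3
  Cfsg.Agent.LieClassical.QuadForms Cfsg.Agent.ClassicalGeometry.TrialityOct
  Cfsg.Agent.ClassicalGeometry.Triality Cfsg.Agent.ClassicalGeometry.TrialityIndex
  Cfsg.Agent.ClassicalGeometry.OrthSemi Cfsg.Agent.H198.TriAut

section Rel

variable {G : Type*} [Group G]

/-- Every `p`-subgroup of `A` normalised by `A` is contained in `B`. -/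
def Rel (p : ℕ) (A B : Subgroup G) : Prop :=
  ∀ N : Subgroup G, N ≤ A → (∀ g ∈ A, ∀ t ∈ N, g * t * g⁻¹ ∈ N) → IsPGroup p N → N ≤ B

theorem Rel.map {p : ℕ} {A B : Subgroup G} (h : Rel p A B) (α : MulAut G) :
    Rel p (A.map α.toMonoidHom) (B.map α.toMonoidHom) := by
  intro N hN hn hp
  have h1 : N.map (α⁻¹ : MulAut G).toMonoidHom ≤ B := by
    refine h _ ?_ ?_ (hp.map _)
    · rintro _ ⟨t, ht, rfl⟩
      obtain ⟨s, hs, rfl⟩ := hN ht
      have : (α⁻¹ : MulAut G).toMonoidHom (α.toMonoidHom s) = s := α.symm_apply_apply s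
      rwa [this]
    · rintro g hg _ ⟨t, ht, rfl⟩
      refine ⟨α g * t * (α g)⁻¹, hn _ ⟨g, hg, rfl⟩ t ht, ?_⟩
      show α.symm (α g * t * (α g)⁻¹) = g * α.symm t * g⁻¹
      rw [map_mul, map_mul, map_inv, MulEquiv.symm_apply_apply]
  intro t ht
  exact ⟨α.symm t, h1 ⟨t, ht, rfl⟩, α.apply_symm_apply t⟩

end Rel

section General

variable {F V : Type*} [Field F] [AddCommGroup V] [Module F V] {Q : QuadraticForm F V}

/-- `UP ⟨u⟩` stabilises the totally singular subspaces containing `u`. -/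
theorem UP_span_le_stab [FiniteDimensional F V] (hG : Good Q) {X : Submodule F V} (hX : TS Q X) {u : V}
    (hu : u ∈ X) (hu0 : u ≠ 0) : UP Q (Submodule.span F {u}) ≤ stab hG X := by
  intro t ht
  obtain ⟨w, hw, rfl⟩ := (mem_UP_span_iff hG.nondeg (hX u hu) hu0).1 ht
  apply mem_stab_of_map_le
  intro z hz
  rw [sg_apply, hX.polar hu hz, mul_zero, zero_smul, zero_smul, add_zero, sub_zero]
  exact X.sub_mem hz (X.smul_mem _ hu)

theorem rel_span_stab [Finite F] [FiniteDimensional F V] (hG : Good Q) (h7 : 7 ≤ finrank F V) (p : ℕ)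
    [Fact p.Prime] [CharP F p] {X : Submodule F V} (hX : TS Q X) {u : V} (hu : u ∈ X) (hu0 : u ≠ 0) :
    Rel p (stab hG (Submodule.span F {u})) (stab hG X) := fun N hN hn hp =>
  (le_UP_of_normal hG h7 p (hX u hu) hu0 N hN hn hp).trans (UP_span_le_stab hG hX hu hu0)

theorem rel_stab_span [Finite F] [FiniteDimensional F V] (hG : Good Q) (p : ℕ)
    [Fact p.Prime] [CharP F p] {X : Submodule F V} (hX : TS Q X) {u : V} (hu : u ∈ X) (hu0 : u ≠ 0) :
    Rel p (stab hG X) (stab hG (Submodule.span F {u})) := by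
  intro N hN hn hp
  have hU := UP_span_le_stab hG hX hu hu0
  have hnorm : UP Q (Submodule.span F {u}) ≤ Subgroup.normalizer (N : Set (P Q)) := by
    intro t ht
    rw [Subgroup.mem_normalizer_iff]
    intro r
    constructor
    · intro hr
      exact hn t (hU ht) r hr
    · intro hr
      have := hn _ (inv_mem (hU ht)) _ hr
      have e : t⁻¹ * (t * r * t⁻¹) * t⁻¹⁻¹ = r := by group
      rwa [e] at this
  have hsup : IsPGroup p ↥(UP Q (Submodule.span F {u}) ⊔ N) :=
    IsPGroup.to_sup_of_normal_right' (isPGroup_UP (Q := Q) p (Submodule.span F {u})) hp hnorm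
  obtain ⟨v, hv0, hv, hS⟩ := exists_fixed hG p _ hsup
  obtain ⟨c, hc⟩ := fix_unique hG (hX u hu) hu0 hv hv0 (fun w hw => by
    have h3 := hS (Subgroup.mem_sup_left ((mem_UP_span_iff hG.nondeg (hX u hu) hu0).2 ⟨w, hw, rfl⟩))
    have h4 := apply_mem_of_mem_stab h3 (Submodule.mem_span_singleton_self v)
    obtain ⟨c, hc⟩ := Submodule.mem_span_singleton.1 h4
    exact ⟨c, hc.symm⟩)
  have hc0 : c ≠ 0 := by
    rintro rfl
    rw [zero_smul] at hc
    exact hv0 hc
  rw [hc, Submodule.span_singleton_smul_eq (IsUnit.mk0 c hc0) u] at hS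
  exact le_sup_right.trans hS

/-- a subgroup fixing all points of `W` fixes `W` -/
theorem le_stab_of_points [FiniteDimensional F V] (hG : Good Q) {N : Subgroup (P Q)} {W : Submodule F V}
    (h : ∀ u ∈ W, u ≠ 0 → N ≤ stab hG (Submodule.span F {u})) : N ≤ stab hG W := by
  intro t ht
  obtain ⟨g, rfl⟩ := QuotientGroup.mk_surjective t
  apply mem_stab_of_map_le
  intro w hw
  by_cases hw0 : w = 0
  · rw [hw0, map_zero]; exact W.zero_mem
  have h1 := apply_mem_of_mem_stab (h w hw hw0 ht) (Submodule.mem_span_singleton_self w)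
  obtain ⟨c, hc⟩ := Submodule.mem_span_singleton.1 h1
  rw [← hc]
  exact W.smul_mem _ hw

/-- the part of `X` orthogonal to `v` -/
def perpIn (Q : QuadraticForm F V) (X : Submodule F V) (v : V) : Submodule F V :=
  X ⊓ LinearMap.ker (polarBilin Q v)

theorem mem_perpIn {X : Submodule F V} {v w : V} : w ∈ perpIn Q X v ↔ w ∈ X ∧ polar Q v w = 0 := Iff.rfl

theorem finrank_perpIn [FiniteDimensional F V] (X : Submodule F V) (v : V) :
    finrank F X ≤ finrank F (perpIn Q X v) + 1 := by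
  have h1 := LinearMap.finrank_range_add_finrank_ker ((polarBilin Q v).comp X.subtype)
  have h2 : finrank F (LinearMap.range ((polarBilin Q v).comp X.subtype)) ≤ 1 := by
    have := Submodule.finrank_le (LinearMap.range ((polarBilin Q v).comp X.subtype))
    rwa [finrank_self] at this
  have h3 : finrank F (LinearMap.ker ((polarBilin Q v).comp X.subtype)) = finrank F (perpIn Q X v) := by
    have e : perpIn Q X v = (LinearMap.ker ((polarBilin Q v).comp X.subtype)).map X.subtype := by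
      ext w
      rw [mem_perpIn]
      constructor
      · rintro ⟨hw, h0⟩
        exact ⟨⟨w, hw⟩, h0, rfl⟩
      · rintro ⟨⟨w, hw⟩, h0, rfl⟩
        exact ⟨hw, h0⟩
    rw [e]
    exact (Submodule.finrank_map_subtype_eq X _).symm
  omega

theorem perpIn_le_stab [FiniteDimensional F V] (hG : Good Q) {X : Submodule F V} {v : V} :
    stab hG X ⊓ stab hG (Submodule.span F {v}) ≤ stab hG (perpIn Q X v) := by
  rintro t ⟨ht1, ht2⟩
  obtain ⟨g, rfl⟩ := QuotientGroup.mk_surjective t
  apply mem_stab_of_map_le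
  rintro w ⟨hw, hw0⟩
  refine ⟨apply_mem_of_mem_stab ht1 hw, ?_⟩
  have h1 := apply_mem_of_mem_stab ht2 (Submodule.mem_span_singleton_self v)
  obtain ⟨c, hc⟩ := Submodule.mem_span_singleton.1 h1
  have h2 : polar Q ((g : V ≃ₗ[F] V) v) ((g : V ≃ₗ[F] V) w) = 0 := by
    rw [polar_apply]; exact hw0
  rw [← hc, polar_smul_left, smul_eq_mul] at h2
  have hc0 : v = 0 ∨ c ≠ 0 := by
    by_cases hv : v = 0
    · exact Or.inl hv
    · right
      rintro rfl
      rw [zero_smul] at hc
      exact hv ((g : V ≃ₗ[F] V).map_eq_zero_iff.1 hc.symm)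
  show polar Q v ((g : V ≃ₗ[F] V) w) = 0
  rcases hc0 with rfl | hc0
  · exact polar_zero_left _ _
  · exact (mul_eq_zero.1 h2).resolve_left hc0

/-- `X = X^⊥` for a totally singular subspace of half the dimension -/
theorem mem_of_perp [FiniteDimensional F V] (hG : Good Q) {X : Submodule F V} (hX : TS Q X)
    (hd : finrank F V = 2 * finrank F X) {u : V} (hu : ∀ a ∈ X, polar Q u a = 0) : u ∈ X := by
  have hnd : (polarBilin Q).Nondegenerate := by
    refine ⟨fun a ha => hG.nondeg a ha, fun a ha => hG.nondeg a fun b => ?_⟩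
    rw [polar_comm]
    exact ha b
  have hrefl : (polarBilin Q).IsRefl := by
    intro a b h
    rw [polarBilin_apply_apply] at h ⊢
    rw [polar_comm]
    exact h
  have h1 := LinearMap.BilinForm.finrank_orthogonal hnd X
  have h2 : X ≤ LinearMap.BilinForm.orthogonal (polarBilin Q) X := by
    intro w hw
    rw [LinearMap.BilinForm.mem_orthogonal_iff]
    intro v hv
    exact hX.polar hv hw
  have h3 : X = LinearMap.BilinForm.orthogonal (polarBilin Q) X :=
    Submodule.eq_of_le_of_finrank_eq h2 (by omega)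
  rw [h3, LinearMap.BilinForm.mem_orthogonal_iff]
  intro v hv
  show polar Q v u = 0
  rw [polar_comm]
  exact hu v hv

/-- if `UP X` fixes `Y`, then `X ∩ v^⊥ ≤ Y` for `v ∈ Y`, `v ∉ X` -/
theorem perpIn_le_of_UP [FiniteDimensional F V] (hG : Good Q) {X Y : Submodule F V} (hX : TS Q X)
    (hd : finrank F V = 2 * finrank F X) (h : UP Q X ≤ stab hG Y) {v : V} (hv : v ∈ Y) (hvX : v ∉ X) :
    perpIn Q X v ≤ Y := by
  obtain ⟨a, ha, hva⟩ : ∃ a ∈ X, polar Q v a ≠ 0 := by
    by_contra hcon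
    push Not at hcon
    exact hvX (mem_of_perp hG hX hd hcon)
  rintro w ⟨hw, hvw⟩
  have hvw' : polar Q v w = 0 := hvw
  have haw := hX.polar ha hw
  have h1 : ((sg a w (hX a ha) haw : ↥(E Q)) : P Q) ∈ stab hG Y :=
    h ⟨_, sg_mem_U hX ha (fun z hz => hX.polar hw hz) _ _, rfl⟩
  have h2 := apply_mem_of_mem_stab h1 hv
  rw [sg_apply, polar_comm Q w v, hvw', hX w hw, polar_comm Q a v] at h2
  have h3 : polar Q v a • w ∈ Y := by
    have e : polar Q v a • w = (v + polar Q v a • w - (0 : F) • a - (0 * polar Q v a) • a) - v := by module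
    rw [e]
    exact Y.sub_mem h2 hv
  have h4 := Y.smul_mem (polar Q v a)⁻¹ h3
  rwa [smul_smul, inv_mul_cancel₀ hva, one_smul] at h4

theorem finrank_inf_of_UP [FiniteDimensional F V] (hG : Good Q) {X Y : Submodule F V} (hX : TS Q X)
    (hd : finrank F V = 2 * finrank F X) (h : UP Q X ≤ stab hG Y) (hYX : ¬ Y ≤ X) :
    finrank F X ≤ finrank F ↥(X ⊓ Y) + 1 := by
  obtain ⟨v, hv, hvX⟩ := SetLike.not_le_iff_exists.1 hYX
  have h1 := perpIn_le_of_UP hG hX hd h hv hvX
  have h2 : perpIn Q X v ≤ X ⊓ Y := le_inf inf_le_left h1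
  have h3 := Submodule.finrank_mono h2
  have h4 := finrank_perpIn (Q := Q) X v
  omega

theorem UP_le_of_rel [FiniteDimensional F V] (hG : Good Q) {p : ℕ} [Fact p.Prime] [CharP F p]
    {X Y : Submodule F V} (h : Rel p (stab hG X) (stab hG Y)) : UP Q X ≤ stab hG Y :=
  h _ (UP_le_stab hG X) (fun _ hg _ ht => conj_mem_UP_of_stab hg ht) (isPGroup_UP p X)

/-- `R(stab⟨u⟩, stab X) → u ∈ X` -/
theorem mem_of_rel_span [FiniteDimensional F V] (hG : Good Q) {p : ℕ} [Fact p.Prime] [CharP F p]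
    {X : Submodule F V} (hX : TS Q X) (hd : finrank F V = 2 * finrank F X) {u : V} (hu : Q u = 0)
    (h : Rel p (stab hG (Submodule.span F {u})) (stab hG X)) : u ∈ X := by
  have h1 := UP_le_of_rel hG h
  have hX0 : ∃ w ∈ X, w ≠ 0 := by
    have : Nontrivial X := Module.nontrivial_of_finrank_pos (R := F) (by have := hG.dim; omega)
    obtain ⟨x, hx⟩ := exists_ne (0 : X)
    exact ⟨x, x.2, fun h => hx (Subtype.ext h)⟩
  obtain ⟨w, hw, hw0⟩ := hX0
  have hne := stab_ne_top hG hX hw hw0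
  apply mem_of_perp hG hX hd
  intro a ha
  by_cases ha0 : a = 0
  · rw [ha0, polar_zero_right]
  exact polar_eq_zero_of_mem_spanW hG hne (Submodule.subset_span ⟨hu, h1⟩)
    (Submodule.subset_span ⟨hX a ha, UP_span_le_stab hG hX ha ha0⟩)

/-- `R(stab X, stab⟨u⟩) → u ∈ X` -/
theorem mem_of_rel_stab [FiniteDimensional F V] (hG : Good Q) {p : ℕ} [Fact p.Prime] [CharP F p]
    {X : Submodule F V} (hX : TS Q X) (hd : finrank F V = 2 * finrank F X) {u : V}
    (h : Rel p (stab hG X) (stab hG (Submodule.span F {u}))) (h3 : 3 ≤ finrank F X) : u ∈ X := by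
  by_contra hcon
  have h1 := UP_le_of_rel hG h
  have h2 := finrank_inf_of_UP hG hX hd h1 (by
    rw [Submodule.span_singleton_le_iff_mem]; exact hcon)
  have hu0 : u ≠ 0 := fun h0 => hcon (h0 ▸ X.zero_mem)
  have h4 : finrank F ↥(X ⊓ Submodule.span F {u}) ≤ 1 :=
    (Submodule.finrank_mono inf_le_right).trans (finrank_span_singleton hu0).le
  omega

/-- an automorphism mapping one point stabiliser to a point stabiliser permutes the point stabilisers -/
theorem pt_of_one (hG : Good Q) {α : MulAut (P Q)} {u y : V} (hu : Q u = 0) (hu0 : u ≠ 0) (hy : Q y = 0)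
    (hy0 : y ≠ 0) (h : (stab hG (Submodule.span F {u})).map α.toMonoidHom = stab hG (Submodule.span F {y})) :
    AutOrth.Main.Pt hG α := by
  intro v hv hv0
  obtain ⟨g, hg⟩ := exists_pact_eq hG hu hv hu0 hv0
  obtain ⟨g', hg'⟩ := QuotientGroup.mk_surjective (α g)
  refine ⟨(g' : V ≃ₗ[F] V) y, by rw [Q_apply]; exact hy, fun h0 => hy0 ((g' : V ≃ₗ[F] V).map_eq_zero_iff.1 h0),
    ?_⟩
  rw [← hg, ← map_conj_stab, ← map_mulAut_mul, mul_conj, map_mulAut_mul, h, map_conj_stab, ← hg', pact_mk,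
    mapHom_span]

/-- the incidence argument -/
theorem core [Finite F] [FiniteDimensional F V] (hG : Good Q) (p : ℕ) [Fact p.Prime] [CharP F p]
    (h8 : finrank F V = 8) (x : MulAut (P Q)) {u : V} (hu : Q u = 0) (hu0 : u ≠ 0)
    {X Y : Submodule F V} (hX : TS Q X) (hY : TS Q Y) (hX4 : finrank F X = 4) (hY4 : finrank F Y = 4)
    (c1 : (stab hG (Submodule.span F {u})).map x.toMonoidHom = stab hG X)
    (c2 : (stab hG X).map x.toMonoidHom = stab hG Y)
    (c3 : (stab hG Y).map x.toMonoidHom = stab hG (Submodule.span F {u}))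
    (hXY : X ≠ Y) (hT : finrank F ↥(X ⊓ Y) = 3 → stab hG (X ⊓ Y) ≤ stab hG X)
    {L : Subgroup (P Q)} (hLu : L ≤ stab hG (Submodule.span F {u})) (hLX : L ≤ stab hG X) (hLY : L ≤ stab hG Y) :
    (∃ C W : Submodule F V, TS Q W ∧ C ≤ W ∧ finrank F C = 1 ∧ finrank F W = 3 ∧ L ≤ stab hG C ∧
      L ≤ stab hG W) ∨
    (∃ C W₁ W₂ : Submodule F V, TS Q C ∧ TS Q W₁ ∧ TS Q W₂ ∧
      finrank F C = 1 ∧ finrank F W₁ = 3 ∧ finrank F W₂ = 3 ∧ W₁ ≠ W₂ ∧ ¬ C ≤ W₁ ∧ ¬ C ≤ W₂ ∧
      (∀ c ∈ C, ∀ w ∈ W₁, polar Q c w = 0) ∧ (∀ c ∈ C, ∀ w ∈ W₂, polar Q c w = 0) ∧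
      L ≤ stab hG C ∧ L ≤ stab hG W₁ ∧ L ≤ stab hG W₂) := by
  set C := Submodule.span F {u} with hC
  have hC1 : finrank F C = 1 := finrank_span_singleton hu0
  have hCTS : TS Q C := TS_span hu
  have hdX : finrank F V = 2 * finrank F X := by omega
  have hdY : finrank F V = 2 * finrank F Y := by omega
  have hYX : ¬ Y ≤ X := fun h => hXY (Submodule.eq_of_le_of_finrank_eq h (by omega)).symm
  have hXY' : ¬ X ≤ Y := fun h => hXY (Submodule.eq_of_le_of_finrank_eq h (by omega))
  have hlt : finrank F ↥(X ⊓ Y) < 4 := by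
    refine lt_of_lt_of_eq ?_ hX4
    exact Submodule.finrank_lt_finrank_of_lt (inf_le_left.lt_of_ne fun h => hXY' (inf_eq_left.1 h))
  -- `x` cycles the three incidence relations
  have m1 : Rel p (stab hG X) (stab hG C) → Rel p (stab hG Y) (stab hG X) := fun h => by
    have := h.map x
    rwa [c1, c2] at this
  have m2 : Rel p (stab hG Y) (stab hG X) → Rel p (stab hG C) (stab hG Y) := fun h => by
    have := h.map x
    rwa [c2, c3] at this
  have m3 : Rel p (stab hG C) (stab hG Y) → Rel p (stab hG X) (stab hG C) := fun h => by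
    have := h.map x
    rwa [c1, c3] at this
  have memC : u ∈ C := Submodule.mem_span_singleton_self u
  -- incident with `Y` gives incident with everything
  have hall : C ≤ Y → C ≤ X ∧ finrank F ↥(X ⊓ Y) = 3 := by
    intro h
    have h1 : Rel p (stab hG C) (stab hG Y) := rel_span_stab hG (by omega) p hY (h memC) hu0
    have h2 := m3 h1
    have h3 : u ∈ X := mem_of_rel_stab hG hX hdX h2 (by omega)
    have h4 := UP_le_of_rel hG (m1 h2)
    have h5 := finrank_inf_of_UP hG hY hdY h4 hXY'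
    have h6 : finrank F ↥(Y ⊓ X) = finrank F ↥(X ⊓ Y) := by rw [inf_comm]
    exact ⟨by rw [hC, Submodule.span_singleton_le_iff_mem]; exact h3, by omega⟩
  have hXC : C ≤ X → C ≤ Y := by
    intro h
    have h1 : Rel p (stab hG X) (stab hG C) := rel_stab_span hG p hX (h memC) hu0
    rw [hC, Submodule.span_singleton_le_iff_mem]
    exact mem_of_rel_span hG hY hdY hu (m2 (m1 h1))
  by_cases hCY : C ≤ Y
  · left
    obtain ⟨h1, h2⟩ := hall hCY
    refine ⟨C, X ⊓ Y, fun w hw => hX w hw.1, le_inf h1 hCY, hC1, h2, hLu, ?_⟩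
    intro t ht
    obtain ⟨g, rfl⟩ := QuotientGroup.mk_surjective t
    apply mem_stab_of_map_le
    rintro w ⟨hw1, hw2⟩
    exact ⟨apply_mem_of_mem_stab (hLX ht) hw1, apply_mem_of_mem_stab (hLY ht) hw2⟩
  · right
    have hCX : ¬ C ≤ X := fun h => hCY (hXC h)
    have huX : u ∉ X := fun h => hCX (by rwa [hC, Submodule.span_singleton_le_iff_mem])
    have huY : u ∉ Y := fun h => hCY (by rwa [hC, Submodule.span_singleton_le_iff_mem])
    have h3 : finrank F ↥(X ⊓ Y) ≠ 3 := by
      intro h3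
      apply huY
      apply mem_of_rel_span hG hY hdY hu (m2 _)
      intro N hN hn hpN
      refine (le_stab_of_points hG (W := X ⊓ Y) fun v hv hv0 => ?_).trans
        (hT h3)
      exact rel_stab_span hG p hY hv.2 hv0 N hN hn hpN
    have dim : ∀ {Z : Submodule F V}, TS Q Z → finrank F Z = 4 → u ∉ Z →
        finrank F (perpIn Q Z u) = 3 := by
      intro Z hZ hZ4 huZ
      have h1 := finrank_perpIn (Q := Q) Z u
      have h2 : finrank F (perpIn Q Z u) < 4 := by
        refine lt_of_lt_of_eq ?_ hZ4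
        refine Submodule.finrank_lt_finrank_of_lt (inf_le_left.lt_of_ne fun h => huZ ?_)
        apply mem_of_perp hG hZ (by omega)
        intro a ha
        have h3 : a ∈ perpIn Q Z u := by
          rw [perpIn, h]; exact ha
        exact h3.2
      omega
    refine ⟨C, perpIn Q X u, perpIn Q Y u, hCTS, fun w hw => hX w hw.1,
      fun w hw => hY w hw.1, hC1, dim hX hX4 huX, dim hY hY4 huY, ?_, ?_, ?_, ?_, ?_, hLu, ?_, ?_⟩
    · intro h
      apply h3
      have h4 : perpIn Q X u ≤ X ⊓ Y := le_inf inf_le_left (by rw [h]; exact inf_le_left)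
      have h5 := Submodule.finrank_mono h4
      rw [dim hX hX4 huX] at h5
      omega
    · exact fun h => huX (h memC).1
    · exact fun h => huY (h memC).1
    · intro c hc w hw
      obtain ⟨a, rfl⟩ := Submodule.mem_span_singleton.1 hc
      rw [polar_smul_left, (mem_perpIn.1 hw).2, smul_zero]
    · intro c hc w hw
      obtain ⟨a, rfl⟩ := Submodule.mem_span_singleton.1 hc
      rw [polar_smul_left, (mem_perpIn.1 hw).2, smul_zero]
    · exact (le_inf hLX hLu).trans (perpIn_le_stab hG)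
    · exact (le_inf hLY hLu).trans (perpIn_le_stab hG)

end General

variable {F : Type*} [Field F]

theorem map_pow_eq {G : Type*} [Group G] {x : MulAut G} {L : Subgroup G} (hL : L.map x.toMonoidHom = L) (i : ℕ) :
    L.map (x ^ i).toMonoidHom = L := by
  induction i with
  | zero => exact map_mulAut_one L
  | succ n ih => rw [pow_succ, map_mulAut_mul, hL, ih]

/-- some `x^i α` induces a semisimilarity -/
theorem exists_pow_mem [Finite F] {x : MulAut (P8 F)} (hx : x ^ 3 = 1)
    (hx1 : ∀ α : MulAut (P8 F), α⁻¹ * x * α ∉ (Psi (plusForm 4 F)).range) (α : MulAut (P8 F)) :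
    ∃ i : ℕ, x ^ i * α ∈ (Psi (plusForm 4 F)).range := by
  set Γ := (Psi (plusForm 4 F)).range with hΓ
  have hcard : Nat.card (MulAut (P8 F) ⧸ Γ) = 3 := index_three
  let f : Fin 3 → MulAut (P8 F) ⧸ Γ := fun i => ((x ^ (i : ℕ) * α : MulAut (P8 F)) : _ ⧸ Γ)
  have hx2 : ∀ β : MulAut (P8 F), β⁻¹ * x ^ 2 * β ∉ Γ := by
    intro β h
    apply hx1 β
    have h1 : x ^ 2 = x⁻¹ := by rw [eq_inv_iff_mul_eq_one, ← pow_succ, hx]
    have h2 := inv_mem h
    rw [h1] at h2
    have e : (β⁻¹ * x⁻¹ * β)⁻¹ = β⁻¹ * x * β := by group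
    rwa [e] at h2
  have hinj : Function.Injective f := by
    have e01 : f 0 ≠ f 1 := by
      intro h
      have h1 := QuotientGroup.eq.1 h
      simp only [Fin.val_zero, Fin.val_one, pow_zero, one_mul, pow_one] at h1
      exact hx1 α (by rwa [← mul_assoc] at h1)
    have e02 : f 0 ≠ f 2 := by
      intro h
      have h1 := QuotientGroup.eq.1 h
      simp only [Fin.val_zero, Fin.val_two, pow_zero, one_mul] at h1
      exact hx2 α (by rwa [← mul_assoc] at h1)
    have e12 : f 1 ≠ f 2 := by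
      intro h
      have h1 := QuotientGroup.eq.1 h
      simp only [Fin.val_one, Fin.val_two, pow_one] at h1
      have e : (x * α)⁻¹ * (x ^ 2 * α) = α⁻¹ * x * α := by group
      rw [e] at h1
      exact hx1 α h1
    intro i j hij
    fin_cases i <;> fin_cases j <;> first | rfl | skip
    · exact absurd hij e01
    · exact absurd hij e02
    · exact absurd hij.symm e01
    · exact absurd hij e12
    · exact absurd hij.symm e02
    · exact absurd hij.symm e12
  have hsurj : Function.Surjective f := by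
    have : Finite (MulAut (P8 F) ⧸ Γ) := Nat.finite_of_card_ne_zero (by rw [hcard]; norm_num)
    have : Fintype (MulAut (P8 F) ⧸ Γ) := Fintype.ofFinite _
    have h1 : Fintype.card (Fin 3) = Fintype.card (MulAut (P8 F) ⧸ Γ) := by
      rw [Fintype.card_fin, ← Nat.card_eq_fintype_card, hcard]
    exact ((Fintype.bijective_iff_injective_and_card f).2 ⟨hinj, h1⟩).2
  obtain ⟨i, hi⟩ := hsurj ((1 : MulAut (P8 F)) : _ ⧸ Γ)
  have h1 := QuotientGroup.eq.1 hi
  rw [mul_one] at h1
  exact ⟨i, inv_mem_iff.1 h1⟩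

theorem exists_four_of [Finite F] (hG : Good (plusForm 4 F)) {x : MulAut (P8 F)}
    (hx : x ∉ (Psi (plusForm 4 F)).range) {u : V8 F} (hu : plusForm 4 F u = 0) (hu0 : u ≠ 0) :
    ∃ X : Submodule F (V8 F), TS (plusForm 4 F) X ∧ finrank F X = 4 ∧
      (stab hG (Submodule.span F {u})).map x.toMonoidHom = stab hG X := by
  rcases dichotomy hG (by simp) x hu hu0 with ⟨y, hy, hy0, h⟩ | ⟨-, X, hX, h4, h⟩
  · exact absurd (AutOrth.Final.mem_range_of_pt hG (by simp) (pt_of_one hG hu hu0 hy hy0 h)) hx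
  · exact ⟨X, hX, h4, h⟩

theorem tri_flag_of [Finite F] (hG : Good (plusForm 4 F))
    (exists_aut_stab : ∀ {X : Submodule F (V8 F)}, TS (plusForm 4 F) X → finrank F X = 4 →
      ∃ (α : MulAut (P8 F)) (u : V8 F), plusForm 4 F u = 0 ∧ u ≠ 0 ∧
      (stab hG (Submodule.span F {u})).map α.toMonoidHom = stab hG X)
    (stab_le_stab : ∀ {W X : Submodule F (V8 F)}, TS (plusForm 4 F) X →
      finrank F X = 4 → finrank F W = 3 → W ≤ X → stab hG W ≤ stab hG X)
    (exists_four : ∀ {W : Submodule F (V8 F)}, TS (plusForm 4 F) W →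
      finrank F W = 3 → ∃ X, TS (plusForm 4 F) X ∧ finrank F X = 4 ∧ W ≤ X)
    (x : MulAut (P8 F)) (hx : x ^ 3 = 1)
    (hx1 : ∀ α : MulAut (P8 F), α⁻¹ * x * α ∉ (Psi (plusForm 4 F)).range) {L : Subgroup (P8 F)}
    (hL : L.map x.toMonoidHom = L) {S : Submodule F (V8 F)} (hS : TS (plusForm 4 F) S)
    (hd : finrank F S = 1 ∨ finrank F S = 3 ∨ finrank F S = 4) (hLS : L ≤ stab hG S) :
    (∃ C W : Submodule F (V8 F), TS (plusForm 4 F) W ∧ C ≤ W ∧ finrank F C = 1 ∧ finrank F W = 3 ∧ L ≤ stab hG C ∧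
      L ≤ stab hG W) ∨
    (∃ C W₁ W₂ : Submodule F (V8 F), TS (plusForm 4 F) C ∧ TS (plusForm 4 F) W₁ ∧ TS (plusForm 4 F) W₂ ∧
      finrank F C = 1 ∧ finrank F W₁ = 3 ∧ finrank F W₂ = 3 ∧ W₁ ≠ W₂ ∧ ¬ C ≤ W₁ ∧ ¬ C ≤ W₂ ∧
      (∀ c ∈ C, ∀ w ∈ W₁, polar (plusForm 4 F) c w = 0) ∧ (∀ c ∈ C, ∀ w ∈ W₂, polar (plusForm 4 F) c w = 0) ∧
      L ≤ stab hG C ∧ L ≤ stab hG W₁ ∧ L ≤ stab hG W₂) := by
  obtain ⟨p, hpF⟩ := CharP.exists F
  have hp : Fact p.Prime := ⟨CharP.char_is_prime F p⟩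
  have h8 : finrank F (V8 F) = 8 := by simp
  -- a fixed 4-space gives a fixed point
  have four : ∀ {X : Submodule F (V8 F)}, TS (plusForm 4 F) X → finrank F X = 4 → L ≤ stab hG X →
      ∃ u : V8 F, plusForm 4 F u = 0 ∧ u ≠ 0 ∧ L ≤ stab hG (Submodule.span F {u}) := by
    intro X hX h4 hLX
    obtain ⟨α, u, hu, hu0, hα⟩ := exists_aut_stab hX h4
    obtain ⟨i, hi⟩ := exists_pow_mem hx hx1 α
    obtain ⟨y, hy, hy0, h1⟩ := AutOrth.Final.pt_of_mem_range hG hi u hu hu0
    refine ⟨y, hy, hy0, ?_⟩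
    rw [← h1, map_mulAut_mul, hα, ← map_pow_eq hL i]
    exact Subgroup.map_mono hLX
  obtain ⟨u, hu, hu0, hLu⟩ : ∃ u : V8 F, plusForm 4 F u = 0 ∧ u ≠ 0 ∧ L ≤ stab hG (Submodule.span F {u}) := by
    rcases hd with h1 | h3 | h4
    · obtain ⟨u, hu0, huS⟩ := finrank_eq_one_iff'.1 h1
      refine ⟨u, hS u u.2, fun h => hu0 (Subtype.ext h), ?_⟩
      have : Submodule.span F {(u : V8 F)} = S := by
        apply le_antisymm
        · rw [Submodule.span_singleton_le_iff_mem]; exact u.2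
        · intro w hw
          obtain ⟨c, hc⟩ := huS ⟨w, hw⟩
          exact Submodule.mem_span_singleton.2 ⟨c, congrArg Subtype.val hc⟩
      rwa [this]
    · obtain ⟨X, hX, h4, hSX⟩ := exists_four hS h3
      exact four hX h4 (hLS.trans (stab_le_stab hX h4 h3 hSX))
    · exact four hS h4 hLS
  have hxn : x ∉ (Psi (plusForm 4 F)).range := by
    have := hx1 1
    rwa [inv_one, one_mul, mul_one] at this
  have hxn' : x⁻¹ ∉ (Psi (plusForm 4 F)).range := fun h => hxn (inv_mem_iff.1 h)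
  set C := Submodule.span F {u} with hC
  obtain ⟨X, hX, hX4, hXs⟩ := exists_four_of hG hxn hu hu0
  obtain ⟨Y, hY, hY4, hYs⟩ := exists_four_of hG hxn' hu hu0
  rw [← hC] at hXs hYs
  -- the cycle
  have c1 : (stab hG C).map x.toMonoidHom = stab hG X := hXs
  have c2 : (stab hG X).map x.toMonoidHom = stab hG Y := by
    rw [← hXs, ← hYs, ← map_mulAut_mul]
    congr 2
    rw [eq_inv_iff_mul_eq_one, mul_assoc]
    have : x * (x * x) = x ^ 3 := by rw [pow_succ, pow_two, mul_assoc]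
    rw [this, hx]
  have c3 : (stab hG Y).map x.toMonoidHom = stab hG C := by
    rw [← hYs, map_mulAut_inv']
  have hLX : L ≤ stab hG X := by
    rw [← c1]; nth_rewrite 1 [← hL]; exact Subgroup.map_mono hLu
  have hLY : L ≤ stab hG Y := by
    rw [← c2]; nth_rewrite 1 [← hL]; exact Subgroup.map_mono hLX
  have hbot : ∀ {Z : Submodule F (V8 F)}, finrank F Z = 4 → Z ≠ ⊥ := by
    rintro Z hZ rfl
    rw [finrank_bot] at hZ
    omega
  have hC1 : finrank F C = 1 := finrank_span_singleton hu0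
  have hCTS : TS (plusForm 4 F) C := TS_span hu
  have hXY : X ≠ Y := by
    intro h
    rw [← h] at c2
    have h1 : stab hG C = stab hG X := Subgroup.map_injective x.injective (c1.trans c2.symm)
    have h2 := stab_injective hG hCTS hX (by
      rw [hC, Ne, Submodule.span_singleton_eq_bot]; exact hu0) (hbot hX4) h1
    rw [h2] at hC1
    omega
  exact core hG p h8 x hu hu0 hX hY hX4 hY4 c1 c2 c3 hXY
    (fun h3 => stab_le_stab hX hX4 h3 inf_le_left) hLu hLX hLY

end Cfsg.Agent.H907.TriFlag
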