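import Mathlib.GroupTheory.GroupAction.Quotient
import Mathlib.GroupTheory.Index
import Mathlib.GroupTheory.OrderOfElement
import Mathlib.GroupTheory.Perm.Basic
import Mathlib.Data.Fintype.Perm
import Mathlib.Tactic

/-!
# Elements of prime order without a conjugate in a subgroup of index three (helper907)
-/

set_option autoImplicit false

namespace Cfsg.Agent.H907

/-- a permutation of three points without fixed points has cube one -/
theorem perm_three_cube : ∀ σ : Equiv.Perm (Fin 3), (∀ i, σ i ≠ i) → σ ^ 3 = 1 := by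
  decide

/-- an element of prime order without a conjugate in a subgroup of index three has order three -/
theorem pow_three {A : Type*} [Group A] [Finite A] (Γ : Subgroup A) (h3 : Γ.index = 3) {x : A}
    (hx : (orderOf x).Prime) (hn : ∀ a : A, a⁻¹ * x * a ∉ Γ) : x ^ 3 = 1 := by
  classical
  have hcard : Nat.card (A ⧸ Γ) = 3 := h3
  have hfin : Finite (A ⧸ Γ) := Nat.finite_of_card_ne_zero (by rw [hcard]; decide)
  let e : (A ⧸ Γ) ≃ Fin 3 := Finite.equivFinOfCardEq hcard
  let f : A →* Equiv.Perm (A ⧸ Γ) := MulAction.toPermHom A (A ⧸ Γ)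
  have hfix : ∀ q : A ⧸ Γ, f x q ≠ q := by
    intro q
    obtain ⟨a, rfl⟩ := QuotientGroup.mk_surjective q
    intro h
    have h1 : ((x * a : A) : A ⧸ Γ) = (a : A ⧸ Γ) := h
    have h2 := QuotientGroup.eq.1 h1.symm
    exact hn a (by rw [mul_assoc]; exact h2)
  have hcube : f (x ^ 3) = 1 := by
    have h1 : (e.permCongr (f x)) ^ 3 = 1 := by
      apply perm_three_cube
      intro i hi
      apply hfix (e.symm i)
      have h2 : e (f x (e.symm i)) = i := hi
      exact (Equiv.eq_symm_apply e).2 h2
    rw [map_pow]
    have h2 : e.permCongrHom ((f x) ^ 3) = e.permCongrHom 1 := by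
      rw [map_pow, map_one]
      exact h1
    exact e.permCongrHom.injective h2
  by_contra hne
  -- the order is coprime to three
  have hnd : ¬ orderOf x ∣ 3 := fun h => hne (orderOf_dvd_iff_pow_eq_one.1 h)
  have hcop : Nat.Coprime 3 (orderOf x) := by
    rw [Nat.coprime_primes Nat.prime_three hx]
    intro h
    exact hnd (by rw [← h])
  obtain ⟨m, hm⟩ := exists_pow_eq_self_of_coprime hcop
  have h1 : f x = 1 := by
    rw [← hm, map_pow, hcube, one_pow]
  apply hfix (QuotientGroup.mk 1)
  rw [h1]
  rfl

end Cfsg.Agent.H907
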