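import Cfsg.Agent.H907.Extra

set_option autoImplicit false

/-!
The structure theorem for irreducible linear groups of odd prime degree over a finite field.
-/

namespace Cfsg.Agent.H907

open Cfsg Cfsg.Geo Matrix
open scoped MatrixGroups commutatorElement

set_option linter.unusedSectionVars false

variable {ι : Type} [Fintype ι] [DecidableEq ι] {F : Type*} [Field F]

/-- The conditions of `IsResidualCore` except the one on subfields. -/
structure PreCore (H P : Subgroup (GL ι F)) : Prop where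
  le : P ≤ H
  normal : ∀ h ∈ H, ∀ x ∈ P, h * x * h⁻¹ ∈ P
  perfect : ⁅P, P⁆ = P
  simple : IsSimpleGroup (P ⧸ (scalars ι F).subgroupOf P)
  nonabelian : ¬ IsMulCommutative (P ⧸ (scalars ι F).subgroupOf P)
  centralizer_scalar : ∀ h ∈ H, (∀ x ∈ P, h * x * h⁻¹ * x⁻¹ ∈ scalars ι F) → h ∈ scalars ι F
  absIrred : ActsAbsolutelyIrreducibly (matrixSet P)

theorem PreCore.toCore {H P : Subgroup (GL ι F)} (h : PreCore H P)
    (hs : ∀ F₀ : Subfield F, F₀ ≠ ⊤ → ¬ RealisableOver F₀ (matrixSet P)) : IsResidualCore H P :=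
  { h with no_subfield := hs }

theorem IsResidualCore.toPreCore {H P : Subgroup (GL ι F)} (h : IsResidualCore H P) : PreCore H P :=
  { h with }

/-- An element commuting with a perfect absolutely irreducible group modulo scalars is a scalar. -/
theorem mem_scalars_of_comm_mod [Nonempty ι] {P : Subgroup (GL ι F)} (hperf : ⁅P, P⁆ = P)
    (habs : ActsAbsolutelyIrreducibly (matrixSet P)) {h : GL ι F}
    (hh : ∀ x ∈ P, h * x * h⁻¹ * x⁻¹ ∈ scalars ι F) : h ∈ scalars ι F := by
  let f : P →* scalars ι F :=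
    { toFun := fun x => ⟨h * x * h⁻¹ * (x : GL ι F)⁻¹, hh x x.2⟩
      map_one' := by ext1; simp
      map_mul' := by
        intro a b
        ext1
        simp only [Subgroup.coe_mul, MulMemClass.mk_mul_mk, _root_.mul_inv_rev]
        have h1 := comm_of_scalar (hh b b.2) ((a : GL ι F)⁻¹)
        calc h * ((a : GL ι F) * b) * h⁻¹ * ((b : GL ι F)⁻¹ * (a : GL ι F)⁻¹)
            = h * a * h⁻¹ * ((h * b * h⁻¹ * (b : GL ι F)⁻¹) * (a : GL ι F)⁻¹) := by group
          _ = h * a * h⁻¹ * ((a : GL ι F)⁻¹ * (h * b * h⁻¹ * (b : GL ι F)⁻¹)) := by rw [h1]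
          _ = _ := by group }
  apply mem_scalars_of_comm habs
  intro n hn
  have h1 : ∀ x : P, x ∈ f.ker := by
    have h2 : ⁅(⊤ : Subgroup P), (⊤ : Subgroup P)⁆ ≤ f.ker := by
      rw [Subgroup.commutator_le]
      intro a _ b _
      rw [MonoidHom.mem_ker, map_commutatorElement]
      apply Subtype.ext
      rw [commutatorElement_def]
      simp only [Subgroup.coe_mul, Subgroup.coe_inv, Subgroup.coe_one]
      rw [comm_of_scalar (f a).2]
      group
    intro x
    apply h2
    have h3 : (x : GL ι F) ∈ (⁅(⊤ : Subgroup P), (⊤ : Subgroup P)⁆).map P.subtype := by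
      rw [Subgroup.map_commutator, ← MonoidHom.range_eq_map, Subgroup.range_subtype, hperf]
      exact x.2
    obtain ⟨y, hy, hyx⟩ := h3
    have : y = x := Subtype.ext hyx
    rwa [← this]
  have h4 := h1 ⟨n, hn⟩
  rw [MonoidHom.mem_ker] at h4
  have h5 : h * n * h⁻¹ * n⁻¹ = 1 := congrArg Subtype.val h4
  rw [mul_inv_eq_one, mul_inv_eq_iff_eq_mul] at h5
  exact h5

theorem isSimpleGroup_of_equiv {A B : Type*} [Group A] [Group B] (e : A ≃* B) (h : IsSimpleGroup A) :
    IsSimpleGroup B := e.isSimpleGroup_congr.1 h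

set_option maxHeartbeats 1000000 in
/-- **Structure theorem in odd prime degree.** -/
theorem struct_prime [Finite F] {r : ℕ} (hr : r.Prime) (hr2 : r ≠ 2) (hcard : Fintype.card ι = r)
    {H : Subgroup (GL ι F)} (hirr : ActsIrreducibly (matrixSet H)) :
    (∃ N ≤ H, NormBy H N ∧ ∃ D : Fin r → Submodule F (ι → F), IsMDecomposition 1 D ∧
      H ≤ decompositionStabilizer D ∧ (∀ i j, ∃ h ∈ H, act h (D i) = D j) ∧
      ∃ χ : Fin r → N → F, Function.Injective χ ∧ ∀ i, D i = eig N (χ i)) ∨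
    (∃ N ≤ H, NormBy H N ∧ (∀ a ∈ N, ∀ b ∈ N, a * b = b * a) ∧ ActsIrreducibly (matrixSet N) ∧
      IsFieldSubalgebra r (Algebra.adjoin F (matrixSet N)) ∧
      H ≤ subalgebraNormalizer (Algebra.adjoin F (matrixSet N))) ∨
    (∃ R ≤ H, NormBy H R ∧ IsSymplecticTypeGroup r R ∧ ActsAbsolutelyIrreducibly (matrixSet R) ∧
      Nat.card R = r ^ 3 ∧ Nat.card (Subgroup.center R) = r ∧ (∀ x ∈ R, x ^ r = 1) ∧
      (∀ a ∈ R, ∀ b ∈ R, a * b * a⁻¹ * b⁻¹ ∈ scalars ι F)) ∨
    (∃ P : Subgroup (GL ι F), PreCore H P) := by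
  classical
  have hne : Nonempty ι := by
    rw [← Fintype.card_pos_iff, hcard]; exact hr.pos
  have hfinGL : Finite (GL ι F) := inferInstance
  by_contra hcon
  push Not at hcon
  obtain ⟨hc1, hc2, hc3, hc4⟩ := hcon
  -- every normalised subgroup is scalar or absolutely irreducible
  have hq : ∀ N ≤ H, NormBy H N → N ≤ scalars ι F ∨ ActsAbsolutelyIrreducibly (matrixSet N) := by
    intro N hNH hNn
    rcases clifford_prime hr hcard hNn hirr with h | h | ⟨D, h1, h2, h3, χ, h4, h5⟩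
    · right
      apply absIrr_of_nonabelian hr hcard h
      intro hab
      exact hc2 N hNH hNn hab h (isField_adjoin hr hcard h hab) (le_subalgebraNormalizer hNn)
    · exact Or.inl h
    · exfalso
      obtain ⟨i, hi⟩ := hc1 N hNH hNn D h1 h2 h3 χ h4
      exact hi (h5 i)
  set Z : Subgroup H := (scalars ι F).subgroupOf H with hZdef
  have hZn : Z.Normal := inferInstance
  have hZc : Z ≤ Subgroup.center H := by
    intro z hz
    rw [Subgroup.mem_center_iff]
    intro g
    ext1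
    exact (comm_of_scalar (Subgroup.mem_subgroupOf.1 hz) g).symm
  have hZT : Z ≠ ⊤ := by
    intro h
    obtain ⟨g, hg, hgs⟩ := exists_not_scalar_of_irr hr hcard hirr
    apply hgs
    have : (⟨g, hg⟩ : H) ∈ Z := by rw [h]; trivial
    obtain ⟨c, hc⟩ := (mem_scalars_iff g).1 (Subgroup.mem_subgroupOf.1 this)
    exact ⟨c, hc⟩
  have hnormMap : ∀ {M N : Subgroup H}, NormBy M N → NormBy (M.map H.subtype) (N.map H.subtype) := by
    rintro M N h _ ⟨m, hm, rfl⟩ _ ⟨n, hn, rfl⟩
    exact ⟨m * n * m⁻¹, h m hm n hn, rfl⟩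
  have hnormMapTop : ∀ {N : Subgroup H}, N.Normal → NormBy H (N.map H.subtype) := by
    rintro N hN g hg _ ⟨n, hn, rfl⟩
    exact ⟨⟨g, hg⟩ * n * ⟨g, hg⟩⁻¹, hN.conj_mem n hn _, rfl⟩
  have hmapZ : ∀ {M : Subgroup H}, M.map H.subtype ≤ scalars ι F → M ≤ Z := by
    intro M h m hm
    exact Subgroup.mem_subgroupOf.2 (h ⟨m, hm, rfl⟩)
  have hbig : ∀ M : Subgroup H, M.Normal → ¬ M ≤ Z → ActsAbsolutelyIrreducibly (matrixSet (M.map H.subtype)) := by
    intro M hM hMZ
    exact (hq _ (Subgroup.map_subtype_le M) (hnormMapTop hM)).resolve_left (fun h => hMZ (hmapZ h))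
  have h2 : ∀ M : Subgroup H, M.Normal → ¬ M ≤ Z → ∀ Q ≤ M, NormBy M Q → ¬ (∀ a ∈ Q, ∀ b ∈ Q, a * b = b * a) →
      Subgroup.centralizer (Q : Set H) ≤ Z := by
    intro M hM hMZ Q hQM hQn hQc
    have hMabs := hbig M hM hMZ
    have hQc' : ¬ ∀ a ∈ Q.map H.subtype, ∀ b ∈ Q.map H.subtype, a * b = b * a := by
      intro h
      apply hQc
      intro a ha b hb
      exact Subtype.ext (h a ⟨a, ha, rfl⟩ b ⟨b, hb, rfl⟩)
    have hQirr : ActsIrreducibly (matrixSet (Q.map H.subtype)) := by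
      rcases clifford_prime hr hcard (hnormMap hQn) hMabs.1 with h | h | ⟨D, h1, h2, h3, χ, h4, h5⟩
      · exact h
      · exact absurd (fun a ha b _ => comm_of_scalar (h ha) b) hQc'
      · exact absurd (comm_of_eig D h1.iSup_eq_top χ h5) hQc'
    have hQabs := absIrr_of_nonabelian hr hcard hQirr hQc'
    intro g hg
    apply Subgroup.mem_subgroupOf.2
    apply mem_scalars_of_comm hQabs
    rintro _ ⟨n, hn, rfl⟩
    have h9 := congrArg Subtype.val (Subgroup.mem_centralizer_iff.1 hg n hn)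
    exact h9.symm
  rcases abstract_dichotomy Z hZc hZT h2 with ⟨M, hMn, hZM, _, hMM, s, hs, hpow⟩ | ⟨P, hPn, hPP, hPZ, hPs⟩
  · -- extraspecial case
    have hMZ : ¬ M ≤ Z := fun h => absurd (lt_of_lt_of_le hZM h) (lt_irrefl _)
    obtain ⟨R, hR1, hR2, hR3, hR4, hR5, hR6, hR7, hR8⟩ := extraspecial_case hr hr2 hcard hq
      (Subgroup.map_subtype_le M) (hnormMapTop hMn) (fun h => hMZ (hmapZ h)) (by
        rintro _ ⟨a, ha, rfl⟩ _ ⟨b, hb, rfl⟩
        have := hMM (Subgroup.commutator_mem_commutator ha hb)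
        exact Subgroup.mem_subgroupOf.1 this) hs (by
        rintro _ ⟨a, ha, rfl⟩
        exact Subgroup.mem_subgroupOf.1 (hpow a ha))
    obtain ⟨a, ha, b, hb, hab⟩ := hc3 R hR1 hR2 hR3 hR4 hR5 hR6 hR7
    exact hab (hR8 a ha b hb)
  · -- almost simple case
    set P' := P.map H.subtype with hP'
    have hP'abs := hbig P hPn hPZ
    have hP'perf : ⁅P', P'⁆ = P' := by
      rw [hP', ← Subgroup.map_commutator, hPP]
    let e : P ≃* P' := P.equivMapOfInjective H.subtype H.subtype_injective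
    have he : (Z.subgroupOf P).map e.toMonoidHom = (scalars ι F).subgroupOf P' := by
      ext x
      rw [Subgroup.mem_subgroupOf]
      constructor
      · rintro ⟨y, hy, rfl⟩
        exact Subgroup.mem_subgroupOf.1 (Subgroup.mem_subgroupOf.1 hy)
      · intro hx
        refine ⟨e.symm x, ?_, by simp⟩
        apply Subgroup.mem_subgroupOf.2
        apply Subgroup.mem_subgroupOf.2
        have h3 : ((e (e.symm x) : P') : GL ι F) = (((e.symm x : P) : H) : GL ι F) := rfl
        rw [← h3, MulEquiv.apply_symm_apply]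
        exact hx
    have hsimple : IsSimpleGroup (P' ⧸ (scalars ι F).subgroupOf P') :=
      isSimpleGroup_of_equiv (QuotientGroup.congr _ _ e he) hPs
    apply hc4 P'
    refine ⟨Subgroup.map_subtype_le P, hnormMapTop hPn, hP'perf, hsimple, ?_, ?_, hP'abs⟩
    · intro hcomm
      have hle : ⁅P', P'⁆ ≤ scalars ι F := ?_
      · rw [hP'perf] at hle
        exact not_le_scalars_of_absIrr hr hcard hP'abs hle
      rw [Subgroup.commutator_le]
      intro a ha b hb
      have h3 := hcomm.is_comm.comm (QuotientGroup.mk (⟨b, hb⟩ : P')⁻¹) (QuotientGroup.mk (⟨a, ha⟩ : P')⁻¹)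
      have h4 := QuotientGroup.eq.1 h3
      rw [Subgroup.mem_subgroupOf] at h4
      have h5 : (((((⟨b, hb⟩ : P')⁻¹ * (⟨a, ha⟩ : P')⁻¹))⁻¹ * ((⟨a, ha⟩ : P')⁻¹ * (⟨b, hb⟩ : P')⁻¹) : P') : GL ι F)
        = ⁅a, b⁆ := by
        rw [commutatorElement_def]
        simp only [Subgroup.coe_mul, Subgroup.coe_inv, _root_.mul_inv_rev, inv_inv, mul_assoc]
      rw [← h5]
      exact h4
    · intro h _ hh
      exact mem_scalars_of_comm_mod hP'perf hP'abs hh

end Cfsg.Agent.H907
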