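import Mathlib

set_option autoImplicit false

/-!
An abstract dichotomy for finite groups with a central subgroup `Z` such that all centralisers of "large"
normal subgroups lie in `Z`.
-/

namespace Cfsg.Agent.H907

open Subgroup
open scoped commutatorElement

variable {G : Type*} [Group G]

theorem normal_of_le_center' {Z : Subgroup G} (hZ : Z ≤ center G) : Z.Normal := by
  refine ⟨fun z hz g => ?_⟩
  have h1 := (mem_center_iff.1 (hZ hz)) g
  rw [h1, mul_inv_cancel_right]
  exact hz

/-- `N` is normalised by `M`. -/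
def NormBy (M N : Subgroup G) : Prop := ∀ m ∈ M, ∀ x ∈ N, m * x * m⁻¹ ∈ N

theorem NormBy.inf {M N L : Subgroup G} (h1 : NormBy M N) (h2 : NormBy M L) : NormBy M (N ⊓ L) :=
  fun m hm x hx => ⟨h1 m hm x hx.1, h2 m hm x hx.2⟩

theorem normBy_iff_map {M N : Subgroup G} : NormBy M N ↔ ∀ m ∈ M, N.map (MulAut.conj m).toMonoidHom ≤ N := by
  constructor
  · rintro h m hm _ ⟨x, hx, rfl⟩
    simpa using h m hm x hx
  · intro h m hm x hx
    exact h m hm ⟨x, hx, by simp⟩

theorem NormBy.map_eq {M N : Subgroup G} (h : NormBy M N) {m : G} (hm : m ∈ M) :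
    N.map (MulAut.conj m).toMonoidHom = N := by
  apply le_antisymm (normBy_iff_map.1 h m hm)
  intro x hx
  refine ⟨m⁻¹ * x * m, ?_, by simp [mul_assoc]⟩
  have := h m⁻¹ (M.inv_mem hm) x hx
  simpa using this

theorem NormBy.sup {M N L : Subgroup G} (h1 : NormBy M N) (h2 : NormBy M L) : NormBy M (N ⊔ L) := by
  rw [normBy_iff_map] at *
  intro m hm
  rw [Subgroup.map_sup]
  exact sup_le_sup (h1 m hm) (h2 m hm)

theorem NormBy.commutator {M N L : Subgroup G} (h1 : NormBy M N) (h2 : NormBy M L) : NormBy M ⁅N, L⁆ := by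
  rw [normBy_iff_map] at *
  intro m hm
  rw [Subgroup.map_commutator]
  exact Subgroup.commutator_mono (h1 m hm) (h2 m hm)

theorem NormBy.conj {M N : Subgroup G} (hM : M.Normal) (h : NormBy M N) (g : G) :
    NormBy M (N.map (MulAut.conj g).toMonoidHom) := by
  rintro m hm _ ⟨x, hx, rfl⟩
  refine ⟨(g⁻¹ * m * g) * x * (g⁻¹ * m * g)⁻¹, h _ ?_ x hx, ?_⟩
  · have := hM.conj_mem m hm g⁻¹
    simpa using this
  · simp [mul_assoc]

theorem normBy_of_normal {M N : Subgroup G} (h : N.Normal) : NormBy M N := fun m _ x hx => h.conj_mem x hx m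

theorem commutator_sup_center {Z P : Subgroup G} (hZ : Z ≤ center G) : ⁅P ⊔ Z, P ⊔ Z⁆ = ⁅P, P⁆ := by
  have hZn := normal_of_le_center' hZ
  apply le_antisymm
  · rw [Subgroup.commutator_le]
    intro a ha b hb
    obtain ⟨p, hp, z, hz, rfl⟩ := Subgroup.mem_sup_of_normal_right.1 ha
    obtain ⟨q, hq, w, hw, rfl⟩ := Subgroup.mem_sup_of_normal_right.1 hb
    have hzc : ∀ g, g * z = z * g := mem_center_iff.1 (hZ hz)
    have hwc : ∀ g, g * w = w * g := mem_center_iff.1 (hZ hw)
    have : ⁅p * z, q * w⁆ = ⁅p, q⁆ := by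
      simp only [commutatorElement_def, mul_inv_rev]
      calc p * z * (q * w) * (z⁻¹ * p⁻¹) * (w⁻¹ * q⁻¹)
          = p * (z * q) * w * z⁻¹ * p⁻¹ * w⁻¹ * q⁻¹ := by group
        _ = p * (q * z) * w * z⁻¹ * p⁻¹ * w⁻¹ * q⁻¹ := by rw [hzc q]
        _ = p * q * (z * w) * z⁻¹ * p⁻¹ * w⁻¹ * q⁻¹ := by group
        _ = p * q * (w * z) * z⁻¹ * p⁻¹ * w⁻¹ * q⁻¹ := by rw [hwc z]
        _ = p * q * (w * p⁻¹) * w⁻¹ * q⁻¹ := by group
        _ = p * q * (p⁻¹ * w) * w⁻¹ * q⁻¹ := by rw [hwc p⁻¹]
        _ = p * q * p⁻¹ * q⁻¹ := by group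
    rw [this]
    exact Subgroup.commutator_mem_commutator hp hq
  · exact Subgroup.commutator_mono le_sup_left le_sup_left

/-- `⁅A, B⁆ ≤ Z` for a normal `Z` in terms of the quotient. -/
theorem commutator_le_iff_quot {Z A B : Subgroup G} [Z.Normal] :
    ⁅A, B⁆ ≤ Z ↔ A.map (QuotientGroup.mk' Z) ≤ centralizer (B.map (QuotientGroup.mk' Z) : Set (G ⧸ Z)) := by
  rw [← Subgroup.commutator_eq_bot_iff_le_centralizer, ← Subgroup.map_commutator, Subgroup.map_eq_bot_iff,
    QuotientGroup.ker_mk']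

theorem commutator_iSup_le {κ : Sort*} {Z : Subgroup G} [Z.Normal] (Q : κ → Subgroup G)
    (h : ∀ i j, ⁅Q i, Q j⁆ ≤ Z) : ⁅⨆ i, Q i, ⨆ i, Q i⁆ ≤ Z := by
  have h1 : ∀ j, ⁅⨆ i, Q i, Q j⁆ ≤ Z := by
    intro j
    rw [commutator_le_iff_quot, Subgroup.map_iSup]
    exact iSup_le fun i => commutator_le_iff_quot.1 (h i j)
  rw [commutator_le_iff_quot]
  conv_lhs => rw [Subgroup.map_iSup]
  refine iSup_le fun i => ?_
  have := h1 i
  rw [Subgroup.commutator_comm] at this
  exact commutator_le_iff_quot.1 this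

variable [Finite G]

/-- Main abstract dichotomy. -/
theorem abstract_dichotomy (Z : Subgroup G) [hZn : Z.Normal] (hZ : Z ≤ center G) (hGZ : Z ≠ ⊤)
    (h2 : ∀ M : Subgroup G, M.Normal → ¬ M ≤ Z → ∀ Q ≤ M, NormBy M Q → ¬ (∀ a ∈ Q, ∀ b ∈ Q, a * b = b * a) →
      centralizer (Q : Set G) ≤ Z) :
    (∃ M : Subgroup G, M.Normal ∧ Z < M ∧ (∀ N : Subgroup G, N.Normal → N ≤ M → N ≤ Z ∨ N ⊔ Z = M) ∧
      ⁅M, M⁆ ≤ Z ∧ ∃ s : ℕ, s.Prime ∧ ∀ x ∈ M, x ^ s ∈ Z) ∨
    (∃ P : Subgroup G, P.Normal ∧ ⁅P, P⁆ = P ∧ ¬ P ≤ Z ∧ IsSimpleGroup (P ⧸ Z.subgroupOf P)) := by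
  classical
  -- minimal normal over Z
  have hwf : WellFounded ((· < ·) : Subgroup G → Subgroup G → Prop) := wellFounded_lt
  obtain ⟨M, ⟨hMn, hZM⟩, hMmin⟩ := hwf.has_min {M : Subgroup G | M.Normal ∧ Z < M}
    ⟨⊤, inferInstance, lt_top_iff_ne_top.2 hGZ⟩
  have hmin : ∀ N : Subgroup G, N.Normal → N ≤ M → N ≤ Z ∨ N ⊔ Z = M := by
    intro N hN hNM
    by_cases hNZ : N ≤ Z
    · exact Or.inl hNZ
    · right
      have h3 : (N ⊔ Z).Normal := inferInstance
      have h4 : Z < N ⊔ Z := lt_of_le_of_ne le_sup_right (fun h => hNZ (h ▸ le_sup_left))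
      by_contra hne
      exact hMmin (N ⊔ Z) ⟨h3, h4⟩ (lt_of_le_of_ne (sup_le hNM hZM.le) hne)
  by_cases hcom : ⁅M, M⁆ ≤ Z
  · left
    refine ⟨M, hMn, hZM, hmin, hcom, ?_⟩
    obtain ⟨x, hxM, hxZ⟩ := SetLike.exists_of_lt hZM
    set n := orderOf (QuotientGroup.mk' Z x) with hn
    have hn1 : n ≠ 1 := by
      intro h
      rw [orderOf_eq_one_iff] at h
      exact hxZ ((QuotientGroup.eq_one_iff x).1 h)
    have hn0 : n ≠ 0 := (orderOf_pos _).ne'
    obtain ⟨s, hs, hsn⟩ := Nat.exists_prime_and_dvd hn1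
    refine ⟨s, hs, ?_⟩
    obtain ⟨m, hm⟩ := hsn
    have hm0 : 0 < m := Nat.pos_of_ne_zero (by rintro rfl; simp at hm; exact hn0 hm)
    have hmn : m < n := by
      rw [hm]; exact lt_mul_of_one_lt_left hm0 hs.one_lt
    have hyZ : x ^ m ∉ Z := by
      intro h
      have h5 : (QuotientGroup.mk' Z x) ^ m = 1 := by
        rw [← map_pow]; exact (QuotientGroup.eq_one_iff _).2 h
      exact absurd (Nat.le_of_dvd hm0 (orderOf_dvd_of_pow_eq_one h5)) (not_le.2 hmn)
    have hyZ' : (x ^ m) ^ s ∈ Z := by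
      rw [← pow_mul, mul_comm, ← hm]
      apply (QuotientGroup.eq_one_iff _).1
      change QuotientGroup.mk' Z (x ^ n) = 1
      rw [map_pow, hn, pow_orderOf_eq_one]
    have hcomm : ∀ a ∈ M, ∀ b ∈ M, Commute (QuotientGroup.mk' Z a) (QuotientGroup.mk' Z b) := by
      intro a ha b hb
      have h6 := commutator_le_iff_quot.1 hcom
      exact ((h6 ⟨a, ha, rfl⟩) _ ⟨b, hb, rfl⟩).symm
    let N : Subgroup G :=
      { carrier := {g | g ∈ M ∧ g ^ s ∈ Z}
        mul_mem' := by
          rintro a b ⟨ha, ha'⟩ ⟨hb, hb'⟩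
          refine ⟨M.mul_mem ha hb, ?_⟩
          apply (QuotientGroup.eq_one_iff _).1
          change QuotientGroup.mk' Z ((a * b) ^ s) = 1
          rw [map_pow, map_mul, (hcomm a ha b hb).mul_pow, ← map_pow, ← map_pow]
          rw [(QuotientGroup.eq_one_iff (N := Z) (a ^ s)).2 ha' |> (fun h => (h : QuotientGroup.mk' Z (a ^ s) = 1)),
            (QuotientGroup.eq_one_iff (N := Z) (b ^ s)).2 hb' |> (fun h => (h : QuotientGroup.mk' Z (b ^ s) = 1)), one_mul]
        one_mem' := ⟨M.one_mem, by rw [one_pow]; exact Z.one_mem⟩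
        inv_mem' := by
          rintro a ⟨ha, ha'⟩
          exact ⟨M.inv_mem ha, by rw [inv_pow]; exact Z.inv_mem ha'⟩ }
    have hN : N.Normal := by
      refine ⟨fun a ha g => ⟨hMn.conj_mem a ha.1 g, ?_⟩⟩
      rw [conj_pow]
      exact hZn.conj_mem _ ha.2 g
    rcases hmin N hN (fun a ha => ha.1) with h7 | h7
    · exact absurd (h7 (⟨M.pow_mem hxM m, hyZ'⟩ : x ^ m ∈ N)) hyZ
    · have h8 : Z ≤ N := fun z hz => ⟨hZM.le hz, Z.pow_mem hz s⟩
      rw [sup_eq_left.2 h8] at h7
      intro y hy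
      rw [← h7] at hy
      exact hy.2
  · right
    have hPZ : ⁅M, M⁆ ⊔ Z = M := by
      rcases hmin ⁅M, M⁆ inferInstance (Subgroup.commutator_le_left M M) with h | h
      · exact absurd h hcom
      · exact h
    -- minimal M-normalised subgroup over Z
    obtain ⟨Q, ⟨hQM, hQn, hZQ⟩, hQmin⟩ := hwf.has_min {Q : Subgroup G | Q ≤ M ∧ NormBy M Q ∧ Z < Q}
      ⟨M, le_rfl, normBy_of_normal hMn, hZM⟩
    have hQmin' : ∀ L : Subgroup G, L ≤ Q → NormBy M L → Z ≤ L → L = Z ∨ L = Q := by
      intro L hLQ hLn hZL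
      by_cases h : L = Z
      · exact Or.inl h
      · right
        by_contra hne
        exact hQmin L ⟨hLQ.trans hQM, hLn, lt_of_le_of_ne hZL (Ne.symm h)⟩ (lt_of_le_of_ne hLQ hne)
    have hQeq : Q = M := by
      by_contra hQne
      -- conjugates of Q
      set C : G → Subgroup G := fun g => Q.map (MulAut.conj g).toMonoidHom with hC
      have hCM : ∀ g, C g ≤ M := by
        rintro g _ ⟨x, hx, rfl⟩
        simpa using hMn.conj_mem x (hQM hx) g
      have hCn : ∀ g, NormBy M (C g) := fun g => hQn.conj hMn g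
      have hZC : ∀ g, Z ≤ C g := by
        intro g z hz
        refine ⟨z, hZQ.le hz, ?_⟩
        have := mem_center_iff.1 (hZ hz) g
        simp [this]
      have hcardC : ∀ g, Nat.card (C g) = Nat.card Q := fun g =>
        Nat.card_congr (Q.equivMapOfInjective _ (MulAut.conj g).injective).toEquiv.symm
      have hCC : ∀ g, C g = Q ∨ Q ⊓ C g = Z := by
        intro g
        rcases hQmin' (Q ⊓ C g) inf_le_left (hQn.inf (hCn g)) (le_inf hZQ.le (hZC g)) with h | h
        · exact Or.inr h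
        · left
          have h9 : Q ≤ C g := by rw [← h]; exact inf_le_right
          exact (Subgroup.eq_of_le_of_card_ge h9 (hcardC g).le).symm
      have hcomZ : ∀ g, C g = Q ∨ ⁅Q, C g⁆ ≤ Z := by
        intro g
        rcases hCC g with h | h
        · exact Or.inl h
        · right
          rw [← h]
          apply le_inf
          · rw [Subgroup.commutator_le]
            intro a ha b hb
            have h10 := hQn b (hCM g hb) a⁻¹ (Q.inv_mem ha)
            rw [commutatorElement_def]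
            have := Q.mul_mem ha h10
            simpa [mul_assoc] using this
          · rw [Subgroup.commutator_le]
            intro a ha b hb
            have h10 := hCn g a (hQM ha) b hb
            rw [commutatorElement_def]
            exact (C g).mul_mem h10 ((C g).inv_mem hb)
      have hconjC : ∀ g h, (C g).map (MulAut.conj h).toMonoidHom = C (h * g) := by
        intro g h
        simp only [hC, Subgroup.map_map]
        congr 1
        ext x
        simp [mul_assoc]
      have hcomCC : ∀ g h, C g = C h ∨ ⁅C g, C h⁆ ≤ Z := by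
        intro g h
        rcases hcomZ (g⁻¹ * h) with h11 | h11
        · left
          have := congrArg (Subgroup.map (MulAut.conj g).toMonoidHom) h11
          rw [hconjC] at this
          rw [mul_inv_cancel_left] at this
          exact this.symm
        · right
          have := Subgroup.map_mono (f := (MulAut.conj g).toMonoidHom) h11
          rw [Subgroup.map_commutator, hconjC, mul_inv_cancel_left] at this
          refine this.trans ?_
          rintro _ ⟨z, hz, rfl⟩
          simpa using hZn.conj_mem z hz g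
      -- the join of the conjugates
      have hJ : (⨆ g, C g) = M := by
        have hJn : (⨆ g, C g).Normal := by
          refine ⟨fun x hx h => ?_⟩
          have : h * x * h⁻¹ ∈ (⨆ g, C g).map (MulAut.conj h).toMonoidHom := ⟨x, hx, by simp⟩
          rw [Subgroup.map_iSup] at this
          refine (iSup_le fun g => ?_ : (⨆ g, (C g).map (MulAut.conj h).toMonoidHom) ≤ ⨆ g, C g) this
          rw [hconjC]
          exact le_iSup C (h * g)
        have hCle : Q ≤ ⨆ g, C g := by
          refine le_trans ?_ (le_iSup C 1)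
          intro x hx
          exact ⟨x, hx, by simp⟩
        rcases hmin _ hJn (iSup_le hCM) with h | h
        · exact absurd (lt_of_lt_of_le hZQ (hCle.trans h)) (lt_irrefl _)
        · rwa [sup_eq_left.2 (hZQ.le.trans hCle)] at h
      have hQQ : ¬ ⁅Q, Q⁆ ≤ Z := by
        intro hQQ
        apply hcom
        rw [← hJ]
        apply commutator_iSup_le
        intro g h
        rcases hcomCC g h with h12 | h12
        · rw [← h12]
          have := Subgroup.map_mono (f := (MulAut.conj g).toMonoidHom) hQQ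
          rw [Subgroup.map_commutator] at this
          refine this.trans ?_
          rintro _ ⟨z, hz, rfl⟩
          simpa using hZn.conj_mem z hz g
        · exact h12
      have hQnot : ∃ g, C g ≠ Q := by
        by_contra hall
        push Not at hall
        have hQN : Q.Normal := by
          refine ⟨fun x hx g => ?_⟩
          rw [← hall g]
          exact ⟨x, hx, by simp⟩
        rcases hmin Q hQN hQM with h | h
        · exact absurd (lt_of_lt_of_le hZQ h) (lt_irrefl _)
        · rw [sup_eq_left.2 hZQ.le] at h; exact hQne h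
      obtain ⟨g, hg⟩ := hQnot
      have hcg : ⁅Q, C g⁆ ≤ Z := (hcomZ g).resolve_left hg
      have hZbot : ∀ A : Subgroup G, ⁅Z, A⁆ = ⊥ := by
        intro A
        rw [Subgroup.commutator_eq_bot_iff_le_centralizer]
        intro z hz a _
        exact mem_center_iff.1 (hZ hz) a
      have h13 : ⁅⁅Q, Q⁆, C g⁆ = ⊥ := by
        apply Subgroup.commutator_commutator_eq_bot_of_rotate
        · rw [eq_bot_iff, ← hZbot Q]; exact Subgroup.commutator_mono hcg le_rfl
        · rw [Subgroup.commutator_comm (C g) Q, eq_bot_iff, ← hZbot Q]; exact Subgroup.commutator_mono hcg le_rfl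
      have h14 : C g ≤ centralizer ((⁅Q, Q⁆ : Subgroup G) : Set G) := by
        rw [Subgroup.commutator_comm, Subgroup.commutator_eq_bot_iff_le_centralizer] at h13
        exact h13
      have hMZ : ¬ M ≤ Z := fun h => absurd (lt_of_lt_of_le hZM h) (lt_irrefl _)
      have hQ'n : NormBy M ⁅Q, Q⁆ := hQn.commutator hQn
      have hQ'Q : ⁅Q, Q⁆ ≤ Q := by
        rw [Subgroup.commutator_le]
        intro a ha b hb
        rw [commutatorElement_def]
        exact Q.mul_mem (Q.mul_mem (Q.mul_mem ha hb) (Q.inv_mem ha)) (Q.inv_mem hb)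
      have hab : ∀ a ∈ ⁅Q, Q⁆, ∀ b ∈ ⁅Q, Q⁆, a * b = b * a := by
        by_contra hnab
        have h15 := h2 M hMn hMZ ⁅Q, Q⁆ (hQ'Q.trans hQM) hQ'n hnab
        have h16 : C g ≤ Z := h14.trans h15
        have h17 : Nat.card Z < Nat.card Q := by
          exact Set.Finite.card_lt_card (Set.toFinite (Q : Set G)) (SetLike.coe_ssubset_coe.2 hZQ)
        have h18 : Nat.card (C g) ≤ Nat.card Z := Subgroup.card_le_of_le h16
        rw [hcardC] at h18
        omega
      have h19 : ⁅Q, Q⁆ ⊔ Z = Q := by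
        rcases hQmin' (⁅Q, Q⁆ ⊔ Z) (sup_le hQ'Q hZQ.le) (hQ'n.sup (normBy_of_normal hZn)) le_sup_right with h | h
        · exact absurd (le_sup_left.trans h.le) hQQ
        · exact h
      apply hQQ
      have h20 : ⁅Q, Q⁆ = ⁅⁅Q, Q⁆, ⁅Q, Q⁆⁆ := by
        conv_lhs => rw [← h19]
        exact commutator_sup_center hZ
      rw [h20]
      have : ⁅⁅Q, Q⁆, ⁅Q, Q⁆⁆ = ⊥ := by
        rw [Subgroup.commutator_eq_bot_iff_le_centralizer]
        intro a ha b hb
        exact hab b hb a ha
      rw [this]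
      exact bot_le
    subst hQeq
    refine ⟨⁅Q, Q⁆, inferInstance, ?_, hcom, ?_⟩
    · have h3 := commutator_sup_center (P := ⁅Q, Q⁆) hZ
      rw [hPZ] at h3
      exact h3.symm
    · set P := ⁅Q, Q⁆ with hP
      have hPn : P.Normal := inferInstance
      have hnt : Nontrivial (P ⧸ Z.subgroupOf P) := by
        rw [QuotientGroup.nontrivial_iff]
        intro h
        apply hcom
        intro x hx
        have : (⟨x, hx⟩ : P) ∈ Z.subgroupOf P := by rw [h]; trivial
        exact Subgroup.mem_subgroupOf.1 this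
      refine { hnt with eq_bot_or_eq_top_of_normal := ?_ }
      intro L hL
      set L1 : Subgroup P := L.comap (QuotientGroup.mk' (Z.subgroupOf P)) with hL1
      have hL1n : L1.Normal := inferInstance
      set L2 : Subgroup G := L1.map P.subtype with hL2
      have hL2P : L2 ≤ P := Subgroup.map_subtype_le L1
      have hL2n : NormBy Q L2 := by
        rintro q hq _ ⟨x, hx, rfl⟩
        rw [← hPZ] at hq
        obtain ⟨p, hp, z, hz, rfl⟩ := Subgroup.mem_sup_of_normal_right.1 hq
        have hzc : ∀ g, g * z = z * g := mem_center_iff.1 (hZ hz)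
        refine ⟨⟨p, hp⟩ * x * ⟨p, hp⟩⁻¹, hL1n.conj_mem x hx _, ?_⟩
        simp only [Subgroup.subtype_apply, Subgroup.coe_mul, Subgroup.coe_inv, mul_inv_rev]
        calc p * (x : G) * p⁻¹ = p * (x * z) * z⁻¹ * p⁻¹ := by group
          _ = p * (z * x) * z⁻¹ * p⁻¹ := by rw [hzc]
          _ = p * z * (x : G) * (z⁻¹ * p⁻¹) := by group
      rcases hQmin' (L2 ⊔ Z) (sup_le (hL2P.trans (Subgroup.commutator_le_left Q Q)) hZM.le)
        (hL2n.sup (normBy_of_normal hZn)) le_sup_right with h | h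
      · left
        rw [eq_bot_iff]
        intro y hy
        obtain ⟨x, rfl⟩ := QuotientGroup.mk'_surjective _ y
        have h4 : (x : G) ∈ L2 := ⟨x, hy, rfl⟩
        have h5' : (x : G) ∈ L2 ⊔ Z := Subgroup.mem_sup_left h4
        have h5 : (x : G) ∈ Z := by rwa [h] at h5'
        rw [Subgroup.mem_bot]
        exact (QuotientGroup.eq_one_iff x).2 (Subgroup.mem_subgroupOf.2 h5)
      · right
        rw [eq_top_iff]
        intro y _
        obtain ⟨x, rfl⟩ := QuotientGroup.mk'_surjective _ y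
        have h4 : (x : G) ∈ L2 ⊔ Z := by rw [h]; exact Subgroup.commutator_le_left Q Q x.2
        obtain ⟨l, hl, z, hz, hlz⟩ := Subgroup.mem_sup_of_normal_right.1 h4
        obtain ⟨l', hl', rfl⟩ := hl
        have h6 : z = ((l' : P)⁻¹ * x : P) := by
          rw [Subgroup.coe_mul, Subgroup.coe_inv, ← hlz]; simp
        have h7 : (QuotientGroup.mk' (Z.subgroupOf P)) x = QuotientGroup.mk' (Z.subgroupOf P) l' := by
          symm
          apply QuotientGroup.eq.2
          rw [Subgroup.mem_subgroupOf, ← h6]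
          exact hz
        rw [h7]
        exact hl'

end Cfsg.Agent.H907
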