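import Cfsg.Agent.S1764
import Cfsg.Agent.Lib.Cores

/-!
S1764 for a perfect central extension `P` of a non-abelian simple group `G` by a group without involutions.
-/

set_option autoImplicit false

universe u v

namespace Cfsg.Agent.H907.Even

open Subgroup
open scoped commutatorElement

/-- If `S / Z(S)` is perfect then its centre is trivial. -/
theorem center_quot_eq_bot {S : Type*} [Group S] (h : commutator (S ⧸ center S) = ⊤) :
    center (S ⧸ center S) = ⊥ := by
  rw [eq_bot_iff]
  intro x hx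
  obtain ⟨x, rfl⟩ := QuotientGroup.mk_surjective x
  rw [Subgroup.mem_bot, QuotientGroup.eq_one_iff]
  have hc : ∀ s : S, x * s * x⁻¹ * s⁻¹ ∈ center S := by
    intro s
    rw [← QuotientGroup.eq_one_iff]
    have h1 := Subgroup.mem_center_iff.1 hx (s : S ⧸ center S)
    rw [QuotientGroup.mk_mul, QuotientGroup.mk_mul, QuotientGroup.mk_mul, ← h1, QuotientGroup.mk_inv,
      QuotientGroup.mk_inv, mul_inv_cancel_right, mul_inv_cancel]
  let φ : S →* center S :=
    { toFun := fun s => ⟨x * s * x⁻¹ * s⁻¹, hc s⟩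
      map_one' := by apply Subtype.ext; simp
      map_mul' := by
        intro s t
        apply Subtype.ext
        show x * (s * t) * x⁻¹ * (s * t)⁻¹ = (x * s * x⁻¹ * s⁻¹) * (x * t * x⁻¹ * t⁻¹)
        have h2 := Subgroup.mem_center_iff.1 (hc t) (x * s * x⁻¹)
        calc x * (s * t) * x⁻¹ * (s * t)⁻¹ = (x * s * x⁻¹) * (x * t * x⁻¹ * t⁻¹) * s⁻¹ := by group
          _ = (x * t * x⁻¹ * t⁻¹) * (x * s * x⁻¹) * s⁻¹ := by rw [h2]
          _ = (x * t * x⁻¹ * t⁻¹) * (x * s * x⁻¹ * s⁻¹) := by group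
          _ = _ := (Subgroup.mem_center_iff.1 (hc t) _).symm }
  have hker : center S ⊔ commutator S ≤ φ.ker := by
    refine sup_le ?_ ?_
    · intro z hz
      have h7 : x * z * x⁻¹ * z⁻¹ = 1 := by
        rw [Subgroup.mem_center_iff.1 hz x]
        group
      exact Subtype.ext h7
    · rw [commutator_eq_closure, Subgroup.closure_le]
      rintro _ ⟨a, b, rfl⟩
      show φ ⁅a, b⁆ = 1
      rw [map_commutatorElement, commutatorElement_eq_one_iff_mul_comm]
      exact Subtype.ext (Subgroup.mem_center_iff.1 (φ b).2 _)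
  have hmap : (commutator S).map (QuotientGroup.mk' (center S)) = ⊤ := by
    rw [← h, _root_.commutator_def, _root_.commutator_def, Subgroup.map_commutator, ← MonoidHom.range_eq_map,
      MonoidHom.range_eq_top.2 (QuotientGroup.mk'_surjective _)]
  have htop : ∀ s : S, s ∈ center S ⊔ commutator S := by
    intro s
    have hs : (QuotientGroup.mk' (center S)) s ∈ (commutator S).map (QuotientGroup.mk' (center S)) := by
      rw [hmap]; exact Subgroup.mem_top _
    obtain ⟨c, hc1, hc2⟩ := Subgroup.mem_map.1 hs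
    have h6 : c⁻¹ * s ∈ center S := (QuotientGroup.eq).1 hc2
    have h3 : s = c * (c⁻¹ * s) := by group
    rw [h3]
    exact Subgroup.mul_mem _ (Subgroup.mem_sup_right hc1) (Subgroup.mem_sup_left h6)
  rw [Subgroup.mem_center_iff]
  intro s
  have h4 : s ∈ φ.ker := hker (htop s)
  have h5 : x * s * x⁻¹ * s⁻¹ = 1 := congrArg Subtype.val (MonoidHom.mem_ker.1 h4)
  calc s * x = s * x * 1 := by rw [mul_one]
    _ = 1 * (s * x) := by group
    _ = (x * s * x⁻¹ * s⁻¹) * (s * x) := by rw [h5]
    _ = x * s := by group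

theorem commutator_of_surjective {X Y : Type*} [Group X] [Group Y] (h : commutator X = ⊤) (f : X →* Y)
    (hf : Function.Surjective f) : commutator Y = ⊤ := by
  have h1 : (commutator X).map f = ⊤ := by
    rw [h, ← MonoidHom.range_eq_map, MonoidHom.range_eq_top.2 hf]
  rw [_root_.commutator_def, Subgroup.map_commutator, ← MonoidHom.range_eq_map,
        MonoidHom.range_eq_top.2 hf, ← _root_.commutator_def] at h1
  exact h1

theorem commutator_quot {X : Type*} [Group X] (h : commutator X = ⊤) (N : Subgroup X) [N.Normal] :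
    commutator (X ⧸ N) = ⊤ :=
  commutator_of_surjective h (QuotientGroup.mk' N) (QuotientGroup.mk'_surjective _)

theorem eq_one_of_comm {X : Type*} [Group X] (h : commutator X = ⊤) (hc : IsMulCommutative X) (x : X) : x = 1 := by
  have h1 : commutator X = ⊥ := by
    rw [_root_.commutator_def, Subgroup.commutator_eq_bot_iff_le_centralizer]
    intro a _ b _
    exact hc.is_comm.comm b a
  have : x ∈ commutator X := h ▸ Subgroup.mem_top x
  rw [h1] at this
  exact this

theorem center_simple {G : Type*} [Group G] [IsSimpleGroup G] (hnab : ¬ IsMulCommutative G) : center G = ⊥ := by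
  rcases IsSimpleGroup.eq_bot_or_eq_top_of_normal (center G) inferInstance with h | h
  · exact h
  · exfalso
    apply hnab
    refine ⟨⟨fun a b => ?_⟩⟩
    have : b ∈ center G := h ▸ Subgroup.mem_top b
    exact Subgroup.mem_center_iff.1 this a

variable {P : Type u} [Group P] [Finite P] {G : Type v} [Group G]

/-- The list of S1764. -/
def List64 (C : Type*) [Group C] : Prop :=
  (∃ (F : Type) (_ : Field F) (_ : Fintype F) (n : ℕ), ringChar F = 2 ∧ 2 ≤ n ∧
      Nonempty (C ≃* Matrix.ProjectiveSpecialLinearGroup (Fin n) F)) ∨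
  Cfsg.Lie.IsoSuzuki C ∨
  (∃ (F : Type) (_ : Field F) (_ : Fintype F) (m : ℕ), Fintype.card F = 4 ^ m ∧
      Nonempty (C ≃* Cfsg.PSU 3 F (2 ^ m))) ∨
  (∃ k : ℕ, 6 ≤ k ∧ k ≤ 9 ∧ Nonempty (C ≃* ↥(alternatingGroup (Fin k)))) ∨
  Cfsg.Spor.IsoM22 C ∨ Cfsg.Spor.IsoM23 C ∨ Cfsg.Spor.IsoM24 C

theorem wrap (π : P →* G) (hπ : Function.Surjective π)
    (hker : π.ker ≤ center P) (h2 : ∀ z ∈ π.ker, z ^ 2 = 1 → z = 1) (hperf : commutator P = ⊤)
    [IsSimpleGroup G] (hnab : ¬ IsMulCommutative G) (B : Subgroup P)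
    (hB : Cfsg.IsElementaryAbelian 2 B) (hne : B ≠ ⊥)
    (hti : ∀ g : P, B.map (MulAut.conj g).toMonoidHom = B ∨ B.map (MulAut.conj g).toMonoidHom ⊓ B = ⊥)
    (hwc : ∀ g : P, B.map (MulAut.conj g).toMonoidHom ≤ Subgroup.normalizer (B : Set P) →
      B.map (MulAut.conj g).toMonoidHom = B) :
    ∃ (C : Type u) (_ : Group C) (f : C →* G), Finite C ∧ Function.Surjective f ∧ f.ker ≤ center C ∧
      commutator C = ⊤ ∧ List64 C := by
  have hGfin : Finite G := Finite.of_surjective π hπ
  have hcG : center G = ⊥ := center_simple hnab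
  -- the normal closure is everything
  have hS : Subgroup.normalClosure (B : Set P) = ⊤ := by
    have hn : ((Subgroup.normalClosure (B : Set P)).map π).Normal :=
      Subgroup.Normal.map inferInstance π hπ
    rcases IsSimpleGroup.eq_bot_or_eq_top_of_normal _ hn with h | h
    · exfalso
      apply hne
      rw [eq_bot_iff]
      intro b hb
      have h1 : π b = 1 := by
        have : π b ∈ (Subgroup.normalClosure (B : Set P)).map π :=
          Subgroup.mem_map_of_mem _ (Subgroup.subset_normalClosure hb)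
        rw [h] at this
        exact this
      exact h2 b h1 (hB.2 b hb)
    · rw [eq_top_iff, ← hperf, commutator_eq_closure, Subgroup.closure_le]
      rintro _ ⟨a, b, rfl⟩
      have hdec : ∀ x : P, ∃ s ∈ Subgroup.normalClosure (B : Set P), ∃ z ∈ center P, x = s * z := by
        intro x
        have : π x ∈ (Subgroup.normalClosure (B : Set P)).map π := h ▸ Subgroup.mem_top _
        obtain ⟨s, hs, hsx⟩ := this
        have h4 : s⁻¹ * x ∈ π.ker := by rw [MonoidHom.mem_ker, map_mul, map_inv, hsx, inv_mul_cancel]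
        exact ⟨s, hs, s⁻¹ * x, hker h4, by group⟩
      obtain ⟨s, hs, z, hz, rfl⟩ := hdec a
      obtain ⟨t, ht, w, hw, rfl⟩ := hdec b
      have hz' := Subgroup.mem_center_iff.1 hz
      have hw' := Subgroup.mem_center_iff.1 hw
      have : ⁅s * z, t * w⁆ = s * t * s⁻¹ * t⁻¹ := by
        rw [commutatorElement_def, mul_inv_rev, mul_inv_rev]
        calc s * z * (t * w) * (z⁻¹ * s⁻¹) * (w⁻¹ * t⁻¹)
            = s * (z * (t * w)) * z⁻¹ * s⁻¹ * w⁻¹ * t⁻¹ := by group
          _ = s * (t * w * z) * z⁻¹ * s⁻¹ * w⁻¹ * t⁻¹ := by rw [hz' (t * w)]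
          _ = s * t * (w * s⁻¹) * w⁻¹ * t⁻¹ := by group
          _ = s * t * (s⁻¹ * w) * w⁻¹ * t⁻¹ := by rw [hw' s⁻¹]
          _ = s * t * s⁻¹ * t⁻¹ := by group
      rw [this]
      exact Subgroup.mul_mem _ (Subgroup.mul_mem _ (Subgroup.mul_mem _ hs ht) (Subgroup.inv_mem _ hs))
        (Subgroup.inv_mem _ ht)
  obtain ⟨N, hN, hNe, hmain⟩ := Cfsg.Agent.S1764.result B hB hti hwc
  have hmain := hmain hN
  generalize hSdef : Subgroup.normalClosure (B : Set P) = S at *
  -- the map from S
  let πS : S →* G := π.comp S.subtype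
  have hπS : Function.Surjective πS := by
    intro g
    obtain ⟨x, rfl⟩ := hπ g
    exact ⟨⟨x, hS ▸ Subgroup.mem_top x⟩, rfl⟩
  have hkS : πS.ker ≤ center S := by
    intro x hx
    rw [Subgroup.mem_center_iff]
    intro y
    apply Subtype.ext
    exact Subgroup.mem_center_iff.1 (hker (show (x : P) ∈ π.ker from hx)) y
  have hperfS : commutator S = ⊤ := by
    subst hS
    exact commutator_of_surjective hperf (Subgroup.topEquiv (G := P)).symm.toMonoidHom
      (Subgroup.topEquiv (G := P)).symm.surjective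
  have hNk : N ≤ πS.ker := by
    have hn : (N.map πS).Normal := Subgroup.Normal.map hN πS hπS
    rcases IsSimpleGroup.eq_bot_or_eq_top_of_normal _ hn with h | h
    · intro x hx
      have : πS x ∈ N.map πS := Subgroup.mem_map_of_mem _ hx
      rw [h] at this
      exact this
    · exfalso
      apply hnab
      refine ⟨⟨fun a b => ?_⟩⟩
      have ha : a ∈ N.map πS := h ▸ Subgroup.mem_top a
      have hb : b ∈ N.map πS := h ▸ Subgroup.mem_top b
      obtain ⟨x, hx, rfl⟩ := ha
      obtain ⟨y, hy, rfl⟩ := hb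
      rw [← map_mul, ← map_mul]
      congr 1
      have := hNe.1.is_comm.comm ⟨x, hx⟩ ⟨y, hy⟩
      exact congrArg Subtype.val this
  let f₁ : S ⧸ N →* G := QuotientGroup.lift N πS hNk
  have hf₁ : Function.Surjective f₁ := by
    intro g
    obtain ⟨x, rfl⟩ := hπS g
    exact ⟨(x : S ⧸ N), rfl⟩
  have hkf₁ : f₁.ker ≤ center (S ⧸ N) := by
    intro x hx
    obtain ⟨x, rfl⟩ := QuotientGroup.mk_surjective x
    have h1 : x ∈ center S := hkS (show πS x = 1 from hx)
    rw [Subgroup.mem_center_iff]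
    intro y
    obtain ⟨y, rfl⟩ := QuotientGroup.mk_surjective y
    rw [← QuotientGroup.mk_mul, ← QuotientGroup.mk_mul, Subgroup.mem_center_iff.1 h1 y]
  have hperf₁ : commutator (S ⧸ N) = ⊤ := commutator_quot hperfS N
  rcases hmain with h | ⟨Z, hZ, hmain⟩
  · exfalso
    have h3 : commutator ((S ⧸ N) ⧸ Cfsg.oddCore (S ⧸ N)) = ⊤ := commutator_quot hperf₁ _
    have h4 := eq_one_of_comm h3 h
    have h5 : Cfsg.oddCore (S ⧸ N) = ⊤ := by
      rw [eq_top_iff]
      intro x _
      exact (QuotientGroup.eq_one_iff x).1 (h4 x)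
    have h6 : (Nat.card (Cfsg.oddCore (S ⧸ N))).Coprime 2 := Lib.Cores.pPrimeCore_coprime 2
    rw [h5, Subgroup.card_top] at h6
    obtain ⟨b, hb1⟩ := (Subgroup.ne_bot_iff_exists_ne_one.1 hne)
    have h7 : orderOf (π b) = 2 := by
      have : Fact (Nat.Prime 2) := ⟨Nat.prime_two⟩
      refine orderOf_eq_prime ?_ ?_
      · rw [← map_pow]
        rw [hB.2 _ b.2, map_one]
      · intro h8
        apply hb1
        exact Subtype.ext (h2 _ h8 (hB.2 _ b.2))
    have h8 : 2 ∣ Nat.card G := h7 ▸ orderOf_dvd_natCard (π b)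
    have h9 : Nat.card G ∣ Nat.card (S ⧸ N) := Subgroup.card_dvd_of_surjective f₁ hf₁
    have h10 := Nat.Coprime.eq_one_of_dvd h6.symm (h8.trans h9)
    omega
  · have hZn : Z.Normal := ⟨fun z hz g => by
      have := Subgroup.mem_center_iff.1 (hZ hz) g
      rw [this, mul_inv_cancel_right]
      exact hz⟩
    have hmain := hmain hZn
    have hZk : Z ≤ f₁.ker := by
      intro z hz
      rw [MonoidHom.mem_ker]
      have : f₁ z ∈ center G := by
        rw [Subgroup.mem_center_iff]
        intro g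
        obtain ⟨x, rfl⟩ := hf₁ g
        rw [← map_mul, ← map_mul, Subgroup.mem_center_iff.1 (hZ hz) x]
      rw [hcG] at this
      exact this
    refine ⟨(S ⧸ N) ⧸ Z, inferInstance, QuotientGroup.lift Z f₁ hZk, inferInstance, ?_, ?_, ?_, hmain⟩
    · intro g
      obtain ⟨x, rfl⟩ := hf₁ g
      exact ⟨(x : (S ⧸ N) ⧸ Z), rfl⟩
    · intro x hx
      obtain ⟨x, rfl⟩ := QuotientGroup.mk_surjective x
      have h1 : x ∈ center (S ⧸ N) := hkf₁ (show f₁ x = 1 from hx)
      rw [Subgroup.mem_center_iff]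
      intro y
      obtain ⟨y, rfl⟩ := QuotientGroup.mk_surjective y
      rw [← QuotientGroup.mk_mul, ← QuotientGroup.mk_mul, Subgroup.mem_center_iff.1 h1 y]
    · exact commutator_quot hperf₁ Z

end Cfsg.Agent.H907.Even
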