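import Cfsg.Agent.H576.Ext.Defs
import Cfsg.Prelude.Def_KGroupFacts

/-!
# Groups with cyclic Sylow subgroups, `SylCyc` (helper907, S4832)

* `SC O` : every `ℓ`-subgroup of `O` is cyclic;
* `SC.of_isCyclic`, `SC.of_squarefree`, `SC.of_hom` (extension with coprime orders), `SC.prod`, `SC.of_equiv`;
* `sylCyc_of_sc` : `SC (Out S)` gives `SylCyc S`.
-/

set_option autoImplicit false

open Cfsg

namespace Cfsg.Agent.H907.ExtFree

universe u v

/-- the Sylow subgroups are cyclic -/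
def SC (O : Type u) [Group O] : Prop := ∀ ℓ : ℕ, ℓ.Prime → ∀ Q : Subgroup O, IsPGroup ℓ Q → IsCyclic Q

theorem SC.of_isCyclic {O : Type u} [Group O] (h : IsCyclic O) : SC O := fun _ _ _ _ => inferInstance

theorem SC.of_squarefree {O : Type u} [Group O] [Finite O] (h : Squarefree (Nat.card O)) : SC O := by
  intro ℓ hℓ Q hQ
  have hf : Fact ℓ.Prime := ⟨hℓ⟩
  obtain ⟨k, hk⟩ := hQ.exists_card_eq
  have hd : Nat.card Q ∣ Nat.card O := Subgroup.card_subgroup_dvd_card Q
  rcases Nat.lt_or_ge k 2 with h2 | h2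
  · interval_cases k
    · rw [pow_zero] at hk
      have : Subsingleton Q := (Nat.card_eq_one_iff_unique.1 hk).1
      infer_instance
    · rw [pow_one] at hk
      exact isCyclic_of_prime_card hk
  · exfalso
    have h3 : ℓ * ℓ ∣ Nat.card O := by
      refine Dvd.dvd.trans ?_ hd
      rw [hk, ← pow_two]
      exact pow_dvd_pow ℓ h2
    exact hℓ.one_lt.ne' (Nat.isUnit_iff.1 (h ℓ h3))

theorem SC.of_hom {O : Type u} {C : Type v} [Group O] [Group C] [Finite O] (φ : O →* C) (hk : SC φ.ker) (hC : SC C)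
    (hcop : Nat.Coprime (Nat.card φ.ker) (Nat.card φ.range)) : SC O := by
  intro ℓ hℓ Q hQ
  have hf : Fact ℓ.Prime := ⟨hℓ⟩
  have hfin : Finite φ.range := Finite.of_surjective φ.rangeRestrict φ.rangeRestrict_surjective
  by_cases hd : ℓ ∣ Nat.card φ.range
  · -- injective on `Q`
    have hnd : ¬ ℓ ∣ Nat.card φ.ker := fun h => Nat.not_coprime_of_dvd_of_dvd hℓ.one_lt h hd hcop
    have hinj : Function.Injective (φ.comp Q.subtype) := by
      rw [injective_iff_map_eq_one]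
      rintro ⟨x, hx⟩ hx1
      apply Subtype.ext
      change x = 1
      have h1 : φ x = 1 := hx1
      obtain ⟨k, hk'⟩ := hQ ⟨x, hx⟩
      have h2 : x ^ ℓ ^ k = 1 := congrArg Subtype.val hk'
      have h3 : orderOf x ∣ ℓ ^ k := orderOf_dvd_of_pow_eq_one h2
      have h4 : orderOf x ∣ Nat.card φ.ker := by
        have h5 : orderOf (⟨x, h1⟩ : φ.ker) = orderOf x := Subgroup.orderOf_mk _ _
        rw [← h5]
        exact orderOf_dvd_natCard _
      have h6 : Nat.Coprime (ℓ ^ k) (Nat.card φ.ker) := Nat.Coprime.pow_left _ ((Nat.Prime.coprime_iff_not_dvd hℓ).2 hnd)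
      have h7 : orderOf x = 1 := Nat.eq_one_of_dvd_coprimes h6 h3 h4
      exact orderOf_eq_one_iff.1 h7
    have hcyc : IsCyclic (φ.comp Q.subtype).range := hC ℓ hℓ _ (hQ.of_surjective _ (φ.comp Q.subtype).rangeRestrict_surjective)
    exact isCyclic_of_injective (φ.comp Q.subtype).rangeRestrict (fun a b h => hinj (congrArg Subtype.val h))
  · -- `Q ≤ ker`
    have hle : Q ≤ φ.ker := by
      intro x hx
      rw [MonoidHom.mem_ker]
      obtain ⟨k, hk'⟩ := hQ ⟨x, hx⟩
      have h2 : x ^ ℓ ^ k = 1 := congrArg Subtype.val hk'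
      have h3 : orderOf (φ x) ∣ ℓ ^ k := orderOf_dvd_of_pow_eq_one (by rw [← map_pow, h2, map_one])
      have h4 : orderOf (φ x) ∣ Nat.card φ.range := by
        have h5 : orderOf (⟨φ x, x, rfl⟩ : φ.range) = orderOf (φ x) := Subgroup.orderOf_mk _ _
        rw [← h5]
        exact orderOf_dvd_natCard _
      have h6 : Nat.Coprime (ℓ ^ k) (Nat.card φ.range) := Nat.Coprime.pow_left _ ((Nat.Prime.coprime_iff_not_dvd hℓ).2 hd)
      exact orderOf_eq_one_iff.1 (Nat.eq_one_of_dvd_coprimes h6 h3 h4)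
    have hcyc : IsCyclic (Q.subgroupOf φ.ker) := hk ℓ hℓ _ (hQ.of_equiv (Subgroup.subgroupOfEquivOfLe hle).symm)
    exact isCyclic_of_surjective (Subgroup.subgroupOfEquivOfLe hle) (Subgroup.subgroupOfEquivOfLe hle).surjective

theorem SC.of_equiv {O : Type u} {C : Type v} [Group O] [Group C] (e : O ≃* C) (hC : SC C) : SC O := by
  intro ℓ hℓ Q hQ
  have hcyc : IsCyclic (Q.map e.toMonoidHom) := hC ℓ hℓ _ (hQ.map _)
  let e' := Q.equivMapOfInjective e.toMonoidHom e.injective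
  exact isCyclic_of_surjective e'.symm e'.symm.surjective

theorem SC.prod {A : Type u} {B : Type v} [Group A] [Group B] [Finite A] [Finite B] (hA : SC A) (hB : SC B)
    (hcop : Nat.Coprime (Nat.card A) (Nat.card B)) : SC (A × B) := by
  let e : (MonoidHom.snd A B).ker ≃* A :=
    { toFun := fun x => x.1.1
      invFun := fun a => ⟨(a, 1), rfl⟩
      left_inv := by
        rintro ⟨⟨a, b⟩, hb⟩
        have hb' : b = 1 := hb
        subst hb'
        rfl
      right_inv := fun a => rfl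
      map_mul' := fun x y => rfl }
  refine SC.of_hom (MonoidHom.snd A B) (SC.of_equiv e hA) hB ?_
  rw [Nat.card_congr e.toEquiv]
  have h1 : (MonoidHom.snd A B).range = ⊤ := MonoidHom.range_eq_top.2 Prod.snd_surjective
  rw [h1, Nat.card_congr (Subgroup.topEquiv (G := B)).toEquiv]
  exact hcop

/-- **the Sylow subgroups of `Out S`** -/
theorem sylCyc_of_sc {S : Type u} [Group S] (h : SC (Cfsg.Out S)) : H576.Ext.SylCyc S := by
  intro ℓ hℓ P _ hP
  have h1 : IsCyclic (P.map (QuotientGroup.mk' (Cfsg.Inn S))) := h ℓ hℓ _ (hP.map _)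
  obtain ⟨⟨g, hg⟩, hgen⟩ := h1.exists_generator
  obtain ⟨γ, hγ, rfl⟩ := hg
  refine ⟨γ, hγ, fun α hα => ?_⟩
  obtain ⟨k, hk⟩ := hgen ⟨QuotientGroup.mk' (Cfsg.Inn S) α, α, hα, rfl⟩
  have h2 : (QuotientGroup.mk' (Cfsg.Inn S)) γ ^ k = QuotientGroup.mk' (Cfsg.Inn S) α := congrArg Subtype.val hk
  have h3 : QuotientGroup.mk' (Cfsg.Inn S) (α * (γ ^ k)⁻¹) = 1 := by
    rw [map_mul, map_inv, map_zpow, h2, mul_inv_cancel]
  have h4 : α * (γ ^ k)⁻¹ ∈ Cfsg.Inn S := (QuotientGroup.eq_one_iff _).1 h3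
  obtain ⟨s, hs⟩ := h4
  refine ⟨k, s, ?_⟩
  rw [hs, inv_mul_cancel_right]

end Cfsg.Agent.H907.ExtFree
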