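import Cfsg.Agent.H907.Struct

set_option autoImplicit false

/-!
The extraspecial case of the structure theorem in odd prime degree.
-/

namespace Cfsg.Agent.H907

open Cfsg Cfsg.Geo Matrix
open scoped MatrixGroups commutatorElement

set_option linter.unusedSectionVars false

variable {ι : Type} [Fintype ι] [DecidableEq ι] {F : Type*} [Field F]

theorem isCyclic_scalars [Finite F] : IsCyclic (scalars ι F) :=
  isCyclic_of_surjective (MonoidHom.rangeRestrict _) (MonoidHom.rangeRestrict_surjective _)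

theorem isCyclic_of_scalar_hom [Finite F] {A : Type*} [Group A] (f : A →* GL ι F) (hinj : Function.Injective f)
    (hf : ∀ a, f a ∈ scalars ι F) : IsCyclic A := by
  have := isCyclic_scalars (ι := ι) (F := F)
  apply isCyclic_of_injective (f.codRestrict (scalars ι F) hf)
  intro a b h
  exact hinj (congrArg Subtype.val h)

/-- normalising `NormBy` in both directions gives an automorphism -/
theorem normBy_symm {G : Type*} [Group G] {H R : Subgroup G} (h : NormBy H R) {g : G} (hg : g ∈ H) {x : G}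
    (hx : x ∈ R) : g⁻¹ * x * g ∈ R := by
  have := h g⁻¹ (H.inv_mem hg) x hx
  simpa using this

/-- conjugation by a normalising element as an automorphism of the subgroup. -/
def conjAut {G : Type*} [Group G] (R : Subgroup G) (g : G) (h1 : ∀ x ∈ R, g * x * g⁻¹ ∈ R)
    (h2 : ∀ x ∈ R, g⁻¹ * x * g ∈ R) : R ≃* R where
  toFun x := ⟨g * x * g⁻¹, h1 x x.2⟩
  invFun x := ⟨g⁻¹ * x * g, h2 x x.2⟩
  left_inv x := by ext; simp [mul_assoc]
  right_inv x := by ext; simp [mul_assoc]
  map_mul' x y := by ext; simp [mul_assoc]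

theorem normBy_map_char {G : Type*} [Group G] {H R : Subgroup G} (h : NormBy H R) (A : Subgroup R)
    (hA : A.Characteristic) : NormBy H (A.map R.subtype) := by
  rintro g hg _ ⟨a, ha, rfl⟩
  set φ := conjAut R g (fun x hx => h g hg x hx) (fun x hx => normBy_symm h hg hx) with hφ
  have h1 : A.map φ.toMonoidHom = A := Subgroup.characteristic_iff_map_eq.1 hA φ
  have h2 : φ a ∈ A := by
    rw [← h1]; exact ⟨a, ha, rfl⟩
  exact ⟨φ a, h2, rfl⟩

theorem not_comm_of_absIrr {r : ℕ} (hr : r.Prime) (hcard : Fintype.card ι = r) {N : Subgroup (GL ι F)}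
    (hN : ActsAbsolutelyIrreducibly (matrixSet N)) : ¬ ∀ a ∈ N, ∀ b ∈ N, a * b = b * a := by
  intro hc
  obtain ⟨g, hg, hgs⟩ := exists_not_scalar_of_irr hr hcard hN.1
  apply hgs
  obtain ⟨c, hc'⟩ := hN.2 (g : Matrix ι ι F) (by
    rintro _ ⟨n, hn, rfl⟩
    simp only
    rw [← Units.val_mul, ← Units.val_mul, hc g hg n hn])
  exact ⟨c, hc'⟩

theorem not_le_scalars_of_absIrr {r : ℕ} (hr : r.Prime) (hcard : Fintype.card ι = r) {N : Subgroup (GL ι F)}
    (hN : ActsAbsolutelyIrreducibly (matrixSet N)) : ¬ N ≤ scalars ι F := by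
  intro h
  exact not_comm_of_absIrr hr hcard hN fun a ha b _ => comm_of_scalar (h ha) b

theorem extraspecial_case [Finite F] {r : ℕ} (hr : r.Prime) (hr2 : r ≠ 2) (hcard : Fintype.card ι = r)
    {H M : Subgroup (GL ι F)}
    (hq : ∀ N ≤ H, NormBy H N → N ≤ scalars ι F ∨ ActsAbsolutelyIrreducibly (matrixSet N))
    (hMH : M ≤ H) (hMn : NormBy H M) (hMZ : ¬ M ≤ scalars ι F)
    (hcom : ∀ a ∈ M, ∀ b ∈ M, a * b * a⁻¹ * b⁻¹ ∈ scalars ι F) {s : ℕ} (hs : s.Prime)
    (hpow : ∀ x ∈ M, x ^ s ∈ scalars ι F) :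
    ∃ R ≤ H, NormBy H R ∧ IsSymplecticTypeGroup r R ∧ ActsAbsolutelyIrreducibly (matrixSet R) ∧
      Nat.card R = r ^ 3 ∧ Nat.card (Subgroup.center R) = r ∧ (∀ x ∈ R, x ^ r = 1) ∧
      (∀ a ∈ R, ∀ b ∈ R, a * b * a⁻¹ * b⁻¹ ∈ scalars ι F) := by
  classical
  have hne : Nonempty ι := by
    rw [← Fintype.card_pos_iff, hcard]; exact hr.pos
  have hfinGL : Finite (GL ι F) := inferInstance
  have hMabs := (hq M hMH hMn).resolve_left hMZ
  have hMnc := not_comm_of_absIrr hr hcard hMabs
  -- commutators are killed by `s`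
  have hcs : ∀ a ∈ M, ∀ b ∈ M, (a * b * a⁻¹ * b⁻¹) ^ s = 1 := by
    intro a ha b hb
    set c := a * b * a⁻¹ * b⁻¹ with hc
    have hcc := hcom a ha b hb
    have h1 : a * b * a⁻¹ = c * b := by rw [hc]; group
    have h2 : (a * b * a⁻¹) ^ s = b ^ s := by
      rw [conj_pow, ← comm_of_scalar (hpow b hb) a]; group
    have h3 : (c * b) ^ s = c ^ s * b ^ s := (show Commute c b from comm_of_scalar hcc b).mul_pow s
    rw [h1, h3] at h2
    exact mul_eq_right.1 h2
  -- a non-trivial commutator
  push Not at hMnc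
  obtain ⟨x, hx, y, hy, hxy⟩ := hMnc
  set c := x * y * x⁻¹ * y⁻¹ with hc
  have hc1 : c ≠ 1 := by
    intro h
    apply hxy
    rw [hc, mul_inv_eq_one, mul_inv_eq_iff_eq_mul] at h
    exact h
  have hcS : c ∈ scalars ι F := hcom x hx y hy
  have hcs1 : c ^ s = 1 := hcs x hx y hy
  have hordc : orderOf c = s := by
    rcases (Nat.dvd_prime hs).1 (orderOf_dvd_of_pow_eq_one hcs1) with h | h
    · exact absurd (orderOf_eq_one_iff.1 h) hc1
    · exact h
  have hcr : c ^ r = 1 := by
    obtain ⟨u, hu⟩ := (mem_scalars_iff c).1 hcS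
    have h1 : x * y * x⁻¹ = c * y := by rw [hc]; group
    have h2 := congrArg (fun g : GL ι F => Matrix.det (g : Matrix ι ι F)) h1
    simp only [Units.val_mul, Matrix.det_mul, hu] at h2
    rw [Matrix.det_smul, Matrix.det_one, mul_one, hcard] at h2
    have h3 : Matrix.det (x : Matrix ι ι F) * Matrix.det ((x⁻¹ : GL ι F) : Matrix ι ι F) = 1 := by
      rw [← Matrix.det_mul, ← Units.val_mul, mul_inv_cancel, Units.val_one, Matrix.det_one]
    have h4 : Matrix.det (y : Matrix ι ι F) ≠ 0 := by
      have : IsUnit (Matrix.det (y : Matrix ι ι F)) := (Matrix.isUnit_iff_isUnit_det _).1 y.isUnit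
      exact this.ne_zero
    have h5 : (u : F) ^ r = 1 := by
      have : Matrix.det (y : Matrix ι ι F) = (u : F) ^ r * Matrix.det (y : Matrix ι ι F) := by
        rw [← h2]
        calc _ = (Matrix.det (x : Matrix ι ι F) * Matrix.det ((x⁻¹ : GL ι F) : Matrix ι ι F)) *
            Matrix.det (y : Matrix ι ι F) := by rw [h3, one_mul]
          _ = _ := by ring
      exact (mul_eq_right₀ h4).1 this.symm
    apply Units.ext
    rw [Units.val_pow_eq_pow_val, hu, smul_pow, one_pow, h5, one_smul, Units.val_one]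
  have hsr : s = r := by
    have h1 := orderOf_dvd_of_pow_eq_one hcr
    rw [hordc] at h1
    exact (Nat.prime_dvd_prime_iff_eq hs hr).1 h1
  subst hsr
  have hodd : Odd s := hr.odd_of_ne_two hr2
  -- the power map is multiplicative on `M`
  have hmulpow : ∀ a ∈ M, ∀ b ∈ M, (a * b) ^ s = a ^ s * b ^ s := by
    intro a ha b hb
    set z := b⁻¹ * a⁻¹ * b⁻¹⁻¹ * a⁻¹⁻¹ with hz
    have hzs : z ∈ scalars ι F := hcom _ (M.inv_mem hb) _ (M.inv_mem ha)
    have h1 : b * a = a * b * z := by rw [hz]; group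
    have h2 := mul_pow_class_two h1 (comm_of_scalar hzs a) (comm_of_scalar hzs b) s
    have h3 : z ^ (s * (s - 1) / 2) = 1 := by
      obtain ⟨k, hk⟩ := hodd
      have h4 : s * (s - 1) / 2 = s * k := by
        rw [hk]; simp only [Nat.add_sub_cancel]
        rw [show (2 * k + 1) * (2 * k) = (2 * k + 1) * k * 2 by ring, Nat.mul_div_cancel _ two_pos]
      rw [h4, pow_mul, hcs _ (M.inv_mem hb) _ (M.inv_mem ha), one_pow]
    rw [h2, h3, mul_one]
  let R : Subgroup (GL ι F) :=
    { carrier := {g | g ∈ M ∧ g ^ s = 1}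
      mul_mem' := by
        rintro a b ⟨ha, ha'⟩ ⟨hb, hb'⟩
        exact ⟨M.mul_mem ha hb, by rw [hmulpow a ha b hb, ha', hb', one_mul]⟩
      one_mem' := ⟨M.one_mem, one_pow _⟩
      inv_mem' := by
        rintro a ⟨ha, ha'⟩
        exact ⟨M.inv_mem ha, by rw [inv_pow, ha', inv_one]⟩ }
  have hRM : R ≤ M := fun g hg => hg.1
  have hRpow : ∀ g ∈ R, g ^ s = 1 := fun g hg => hg.2
  have hRn : NormBy H R := by
    intro h hh g hg
    refine ⟨hMn h hh g hg.1, ?_⟩
    rw [conj_pow, hg.2, mul_one, mul_inv_cancel]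
  have hRZ : ¬ R ≤ scalars ι F := by
    intro hRS
    have := isCyclic_scalars (ι := ι) (F := F)
    let f : M →* scalars ι F :=
      { toFun := fun g => ⟨(g : GL ι F) ^ s, hpow g g.2⟩
        map_one' := by ext1; simp
        map_mul' := fun a b => by ext1; exact hmulpow a a.2 b b.2 }
    have hker : f.ker ≤ Subgroup.center M := by
      intro g hg
      have hg' : (g : GL ι F) ^ s = 1 := congrArg Subtype.val hg
      have hg2 : (g : GL ι F) ∈ scalars ι F := hRS ⟨g.2, hg'⟩
      rw [Subgroup.mem_center_iff]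
      intro a
      ext1
      exact (comm_of_scalar hg2 a).symm
    have hcm := (f.isMulCommutative_of_isCyclic_of_ker_le_center hker).is_comm.comm
    apply hxy
    exact congrArg Subtype.val (hcm ⟨x, hx⟩ ⟨y, hy⟩)
  have hRabs := (hq R (hRM.trans hMH) hRn).resolve_left hRZ
  have hRnc := not_comm_of_absIrr hr hcard hRabs
  have hcR : c ∈ R := ⟨M.mul_mem (M.mul_mem (M.mul_mem hx hy) (M.inv_mem hx)) (M.inv_mem hy), hcs1⟩
  -- centre of R
  have hcenter : Subgroup.center R = (scalars ι F).subgroupOf R := by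
    ext g
    rw [Subgroup.mem_subgroupOf, Subgroup.mem_center_iff]
    constructor
    · intro hg
      apply mem_scalars_of_comm hRabs
      intro n hn
      exact (congrArg Subtype.val (hg ⟨n, hn⟩)).symm
    · intro hg n
      ext1
      exact (comm_of_scalar hg n).symm
  have hcyc : IsCyclic (Subgroup.center R) := by
    apply isCyclic_of_scalar_hom (R.subtype.comp (Subgroup.center R).subtype)
      (R.subtype_injective.comp (Subgroup.center R).subtype_injective)
    intro a
    have h1 : (a : R) ∈ (scalars ι F).subgroupOf R := hcenter ▸ a.2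
    exact Subgroup.mem_subgroupOf.1 h1
  have hcardc : Nat.card (Subgroup.center R) = s := by
    have h1 : Nat.card (Subgroup.center R) ∣ s := by
      rw [← IsCyclic.exponent_eq_card]
      apply Monoid.exponent_dvd_of_forall_pow_eq_one
      intro g
      apply Subtype.ext
      apply Subtype.ext
      exact hRpow _ (g : R).2
    rcases (Nat.dvd_prime hr).1 h1 with h2 | h2
    · exfalso
      have h3 : (⟨c, hcR⟩ : R) ∈ Subgroup.center R := by
        rw [hcenter, Subgroup.mem_subgroupOf]; exact hcS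
      rw [Subgroup.card_eq_one] at h2
      rw [h2, Subgroup.mem_bot] at h3
      exact hc1 (congrArg Subtype.val h3)
    · exact h2
  have hpg : IsPGroup s R := by
    intro g
    exact ⟨1, by rw [pow_one]; exact Subtype.ext (hRpow _ g.2)⟩
  have hfact : Fact s.Prime := ⟨hr⟩
  have hRcom : ∀ a ∈ R, ∀ b ∈ R, a * b * a⁻¹ * b⁻¹ ∈ scalars ι F := fun a ha b hb => hcom a ha.1 b hb.1
  have hcardR : Nat.card R = s ^ 3 := by
    have h1 : Nat.card R = Nat.card (R ⧸ Subgroup.center R) * Nat.card (Subgroup.center R) :=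
      Subgroup.card_eq_card_quotient_mul_card_subgroup _
    have h2 : Nat.card (R ⧸ Subgroup.center R) ≤ s ^ 2 := by
      rw [hcenter, ← hcard]
      exact card_quot_le hRcom (fun a _ hb => mem_scalars_of_comm hRabs hb)
    have h3 : IsPGroup s (R ⧸ Subgroup.center R) := hpg.to_quotient _
    obtain ⟨k, hk⟩ := IsPGroup.iff_card.1 h3
    have hk2 : k ≤ 2 := by
      rw [hk] at h2
      exact (Nat.pow_le_pow_iff_right hr.one_lt).1 h2
    have hk0 : ¬ k ≤ 1 := by
      intro hk1
      apply hRnc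
      have h4 : IsCyclic (R ⧸ Subgroup.center R) := by
        interval_cases k
        · rw [pow_zero] at hk
          have : Subsingleton (R ⧸ Subgroup.center R) := (Nat.card_eq_one_iff_unique.1 hk).1
          infer_instance
        · rw [pow_one] at hk
          exact isCyclic_of_prime_card hk
      have h5 := ((QuotientGroup.mk' (Subgroup.center R)).isMulCommutative_of_isCyclic_of_ker_le_center (by simp)).is_comm.comm
      intro a ha b hb
      exact congrArg Subtype.val (h5 ⟨a, ha⟩ ⟨b, hb⟩)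
    have hk3 : k = 2 := by omega
    rw [h1, hk, hk3, hcardc]; ring
  have hexp : Monoid.exponent R = s * Nat.gcd 2 s := by
    have h1 : Nat.gcd 2 s = 1 := (Nat.coprime_primes Nat.prime_two hr).2 (Ne.symm hr2)
    rw [h1, mul_one]
    have h2 : Monoid.exponent R ∣ s :=
      Monoid.exponent_dvd_of_forall_pow_eq_one (fun g => Subtype.ext (hRpow _ g.2))
    rcases (Nat.dvd_prime hr).1 h2 with h3 | h3
    · exfalso
      rw [Monoid.exp_eq_one_iff] at h3
      apply hc1
      exact congrArg Subtype.val (Subsingleton.elim (⟨c, hcR⟩ : R) 1)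
    · exact h3
  refine ⟨R, hRM.trans hMH, hRn, ⟨hr, hpg, ?_, hexp⟩, hRabs, hcardR, hcardc, hRpow, hRcom⟩
  intro A hA hAc
  have hAn := normBy_map_char hRn A hA
  have hAS : A.map R.subtype ≤ scalars ι F := by
    rcases hq _ ((Subgroup.map_subtype_le A).trans (hRM.trans hMH)) hAn with h | h
    · exact h
    · exfalso
      apply not_comm_of_absIrr hr hcard h
      rintro _ ⟨a, ha, rfl⟩ _ ⟨b, hb, rfl⟩
      have := hAc.is_comm.comm ⟨a, ha⟩ ⟨b, hb⟩
      have h2 : a * b = b * a := congrArg Subtype.val this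
      rw [← map_mul, ← map_mul, h2]
  apply isCyclic_of_scalar_hom (R.subtype.comp A.subtype) (R.subtype_injective.comp A.subtype_injective)
  intro a
  exact hAS ⟨a, a.2, rfl⟩

end Cfsg.Agent.H907
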