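import Cfsg.Agent.H907.Schur
import Cfsg.Agent.H907.Dichotomy

set_option autoImplicit false

/-!
The structure of irreducible linear groups of odd prime degree over a finite field (Aschbacher's theorem in prime
degree, part 1).
-/

namespace Cfsg.Agent.H907

open Cfsg Cfsg.Geo Matrix
open scoped MatrixGroups commutatorElement

set_option linter.unusedSectionVars false

section classTwo

variable {G : Type*} [Group G]

theorem mul_pow_class_two {a b z : G} (hz : b * a = a * b * z) (hza : z * a = a * z) (hzb : z * b = b * z) (n : ℕ) :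
    (a * b) ^ n = a ^ n * b ^ n * z ^ (n * (n - 1) / 2) := by
  have hza' : ∀ m : ℕ, z ^ m * a = a * z ^ m := fun m => ((show Commute z a from hza).pow_left m).eq
  have hzb' : ∀ m : ℕ, z ^ m * b = b * z ^ m := fun m => ((show Commute z b from hzb).pow_left m).eq
  have hba : ∀ m : ℕ, b ^ m * a = a * b ^ m * z ^ m := by
    intro m
    induction m with
    | zero => simp
    | succ m ih =>
      calc b ^ (m + 1) * a = b ^ m * (b * a) := by rw [pow_succ, mul_assoc]
        _ = (b ^ m * a) * b * z := by rw [hz]; simp only [mul_assoc]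
        _ = a * b ^ m * z ^ m * b * z := by rw [ih]
        _ = a * b ^ m * (z ^ m * b) * z := by simp only [mul_assoc]
        _ = a * b ^ m * (b * z ^ m) * z := by rw [hzb']
        _ = a * b ^ (m + 1) * z ^ (m + 1) := by rw [pow_succ b, pow_succ z]; simp only [mul_assoc]
  induction n with
  | zero => simp
  | succ n ih =>
    have e : (n + 1) * (n + 1 - 1) / 2 = n + n * (n - 1) / 2 := by
      have := Finset.sum_range_id_mul_two (n + 1)
      have h2 := Finset.sum_range_id_mul_two n
      rw [Finset.sum_range_succ, add_mul, h2] at this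
      omega
    calc (a * b) ^ (n + 1) = (a * b) ^ n * (a * b) := pow_succ _ _
      _ = a ^ n * b ^ n * z ^ (n * (n - 1) / 2) * (a * b) := by rw [ih]
      _ = a ^ n * b ^ n * (z ^ (n * (n - 1) / 2) * a) * b := by simp only [mul_assoc]
      _ = a ^ n * (b ^ n * a) * z ^ (n * (n - 1) / 2) * b := by rw [hza']; simp only [mul_assoc]
      _ = a ^ n * (a * b ^ n * z ^ n) * (z ^ (n * (n - 1) / 2) * b) := by rw [hba]; simp only [mul_assoc]
      _ = a ^ n * a * b ^ n * (z ^ n * b) * z ^ (n * (n - 1) / 2) := by rw [hzb']; simp only [mul_assoc]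
      _ = a ^ (n + 1) * b ^ (n + 1) * (z ^ n * z ^ (n * (n - 1) / 2)) := by
        rw [hzb', pow_succ a, pow_succ b]; simp only [mul_assoc]
      _ = _ := by rw [← pow_add, e]

end classTwo

variable {ι : Type} [Fintype ι] [DecidableEq ι] {F : Type*} [Field F]

theorem comm_of_scalar {s : GL ι F} (hs : s ∈ scalars ι F) (g : GL ι F) : s * g = g * s := by
  rw [mem_scalars_iff] at hs
  obtain ⟨c, hc⟩ := hs
  apply Units.ext
  rw [Units.val_mul, Units.val_mul, hc]
  simp

theorem mem_scalars_of_comm {N : Subgroup (GL ι F)} (hN : ActsAbsolutelyIrreducibly (matrixSet N)) {g : GL ι F}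
    (hg : ∀ n ∈ N, g * n = n * g) [Nonempty ι] : g ∈ scalars ι F := by
  rw [mem_scalars_iff]
  obtain ⟨c, hc⟩ := hN.2 (g : Matrix ι ι F) (by
    rintro _ ⟨n, hn, rfl⟩
    simp only
    rw [← Units.val_mul, ← Units.val_mul, hg n hn])
  have hc0 : c ≠ 0 := by
    rintro rfl
    rw [zero_smul] at hc
    exact g.ne_zero hc
  exact ⟨Units.mk0 c hc0, hc⟩

/-- In the third case of Clifford's theorem the normal subgroup is commutative. -/
theorem comm_of_eig {t : ℕ} {N : Subgroup (GL ι F)} (D : Fin t → Submodule F (ι → F)) (hD : iSup D = ⊤)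
    (χ : Fin t → N → F) (h : ∀ i, D i = eig N (χ i)) : ∀ a ∈ N, ∀ b ∈ N, a * b = b * a := by
  intro a ha b hb
  have hle : (⊤ : Submodule F (ι → F)) ≤
      LinearMap.ker (Matrix.toLin' ((a : Matrix ι ι F) * (b : Matrix ι ι F) - (b : Matrix ι ι F) * (a : Matrix ι ι F))) := by
    rw [← hD]
    apply iSup_le
    intro i
    rw [h i]
    intro v hv
    rw [LinearMap.mem_ker, Matrix.toLin'_apply, Matrix.sub_mulVec, ← Matrix.mulVec_mulVec, ← Matrix.mulVec_mulVec]
    have h1 := hv ⟨a, ha⟩
    have h2 := hv ⟨b, hb⟩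
    simp only at h1 h2
    rw [h1, h2, Matrix.mulVec_smul, Matrix.mulVec_smul, h1, h2, smul_comm, sub_self]
  have h3 : Matrix.toLin' ((a : Matrix ι ι F) * (b : Matrix ι ι F) - (b : Matrix ι ι F) * (a : Matrix ι ι F)) = 0 := by
    rw [← LinearMap.ker_eq_top]
    exact le_antisymm le_top hle
  have h4 : (a : Matrix ι ι F) * (b : Matrix ι ι F) - (b : Matrix ι ι F) * (a : Matrix ι ι F) = 0 := by
    apply Matrix.toLin'.injective
    rw [h3, map_zero]
  apply Units.ext
  rw [Units.val_mul, Units.val_mul]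
  exact sub_eq_zero.1 h4

/-- conjugation by an invertible matrix as a linear map on matrices. -/
def conjLin (x : GL ι F) : Module.End F (Matrix ι ι F) where
  toFun A := (x : Matrix ι ι F) * A * ((x⁻¹ : GL ι F) : Matrix ι ι F)
  map_add' A B := by rw [mul_add, add_mul]
  map_smul' c A := by simp

theorem conjLin_apply (x : GL ι F) (A : Matrix ι ι F) :
    conjLin x A = (x : Matrix ι ι F) * A * ((x⁻¹ : GL ι F) : Matrix ι ι F) := rfl

theorem conjLin_mul (x y : GL ι F) : conjLin (x * y) = conjLin x * conjLin (F := F) y := by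
  apply LinearMap.ext
  intro A
  rw [Module.End.mul_apply, conjLin_apply, conjLin_apply, conjLin_apply, _root_.mul_inv_rev, Units.val_mul, Units.val_mul]
  simp only [mul_assoc]

theorem conjLin_scalar {x : GL ι F} (hx : x ∈ scalars ι F) : conjLin x = (1 : Module.End F (Matrix ι ι F)) := by
  rw [mem_scalars_iff] at hx
  obtain ⟨c, hc⟩ := hx
  apply LinearMap.ext
  intro A
  rw [conjLin_apply, hc, scalar_mem_center, ← hc, mul_assoc, ← Units.val_mul, mul_inv_cancel]
  simp

/-- If `N` has scalar commutators and only scalars in `N` are central in `N`, then `|N / scalars| ≤ n²`. -/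
theorem card_quot_le [Nonempty ι] {N : Subgroup (GL ι F)} [Finite N]
    (hcom : ∀ a ∈ N, ∀ b ∈ N, a * b * a⁻¹ * b⁻¹ ∈ scalars ι F)
    (hcen : ∀ a ∈ N, (∀ b ∈ N, a * b = b * a) → a ∈ scalars ι F) :
    Nat.card (N ⧸ (scalars ι F).subgroupOf N) ≤ Fintype.card ι ^ 2 := by
  classical
  have hind := Module.End.independent_iInf_maxGenEigenspace_of_forall_mapsTo
    (fun x : N => conjLin (x : GL ι F)) (by
      intro i j φ
      apply Module.End.mapsTo_maxGenEigenspace_of_comm
      change conjLin (j : GL ι F) * conjLin (i : GL ι F) = conjLin (i : GL ι F) * conjLin (j : GL ι F)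
      rw [← conjLin_mul, ← conjLin_mul]
      have : (j : GL ι F) * i = ((j : GL ι F) * i * (j : GL ι F)⁻¹ * (i : GL ι F)⁻¹) * (i * j) := by group
      rw [this, conjLin_mul, conjLin_scalar (hcom _ j.2 _ i.2), one_mul])
  -- the scalar attached to a pair
  have hsc : ∀ a b : N, ∃ c : F, (((b : GL ι F) * a * (b : GL ι F)⁻¹ * (a : GL ι F)⁻¹ : GL ι F) : Matrix ι ι F)
      = c • (1 : Matrix ι ι F) := by
    intro a b
    obtain ⟨c, hc⟩ := (mem_scalars_iff _).1 (hcom b b.2 a a.2)
    exact ⟨c, hc⟩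
  choose χ hχ using hsc
  -- representatives
  let Q := N ⧸ (scalars ι F).subgroupOf N
  have hinj : Function.Injective (fun q : Q => χ q.out) := by
    intro p q hpq
    rw [← QuotientGroup.out_eq' p, ← QuotientGroup.out_eq' q]
    apply QuotientGroup.eq.2
    rw [Subgroup.mem_subgroupOf]
    apply hcen _ ((p.out)⁻¹ * q.out).2
    intro b hb
    have h1 := hχ p.out ⟨b, hb⟩
    have h2 := hχ q.out ⟨b, hb⟩
    have h3 : χ p.out ⟨b, hb⟩ = χ q.out ⟨b, hb⟩ := congrFun hpq ⟨b, hb⟩
    rw [← h3, ← h1] at h2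
    have h4 := Units.ext h2
    simp only at h4
    set P : GL ι F := (Quotient.out p).val
    set R : GL ι F := (Quotient.out q).val
    have h5 : ((p.out⁻¹ * q.out : N) : GL ι F) = P⁻¹ * R := rfl
    rw [h5]
    have h6 : b * R * b⁻¹ = (b * P * b⁻¹ * P⁻¹) * R := by rw [← h4]; group
    have h7 : b * P⁻¹ * b⁻¹ = P⁻¹ * (b * P * b⁻¹ * P⁻¹)⁻¹ := by group
    have h8 : b * (P⁻¹ * R) * b⁻¹ = P⁻¹ * R := by
      calc b * (P⁻¹ * R) * b⁻¹ = (b * P⁻¹ * b⁻¹) * (b * R * b⁻¹) := by group
        _ = P⁻¹ * (b * P * b⁻¹ * P⁻¹)⁻¹ * ((b * P * b⁻¹ * P⁻¹) * R) := by rw [h6, h7]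
        _ = P⁻¹ * R := by group
    rw [mul_inv_eq_iff_eq_mul] at h8
    exact h8.symm
  have hlin : LinearIndependent F (fun q : Q => ((q.out : GL ι F) : Matrix ι ι F)) := by
    refine (hind.comp hinj).linearIndependent _ ?_ (fun q => Units.ne_zero _)
    intro q
    simp only [Function.comp_apply]
    rw [Submodule.mem_iInf]
    intro x
    apply (Module.End.mem_maxGenEigenspace _ _ _).2
    refine ⟨1, ?_⟩
    rw [pow_one]
    have h1 := hχ q.out x
    have h2 : conjLin (x : GL ι F) (((q.out : N) : GL ι F) : Matrix ι ι F) =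
        χ q.out x • (((q.out : N) : GL ι F) : Matrix ι ι F) := by
      rw [conjLin_apply]
      have h3 : (x : GL ι F) * (q.out : N) * (x : GL ι F)⁻¹ =
        ((x : GL ι F) * (q.out : N) * (x : GL ι F)⁻¹ * ((q.out : N) : GL ι F)⁻¹) * (q.out : N) := by group
      rw [← Units.val_mul, ← Units.val_mul, h3, Units.val_mul, h1]
      simp
    simp [h2]
  have hfin : Finite Q := inferInstance
  have : Fintype Q := Fintype.ofFinite Q
  have h1 := hlin.fintype_card_le_finrank
  rw [Module.finrank_matrix, Module.finrank_self, mul_one] at h1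
  rw [Nat.card_eq_fintype_card]
  calc _ ≤ _ := h1
    _ = _ := by rw [sq]

end Cfsg.Agent.H907
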